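import Cfsg.Agent.Lib.HeModel.Gens
import Cfsg.Agent.Lib.Presented.HeCosets
import Cfsg.Agent.Lib.Presented.HeSimple
import Cfsg.Agent.Lib.Fusion48.RepTable

/-!
The presented Held group inside GL(51,2): codes of its elements.
-/

set_option autoImplicit false

namespace CfsgLib.HeModel

open CfsgLib.Sporadic CfsgLib.Presented CfsgLib.Fusion48.RepTable

/-- A matrix as a unit, if it squares to one. -/
noncomputable def unitOf (c : ℕ) : GL (Fin 51) (ZMod 2) :=
  if h : decF2 51 c * decF2 51 c = 1 then ⟨decF2 51 c, decF2 51 c, h, h⟩ else 1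

theorem dec_idC : decF2 51 idC = (1 : Matrix (Fin 51) (Fin 51) (ZMod 2)) := decF2_oneF2

theorem canon_mul : ∀ a b, canonF2 51 (mulF2 51 a b) = true := by
  intro a b
  rw [canonF2, Nat.blt_eq]
  have h : ∀ m ≤ 51, xorUpto (fun k => ((a >>> k) &&& colMask 51 51) * ((b >>> (51 * k)) % 2 ^ 51)) m
      < 2 ^ (51 * 51) := by
    intro m
    induction m with
    | zero => intro _; exact Nat.two_pow_pos _
    | succ m ih =>
      intro hm
      refine Nat.xor_lt_two_pow (ih (by omega)) ?_
      have h1 : (a >>> m) &&& colMask 51 51 ≤ colMask 51 51 := Nat.and_le_right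
      have h2 : (b >>> (51 * m)) % 2 ^ 51 ≤ 2 ^ 51 - 1 :=
        Nat.le_sub_one_of_lt (Nat.mod_lt _ (Nat.two_pow_pos _))
      refine Nat.lt_of_le_of_lt (Nat.mul_le_mul h1 h2) ?_
      decide +kernel
  exact h 51 le_rfl

theorem gens_facts : gens.length = 7 ∧ (∀ c ∈ gens, canonF2 51 c = true ∧ mulF2 51 c c = idC) ∧
    gens.getD 0 idC ≠ idC := by
  have h := gens_ok
  simp only [Bool.and_eq_true, beq_iff_eq, List.all_eq_true, bne_iff_ne] at h
  exact ⟨h.1.1, h.1.2, h.2⟩

theorem unitOf_val (i : ℕ) : ((unitOf (gens.getD i idC) : GL (Fin 51) (ZMod 2)) :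
    Matrix (Fin 51) (Fin 51) (ZMod 2)) = decF2 51 (gens.getD i idC) := by
  have h : decF2 51 (gens.getD i idC) * decF2 51 (gens.getD i idC) = 1 := by
    rcases getD_cases gens i idC with hi | hi
    · rw [← decF2_mulF2, (gens_facts.2.1 _ hi).2, dec_idC]
    · rw [hi, dec_idC, one_mul]
  rw [unitOf, dif_pos h]

/-- The images of the generators. -/
noncomputable def imgGen (g : Cfsg.Spor.He.Gen) : GL (Fin 51) (ZMod 2) := unitOf (gens.getD (HeCosets.idxOf g) idC)

theorem ev_any {Γ : Type*} [Group Γ] (f : ℕ → Γ) {x : ℕ} (hx : x < 7) :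
    (HeCosets.letters.ev fun g => f (HeCosets.idxOf g)) x = f x := by
  have h7 : HeCert.alphabet.eps = 7 := rfl
  rw [Letters.ev, if_pos (show x < HeCosets.letters.A.eps from h7.symm ▸ hx)]
  interval_cases x <;> rfl

theorem ev_letters {x : ℕ} (hx : x < 7) :
    (HeCosets.letters.ev imgGen) x = unitOf (gens.getD x idC) :=
  ev_any (fun i => unitOf (gens.getD i idC)) hx

theorem word_val : ∀ w : List ℕ, (∀ x ∈ w, x < 7) →
    ((evW (HeCosets.letters.ev imgGen) w : GL (Fin 51) (ZMod 2)) : Matrix (Fin 51) (Fin 51) (ZMod 2)) =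
      decF2 51 (word w) := by
  intro w
  induction w with
  | nil => intro _; exact dec_idC.symm
  | cons x w ih =>
    intro h
    show _ = decF2 51 (mulF2 51 (gens.getD x idC) (word w))
    rw [evW_cons, Units.val_mul, ih fun y hy => h y (List.mem_cons_of_mem _ hy), ev_letters (h x List.mem_cons_self),
      unitOf_val, decF2_mulF2]

theorem relWords_lt : HeCert.relWords.all (fun w => w.all fun x => Nat.blt x 7) = true := by decide +kernel

theorem img_kills : ∀ r ∈ Cfsg.Spor.coxRelators Cfsg.Spor.He.edges ∪ {r | r ∈ Cfsg.Spor.He.extra},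
    FreeGroup.lift imgGen r = 1 := by
  have hw : ∀ w ∈ HeCert.relWords, evW (HeCosets.letters.ev imgGen) w = 1 := by
    intro w hw
    refine Units.ext ?_
    have hlt := List.all_eq_true.mp relWords_lt w hw
    rw [List.all_eq_true] at hlt
    rw [word_val w (fun x hx => by simpa [Nat.blt_eq] using hlt x hx), beq_iff_eq.mp (List.all_eq_true.mp rels_ok w hw),
      dec_idC]
    rfl
  refine Letters.kills HeCosets.letters_valid HeCosets.nodes_valid HeCosets.full (fun g _ => ?_)
    (fun w h => hw w (HeCosets.relWords_eq ▸ List.mem_append.2 (Or.inl h)))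
    (fun w h => hw w (HeCosets.relWords_eq ▸ List.mem_append.2 (Or.inr h)))
  refine Units.ext ?_
  rw [Units.val_mul, imgGen, unitOf_val, ← decF2_mulF2]
  rcases getD_cases gens (HeCosets.idxOf g) idC with hi | hi
  · rw [(gens_facts.2.1 _ hi).2, dec_idC]; rfl
  · rw [hi, decF2_mulF2, dec_idC, one_mul]; rfl

/-- The representation. -/
noncomputable def rho : Cfsg.Spor.He →* GL (Fin 51) (ZMod 2) := PresentedGroup.toGroup img_kills

theorem rho_of (g : Cfsg.Spor.He.Gen) : rho (PresentedGroup.of g) = imgGen g := PresentedGroup.toGroup.of _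

theorem rho_injective : Function.Injective rho := by
  have := HeSimple.simple
  rw [← MonoidHom.ker_eq_bot_iff]
  refine ((MonoidHom.normal_ker rho).eq_bot_or_eq_top).resolve_right fun htop => gens_facts.2.2 ?_
  have h1 : rho (PresentedGroup.of Cfsg.Spor.He.Gen.a) = 1 := MonoidHom.mem_ker.mp (htop ▸ Subgroup.mem_top _)
  rw [rho_of] at h1
  have h2 := congrArg (fun u : GL (Fin 51) (ZMod 2) => (u : Matrix (Fin 51) (Fin 51) (ZMod 2))) h1
  change ((imgGen Cfsg.Spor.He.Gen.a : GL (Fin 51) (ZMod 2)) : Matrix (Fin 51) (Fin 51) (ZMod 2)) = 1 at h2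
  rw [imgGen, unitOf_val] at h2
  rcases getD_cases gens 0 idC with hi | hi
  · exact decF2_injOn (gens_facts.2.1 _ hi).1 (by decide +kernel) (h2.trans dec_idC.symm)
  · exact hi

/-- Codes of elements of the Held group. -/
noncomputable def code : Coded Cfsg.Spor.He where
  Rep a x := canonF2 51 a = true ∧ (rho x : Matrix (Fin 51) (Fin 51) (ZMod 2)) = decF2 51 a
  mul := mulF2 51
  one := idC
  rep_one := ⟨by decide +kernel, by rw [map_one]; exact dec_idC.symm⟩
  rep_mul := fun ha hb => ⟨canon_mul _ _, by rw [map_mul, Units.val_mul, ha.2, hb.2, decF2_mulF2]⟩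
  rep_uniq := fun ha hb => rho_injective (Units.ext (ha.2.trans hb.2.symm))
  rep_code := fun ha hb => decF2_injOn ha.1 hb.1 (ha.2.symm.trans hb.2)

theorem rep_gen (g : Cfsg.Spor.He.Gen) :
    code.Rep (gens.getD (HeCosets.idxOf g) idC) (PresentedGroup.of g) := by
  refine ⟨?_, by rw [rho_of, imgGen, unitOf_val]⟩
  rcases getD_cases gens (HeCosets.idxOf g) idC with hi | hi
  · exact (gens_facts.2.1 _ hi).1
  · rw [hi]; decide +kernel

theorem exists_gen (i : ℕ) : ∃ x, code.Rep (gens.getD i idC) x := by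
  match i with
  | 0 => exact ⟨_, rep_gen .a⟩
  | 1 => exact ⟨_, rep_gen .b⟩
  | 2 => exact ⟨_, rep_gen .c⟩
  | 3 => exact ⟨_, rep_gen .d⟩
  | 4 => exact ⟨_, rep_gen .e⟩
  | 5 => exact ⟨_, rep_gen .f⟩
  | 6 => exact ⟨_, rep_gen .g⟩
  | i + 7 =>
    refine ⟨1, ?_⟩
    rw [List.getD_eq_default _ _ (by rw [gens_facts.1]; omega)]
    exact code.rep_one

theorem exists_mem : ∀ c ∈ gens, ∃ x, code.Rep c x := by
  intro c hc
  obtain ⟨i, hi, rfl⟩ := List.getElem_of_mem hc
  rw [← List.getD_eq_getElem _ idC hi]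
  exact exists_gen i

end CfsgLib.HeModel
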