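import Cfsg.Agent.Lib.HeModel.CentTab

/-! The centralizer of the involution in the Held group and that of a transvection. -/

set_option autoImplicit false

namespace CfsgLib.HeModel

open CfsgLib.Sporadic CfsgLib.Fusion48.RepTable

/-- The group of pairs. -/
noncomputable def pairs : Subgroup (Cfsg.Spor.He × SL5) := gen code2 cwTab

/-- Its normal part. -/
noncomputable def qPairs : Subgroup (Cfsg.Spor.He × SL5) := gen code2 cqGens

theorem cw_facts {j : ℕ} (hj : j < 3) :
    hi (cwTab.getD j 0) = word (cwWords.getD j []) ∧ canonF2 5 (lo (cwTab.getD j 0)) = true ∧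
    mulF2 5 (lo (cwTab.getD j 0)) (cwImgInv.getD j 0) = oneF2 5 ∧
    mulF2 51 (hi (cwTab.getD j 0)) zC = mulF2 51 zC (hi (cwTab.getD j 0)) ∧
    mulF2 5 (lo (cwTab.getD j 0)) sC = mulF2 5 sC (lo (cwTab.getD j 0)) := by
  have h := cw_ok
  simp only [Bool.and_eq_true, beq_iff_eq, List.all_eq_true, List.mem_range] at h
  obtain ⟨⟨⟨⟨⟨h1, h2⟩, h3⟩, h4⟩, h5⟩, h6⟩ := h.2 j hj
  rw [h2]
  exact ⟨h1, h3, h4, h5, h6⟩

theorem exists_cw : ∀ c ∈ cwTab, ∃ p, code2.Rep c p := by
  intro c hc
  obtain ⟨j, hj, rfl⟩ := List.getElem_of_mem hc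
  have h3 : cwTab.length = 3 := by
    have h := cw_ok
    simp only [Bool.and_eq_true, beq_iff_eq] at h
    exact h.1
  obtain ⟨h1, h2, h4, -⟩ := cw_facts (show j < 3 by omega)
  rw [List.getD_eq_getElem _ _ hj] at h1 h2 h4
  obtain ⟨x, hx⟩ := exists_word (cwWords.getD j [])
  obtain ⟨y, hy⟩ := exists_sl h2 h4
  exact ⟨(x, y), h1 ▸ hx, hy⟩

theorem word2_mem (w : List ℕ) : ∃ p ∈ pairs, code2.Rep (word2 w) p := by
  induction w using List.reverseRecOn with
  | nil => exact ⟨1, one_mem _, code2.rep_one⟩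
  | append_singleton w j ih =>
    obtain ⟨p, hp, hr⟩ := ih
    rw [word2, List.foldl_append, List.foldl_cons, List.foldl_nil]
    rcases getD_cases cwTab j code2.one with hj | hj
    · obtain ⟨q, hq⟩ := exists_cw _ hj
      exact ⟨p * q, mul_mem hp (mem_gen code2 hj hq), code2.rep_mul hr hq⟩
    · rw [hj]
      exact ⟨p * 1, by rw [mul_one]; exact hp, code2.rep_mul hr code2.rep_one⟩

theorem exists_cq : ∀ c ∈ cqGens, ∃ p, code2.Rep c p := by
  intro c hc
  rw [beq_iff_eq.mp cq_gens_ok] at hc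
  obtain ⟨w, -, rfl⟩ := List.mem_map.mp hc
  obtain ⟨p, -, hp⟩ := word2_mem w
  exact ⟨p, hp⟩

theorem qPairs_le : qPairs ≤ pairs := by
  rw [qPairs, gen, Subgroup.closure_le]
  rintro x ⟨c, hc, hx⟩
  rw [beq_iff_eq.mp cq_gens_ok] at hc
  obtain ⟨w, -, rfl⟩ := List.mem_map.mp hc
  obtain ⟨p, hp, hr⟩ := word2_mem w
  exact code2.rep_uniq hr hx ▸ hp

theorem ct_facts : ctTab.length = 168 ∧ ctTab.getD 0 code2.one = code2.one ∧
    ∀ i, ∃ p ∈ pairs, code2.Rep (ctTab.getD i code2.one) p := by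
  have h := ct_words_ok
  simp only [Bool.and_eq_true, beq_iff_eq] at h
  refine ⟨h.2, ?_, fun i => ?_⟩
  · rw [List.getD_eq_getElem _ _ (by rw [h.2]; norm_num)]
    have h0 := h.1.2
    rw [List.getD_eq_getElem _ _ (by rw [h.2]; norm_num)] at h0
    exact h0
  · rcases getD_cases ctTab i code2.one with hi | hi
    · rw [h.1.1] at hi
      obtain ⟨w, -, hw⟩ := List.mem_map.mp hi
      rw [h.1.1, ← hw]
      exact word2_mem w
    · rw [hi]; exact ⟨1, one_mem _, code2.rep_one⟩

instance finite_prod : Finite (Cfsg.Spor.He × SL5) := inferInstance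

/-- Every pair is a product. -/
theorem pairs_cover {x : Cfsg.Spor.He × SL5} (hx : x ∈ pairs) :
    ∃ q ∈ qPairs, ∃ i < 168, ∃ t, code2.Rep (ctTab.getD i code2.one) t ∧ x = q * t := by
  obtain ⟨hq1, hq2, -⟩ := tab_spec code2 exists_cq cq_tab_ok
  obtain ⟨-, ht0, -⟩ := ct_facts
  have hsplit := ct_split_ok
  simp only [List.all_eq_true, List.mem_range, Bool.and_eq_true, Nat.blt_eq, beq_iff_eq] at hsplit
  have hx' : x ∈ Submonoid.closure {y | ∃ c ∈ cwTab, code2.Rep c y} := by
    rw [← Subgroup.closure_toSubmonoid_of_finite]; exact hx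
  clear hx
  induction hx' using Submonoid.closure_induction_right with
  | one => exact ⟨1, one_mem _, 0, by norm_num, 1, by rw [ht0]; exact code2.rep_one, (mul_one 1).symm⟩
  | mul_right y hy g hg ih =>
    obtain ⟨q, hq, i, hi, t, ht, rfl⟩ := ih
    obtain ⟨c, hc, hcr⟩ := hg
    obtain ⟨j, hj, rfl⟩ := List.getElem_of_mem hc
    have h3 : cwTab.length = 3 := by
      have h := cw_ok
      simp only [Bool.and_eq_true, beq_iff_eq] at h
      exact h.1
    obtain ⟨⟨ha, hb⟩, he⟩ := hsplit i hi j (by omega)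
    rw [List.getD_eq_getElem cwTab _ hj] at he
    obtain ⟨t', -, ht'⟩ := ct_facts.2.2 (ctSplit.getD (i * 3 + j) (0, 0)).2
    have hmem : cqTab.getD (ctSplit.getD (i * 3 + j) (0, 0)).1 code2.one ∈ cqTab := by
      have hl : cqTab.length = 128 := by decide +kernel
      rw [List.getD_eq_getElem _ _ (by omega)]; exact List.getElem_mem _
    obtain ⟨q', hq', hqr⟩ := hq1 _ hmem
    refine ⟨q * q', mul_mem hq hq', _, hb, t', ht', ?_⟩
    rw [mul_assoc, mul_assoc]
    congr 1
    have e2 := code2.rep_mul hqr ht'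
    rw [← he] at e2
    exact code2.rep_uniq (code2.rep_mul ht hcr) e2

theorem qPairs_sep {q : Cfsg.Spor.He × SL5} (hq : q ∈ qPairs) (h : q.1 = 1 ∨ q.2 = 1) : q = 1 := by
  obtain ⟨hq1, hq2, -⟩ := tab_spec code2 exists_cq cq_tab_ok
  obtain ⟨c, hc, hr⟩ := (hq2 q).mp hq
  obtain ⟨d, hd, hd1⟩ := (hq2 1).mp (one_mem _)
  have hcd : c = d := by
    rcases h with h | h
    · exact List.inj_on_of_nodup_map q_sep_ok.1 hc hd (code.rep_code hr.1 (h ▸ hd1.1))
    · exact List.inj_on_of_nodup_map q_sep_ok.2 hc hd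
        (decF2_injOn hr.2.1 hd1.2.1 (hr.2.2.symm.trans ((congrArg mat h).trans hd1.2.2)))
  exact code2.rep_uniq hr (hcd ▸ hd1)

theorem pairs_sep {x : Cfsg.Spor.He × SL5} (hx : x ∈ pairs) (h : x.1 = 1 ∨ x.2 = 1) : x = 1 := by
  obtain ⟨hq1, hq2, -⟩ := tab_spec code2 exists_cq cq_tab_ok
  obtain ⟨q, hq, i, hi, t, ht, rfl⟩ := pairs_cover hx
  rcases Nat.eq_zero_or_pos i with rfl | hpos
  · have : t = 1 := code2.rep_uniq ht (ct_facts.2.1 ▸ code2.rep_one)
    rw [this, mul_one] at h ⊢
    exact qPairs_sep hq h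
  · exfalso
    obtain ⟨c, hc, hr⟩ := (hq2 q⁻¹).mp (inv_mem hq)
    have hl := ct_facts.1
    have hmem : ctTab.getD i code2.one ∈ ctTab.tail := by
      rw [List.getD_eq_getElem _ _ (by omega)]
      obtain ⟨k, rfl⟩ := Nat.exists_eq_add_of_le (show 1 ≤ i from hpos)
      rw [List.mem_iff_getElem]
      exact ⟨k, by rw [List.length_tail]; omega, by rw [List.getElem_tail]; congr 1; omega⟩
    have hsep := List.all_eq_true.mp (List.all_eq_true.mp t_sep_ok _ hmem) c hc
    simp only [Bool.and_eq_true, bne_iff_ne] at hsep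
    rcases h with h | h
    · have e : t.1 = q⁻¹.1 := eq_inv_of_mul_eq_one_right (h : q.1 * t.1 = 1)
      exact hsep.1 (code.rep_code ht.1 (e ▸ hr.1))
    · have e : t.2 = q⁻¹.2 := eq_inv_of_mul_eq_one_right (h : q.2 * t.2 = 1)
      exact hsep.2 (decF2_injOn ht.2.1 hr.2.1 (ht.2.2.symm.trans ((congrArg mat e).trans hr.2.2)))

theorem cent_mem {x : Cfsg.Spor.He × SL5} (hx : x ∈ pairs) {s : SL5} (hs : mat s = decF2 5 sC) :
    x.1 * zEl = zEl * x.1 ∧ x.2 * s = s * x.2 := by
  have hle : pairs ≤ (Subgroup.centralizer {zEl}).prod (Subgroup.centralizer {s}) := by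
    rw [pairs, gen, Subgroup.closure_le]
    rintro p ⟨c, hc, hp⟩
    obtain ⟨j, hj, rfl⟩ := List.getElem_of_mem hc
    have h3 : cwTab.length = 3 := by
      have h := cw_ok
      simp only [Bool.and_eq_true, beq_iff_eq] at h
      exact h.1
    obtain ⟨-, -, -, h5, h6⟩ := cw_facts (show j < 3 by omega)
    rw [List.getD_eq_getElem _ _ hj] at h5 h6
    refine Subgroup.mem_prod.mpr ⟨Subgroup.mem_centralizer_singleton_iff.mpr ?_,
      Subgroup.mem_centralizer_singleton_iff.mpr (mat_injective ?_)⟩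
    · have a := code.rep_mul hp.1 zEl_rep
      have b := code.rep_mul zEl_rep hp.1
      rw [show code.mul (hi cwTab[j]) zC = code.mul zC (hi cwTab[j]) from h5] at a
      exact code.rep_uniq a b
    · rw [mat_mul, mat_mul, hp.2.2, hs, ← decF2_mulF2, h6, decF2_mulF2]
  exact ⟨Subgroup.mem_centralizer_singleton_iff.mp (Subgroup.mem_prod.mp (hle hx)).1,
    Subgroup.mem_centralizer_singleton_iff.mp (Subgroup.mem_prod.mp (hle hx)).2⟩

theorem sC_eq : decF2 5 sC = Matrix.transvection 0 1 1 := by decide +kernel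

theorem card_pairs_ge (s : SL5) (hs : mat s = decF2 5 sC) : 21504 ≤ Nat.card pairs := by
  obtain ⟨-, hq2, hqc⟩ := tab_spec code2 exists_cq cq_tab_ok
  have hqc' : Nat.card qPairs = 128 := hqc.trans (by decide +kernel)
  choose f hf hfr using fun i : Fin 168 => ct_facts.2.2 i.1
  have hs' : (s : Matrix (Fin 5) (Fin 5) (ZMod 2)) = Matrix.transvection 0 1 1 := hs.trans sC_eq
  have h := card_mul_le_of_sep qPairs_le f hf (fun i j hij => by
    obtain ⟨c, hc, hr⟩ := (hq2 _).mp hij
    let F : ∀ k : Fin 168, Subgroup.centralizer ({s} : Set SL5) := fun k =>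
      ⟨(f k).2, Subgroup.mem_centralizer_singleton_iff.mpr (cent_mem (hf k) hs).2⟩
    have hb : blkHom hs' (F i * (F j)⁻¹) = 1 := by
      show blk (mat (f i * (f j)⁻¹).2) = 1
      rw [hr.2.2, ← map_one (blkHom hs'), blkHom_apply, OneMemClass.coe_one, mat_one, ← decF2_oneF2, blkBits_iff]
      exact beq_iff_eq.mp (List.all_eq_true.mp blk_ok c hc)
    have hij' : blk (mat (f i).2) = blk (mat (f j).2) := by
      have := congrArg (· * blkHom hs' (F j)) hb
      simp only [← map_mul, inv_mul_cancel_right, one_mul] at this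
      exact this
    rw [(hfr i).2.2, (hfr j).2.2, blkBits_iff] at hij'
    have hl := ct_facts.1
    have hget : ∀ k : Fin 168, ctTab.getD k.1 code2.one = ctTab[k.1]'(k.2.trans_le hl.ge) := fun k =>
      List.getD_eq_getElem _ _ _
    rw [hget i, hget j] at hij'
    exact Fin.ext ((List.Nodup.getElem_inj_iff blk_t_ok (hi := by rw [List.length_map]; exact i.2.trans_le hl.ge)
      (hj := by rw [List.length_map]; exact j.2.trans_le hl.ge)).mp (by rw [List.getElem_map, List.getElem_map]; exact hij')))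
  rw [hqc'] at h
  omega

/-- The two centralizers are isomorphic. -/
theorem cent_iso (s : SL5) (hs : (s : Matrix (Fin 5) (Fin 5) (ZMod 2)) = Matrix.transvection 0 1 1) :
    orderOf zEl = 2 ∧ Nonempty (Subgroup.centralizer ({zEl} : Set Cfsg.Spor.He) ≃*
      Subgroup.centralizer ({s} : Set SL5)) := by
  have hs' : mat s = decF2 5 sC := hs.trans sC_eq.symm
  let f1 : pairs →* Subgroup.centralizer ({zEl} : Set Cfsg.Spor.He) :=
    MonoidHom.codRestrict ((MonoidHom.fst _ _).comp pairs.subtype) _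
      (fun x => Subgroup.mem_centralizer_singleton_iff.mpr (cent_mem x.2 hs').1)
  let f2 : pairs →* Subgroup.centralizer ({s} : Set SL5) :=
    MonoidHom.codRestrict ((MonoidHom.snd _ _).comp pairs.subtype) _
      (fun x => Subgroup.mem_centralizer_singleton_iff.mpr (cent_mem x.2 hs').2)
  have h1 : Function.Injective f1 := (injective_iff_map_eq_one f1).mpr fun x hx =>
    Subtype.ext (pairs_sep x.2 (Or.inl (congrArg Subtype.val hx)))
  have h2 : Function.Injective f2 := (injective_iff_map_eq_one f2).mpr fun x hx =>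
    Subtype.ext (pairs_sep x.2 (Or.inr (congrArg Subtype.val hx)))
  have hge := card_pairs_ge s hs'
  have hc2 := Nat.card_le_card_of_injective _ h2
  have hle := card_cent_sl hs
  have hp : Nat.card pairs = 21504 := le_antisymm (hc2.trans hle) hge
  have hdvd : Nat.card pairs ∣ Nat.card (Subgroup.centralizer ({zEl} : Set Cfsg.Spor.He)) :=
    Subgroup.card_dvd_of_injective f1 h1
  have hdvd2 := (Subgroup.card_subgroup_dvd_card (Subgroup.centralizer ({zEl} : Set Cfsg.Spor.He)))
  rw [CfsgLib.Presented.HeOrder.card_eq] at hdvd2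
  have hz : Nat.card (Subgroup.centralizer ({zEl} : Set Cfsg.Spor.He)) = 21504 := by
    obtain ⟨k, hk⟩ := hdvd
    rw [hp] at hk
    have hb := card_cent_bound
    have hk3 : k < 3 := by omega
    interval_cases k
    · exact absurd hk Nat.card_pos.ne'
    · omega
    · rw [hk] at hdvd2; norm_num at hdvd2
  have b1 : Function.Bijective f1 := (Nat.bijective_iff_injective_and_card f1).mpr ⟨h1, hp.trans hz.symm⟩
  have b2 : Function.Bijective f2 := (Nat.bijective_iff_injective_and_card f2).mpr ⟨h2, by omega⟩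
  refine ⟨orderOf_eq_prime ?_ ?_, ⟨(MulEquiv.ofBijective f1 b1).symm.trans (MulEquiv.ofBijective f2 b2)⟩⟩
  · rw [sq]
    have hm : gens.getD 3 idC ∈ gens := by
      rw [List.getD_eq_getElem _ _ (by rw [gens_facts.1]; norm_num)]; exact List.getElem_mem _
    refine code.rep_uniq ?_ code.rep_one
    have h := code.rep_mul zEl_rep zEl_rep
    rwa [show code.mul zC zC = code.one from (gens_facts.2.1 _ hm).2] at h
  · intro h
    have e := code.rep_code zEl_rep (h ▸ code.rep_one)
    have hne : (zC == code.one) = false := by decide +kernel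
    rw [e, beq_self_eq_true] at hne
    exact Bool.noConfusion hne

end CfsgLib.HeModel
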