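import Cfsg.Agent.Lib.HeModel.Count

/-! The centralizer of a transvection in SL(5,2). -/

set_option autoImplicit false

namespace CfsgLib.HeModel

open Matrix

/-- The lower right block of size three. -/
def blk (A : Matrix (Fin 5) (Fin 5) (ZMod 2)) : Matrix (Fin 3) (Fin 3) (ZMod 2) :=
  fun i j => A ⟨i.1 + 2, by omega⟩ ⟨j.1 + 2, by omega⟩

/-- The special linear group. -/
abbrev SL5 : Type := Matrix.SpecialLinearGroup (Fin 5) (ZMod 2)

/-- The matrix of an element. -/
def mat (x : SL5) : Matrix (Fin 5) (Fin 5) (ZMod 2) := ↑x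

theorem mat_one : mat 1 = 1 := Matrix.SpecialLinearGroup.coe_one

theorem mat_mul (x y : SL5) : mat (x * y) = mat x * mat y := Matrix.SpecialLinearGroup.coe_mul x y

theorem mat_injective : Function.Injective mat := fun _ _ h => Subtype.ext h

theorem mat_det (x : SL5) : (mat x).det = 1 := Matrix.SpecialLinearGroup.det_coe x

/-- The shape of a matrix commuting with the transvection. -/
theorem shape {A : Matrix (Fin 5) (Fin 5) (ZMod 2)}
    (h : A * transvection 0 1 1 = transvection 0 1 1 * A) :
    (∀ i, i ≠ 0 → A i 0 = 0) ∧ (∀ j, j ≠ 1 → A 1 j = 0) ∧ A 1 1 = A 0 0 := by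
  refine ⟨fun i hi => ?_, fun j hj => ?_, ?_⟩
  · have e := congrFun (congrFun h i) 1
    rw [mul_transvection_apply_same, transvection_mul_apply_of_ne _ _ _ _ hi] at e
    simpa using e
  · have e := congrFun (congrFun h 0) j
    rw [mul_transvection_apply_of_ne _ _ _ _ hj, transvection_mul_apply_same] at e
    simpa using e.symm
  · have e := congrFun (congrFun h 0) 1
    rw [mul_transvection_apply_same, transvection_mul_apply_same] at e
    simpa using e.symm

variable {s : SL5} (hs : (s : Matrix (Fin 5) (Fin 5) (ZMod 2)) = transvection 0 1 1)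

include hs in
theorem cent_shape (x : Subgroup.centralizer ({s} : Set SL5)) :
    (∀ i, i ≠ 0 → mat (x : SL5) i 0 = 0) ∧ (∀ j, j ≠ 1 → mat (x : SL5) 1 j = 0) ∧ mat (x : SL5) 1 1 = mat (x : SL5) 0 0 := by
  have h := congrArg mat (Subgroup.mem_centralizer_singleton_iff.mp x.2)
  rw [mat_mul, mat_mul, show mat s = transvection 0 1 1 from hs] at h
  exact shape h

/-- The block as a homomorphism on the centralizer. -/
def blkHom : Subgroup.centralizer ({s} : Set SL5) →* Matrix (Fin 3) (Fin 3) (ZMod 2) where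
  toFun x := blk (mat (x : SL5))
  map_one' := by
    show blk (mat ((1 : Subgroup.centralizer ({s} : Set SL5)) : SL5)) = 1
    rw [OneMemClass.coe_one, mat_one]
    decide
  map_mul' := fun x y => by
    refine Matrix.ext fun i j => ?_
    show blk (mat ((x * y : Subgroup.centralizer ({s} : Set SL5)) : SL5)) i j =
      (blk (mat (x : SL5)) * blk (mat (y : SL5))) i j
    have e0 := (cent_shape hs x).1 ⟨i.1 + 2, by omega⟩ (fun e => by have := congrArg Fin.val e; change _ = ((0 : Fin 5) : ℕ) at this; simp at this)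
    have e1 := (cent_shape hs y).2.1 ⟨j.1 + 2, by omega⟩ (fun e => by have := congrArg Fin.val e; change _ = ((1 : Fin 5) : ℕ) at this; simp at this)
    rw [Subgroup.coe_mul, mat_mul, mul_apply]
    unfold blk
    rw [mul_apply, Fin.sum_univ_five, Fin.sum_univ_three, e0, e1,
      zero_mul, mul_zero, zero_add, zero_add]
    rfl

theorem blkHom_apply (x : Subgroup.centralizer ({s} : Set SL5)) : blkHom hs x = blk (mat (x : SL5)) := rfl

theorem card_ker_blk : Nat.card (blkHom hs).ker ≤ 128 := by
  let F : (blkHom hs).ker → (Fin 4 → ZMod 2) × (Fin 3 → ZMod 2) := fun x =>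
    (fun j => mat (x.1 : SL5) 0 j.succ, fun i => mat (x.1 : SL5) ⟨i.1 + 2, by omega⟩ 1)
  have hF : Function.Injective F := by
    intro x y e
    obtain ⟨e1, e2⟩ := Prod.ext_iff.mp e
    have h00 : ∀ z : (blkHom hs).ker, mat (z.1 : SL5) 0 0 = 1 := by
      intro z
      obtain ⟨hc, hr, hd⟩ := cent_shape hs z.1
      by_contra hne
      have h0 : mat (z.1 : SL5) 0 0 = 0 := by
        revert hne
        generalize mat (z.1 : SL5) 0 0 = a
        revert a; decide
      have := det_eq_zero_of_row_eq_zero (A := mat (z.1 : SL5)) 1 (fun j => by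
        by_cases hj : j = 1
        · rw [hj, hd, h0]
        · exact hr j hj)
      rw [mat_det] at this
      exact one_ne_zero this
    have hb : ∀ (z : (blkHom hs).ker) (i j : Fin 3),
        mat (z.1 : SL5) ⟨i.1 + 2, by omega⟩ ⟨j.1 + 2, by omega⟩ = (1 : Matrix (Fin 3) (Fin 3) (ZMod 2)) i j :=
      fun z i j => congrFun (congrFun (show blk (mat (z.1 : SL5)) = 1 from z.2) i) j
    refine Subtype.ext (Subtype.ext (mat_injective ?_))
    obtain ⟨xc, xr, xd⟩ := cent_shape hs x.1
    obtain ⟨yc, yr, yd⟩ := cent_shape hs y.1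
    ext i j
    match i, j with
    | 0, 0 => rw [h00, h00]
    | 0, 1 => exact congrFun e1 0
    | 0, 2 => exact congrFun e1 1
    | 0, 3 => exact congrFun e1 2
    | 0, 4 => exact congrFun e1 3
    | 1, 0 => rw [xr 0 (by decide), yr 0 (by decide)]
    | 1, 1 => rw [xd, yd, h00, h00]
    | 1, 2 => rw [xr 2 (by decide), yr 2 (by decide)]
    | 1, 3 => rw [xr 3 (by decide), yr 3 (by decide)]
    | 1, 4 => rw [xr 4 (by decide), yr 4 (by decide)]
    | 2, 0 => rw [xc 2 (by decide), yc 2 (by decide)]
    | 3, 0 => rw [xc 3 (by decide), yc 3 (by decide)]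
    | 4, 0 => rw [xc 4 (by decide), yc 4 (by decide)]
    | 2, 1 => exact congrFun e2 0
    | 3, 1 => exact congrFun e2 1
    | 4, 1 => exact congrFun e2 2
    | 2, 2 => exact (hb x 0 0).trans (hb y 0 0).symm
    | 2, 3 => exact (hb x 0 1).trans (hb y 0 1).symm
    | 2, 4 => exact (hb x 0 2).trans (hb y 0 2).symm
    | 3, 2 => exact (hb x 1 0).trans (hb y 1 0).symm
    | 3, 3 => exact (hb x 1 1).trans (hb y 1 1).symm
    | 3, 4 => exact (hb x 1 2).trans (hb y 1 2).symm
    | 4, 2 => exact (hb x 2 0).trans (hb y 2 0).symm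
    | 4, 3 => exact (hb x 2 1).trans (hb y 2 1).symm
    | 4, 4 => exact (hb x 2 2).trans (hb y 2 2).symm
  refine (Nat.card_le_card_of_injective F hF).trans (le_of_eq ?_)
  simp [Nat.card_eq_fintype_card]

include hs in
/-- The centralizer has at most 128 * 168 elements. -/
theorem card_cent_sl : Nat.card (Subgroup.centralizer ({s} : Set SL5)) ≤ 21504 := by
  have h := card_le_ker_mul_range (blkHom hs).toHomUnits
  have hk : (blkHom hs).toHomUnits.ker = (blkHom hs).ker := by
    ext x
    simp only [MonoidHom.mem_ker, Units.ext_iff, MonoidHom.coe_toHomUnits, Units.val_one]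
  rw [hk] at h
  have hgl : Nat.card (GL (Fin 3) (ZMod 2)) = 168 := by
    rw [Matrix.card_GL_field]
    simp [Fin.prod_univ_three, ZMod.card]
  rw [show Nat.card (Matrix (Fin 3) (Fin 3) (ZMod 2))ˣ = 168 from hgl] at h
  have := card_ker_blk hs
  calc _ ≤ _ := h
    _ ≤ 128 * 168 := Nat.mul_le_mul_right _ this
    _ = 21504 := rfl

end CfsgLib.HeModel
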