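import Cfsg.Agent.Lib.HeModel.Orbit
import Cfsg.Agent.Lib.HeModel.CentGens
import Cfsg.Agent.Lib.HeModel.SLBound

/-! The isomorphism between the two centralizers, as a group of pairs. -/

set_option autoImplicit false

namespace CfsgLib.HeModel

open CfsgLib.Sporadic CfsgLib.Fusion48.RepTable

/-- Elements of the small group are canonical codes. -/
theorem canon_mul5 : ∀ a b, canonF2 5 (mulF2 5 a b) = true := by
  intro a b
  rw [canonF2, Nat.blt_eq]
  have h : ∀ m ≤ 5, xorUpto (fun k => ((a >>> k) &&& colMask 5 5) * ((b >>> (5 * k)) % 2 ^ 5)) m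
      < 2 ^ (5 * 5) := by
    intro m
    induction m with
    | zero => intro _; exact Nat.two_pow_pos _
    | succ m ih =>
      intro hm
      refine Nat.xor_lt_two_pow (ih (by omega)) ?_
      have h1 : (a >>> m) &&& colMask 5 5 ≤ colMask 5 5 := Nat.and_le_right
      have h2 : (b >>> (5 * m)) % 2 ^ 5 ≤ 2 ^ 5 - 1 :=
        Nat.le_sub_one_of_lt (Nat.mod_lt _ (Nat.two_pow_pos _))
      refine Nat.lt_of_le_of_lt (Nat.mul_le_mul h1 h2) ?_
      decide +kernel
  exact h 5 le_rfl

/-- High part. -/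
def hi (c : ℕ) : ℕ := c / 2 ^ 25

/-- Low part. -/
def lo (c : ℕ) : ℕ := c % 2 ^ 25

/-- A pair of codes as one. -/
def comb (a b : ℕ) : ℕ := a * 2 ^ 25 + b

theorem hi_comb {a b : ℕ} (hb : b < 2 ^ 25) : hi (comb a b) = a := by unfold hi comb; omega

theorem lo_comb {a b : ℕ} (hb : b < 2 ^ 25) : lo (comb a b) = b := by unfold lo comb; omega

theorem lt_of_canon5 {b : ℕ} (h : canonF2 5 b = true) : b < 2 ^ 25 := by
  rw [canonF2, Nat.blt_eq] at h
  exact h

/-- Codes for matrices of SL(5,2). -/
def Rep5 (a : ℕ) (y : SL5) : Prop := canonF2 5 a = true ∧ mat y = decF2 5 a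

theorem rep5_mul {a b : ℕ} {x y : SL5} (hx : Rep5 a x) (hy : Rep5 b y) : Rep5 (mulF2 5 a b) (x * y) :=
  ⟨canon_mul5 _ _, by rw [mat_mul, hx.2, hy.2, decF2_mulF2]⟩

/-- Codes for pairs. -/
noncomputable def code2 : Coded (Cfsg.Spor.He × SL5) where
  Rep c p := code.Rep (hi c) p.1 ∧ Rep5 (lo c) p.2
  mul a b := comb (mulF2 51 (hi a) (hi b)) (mulF2 5 (lo a) (lo b))
  one := comb idC (oneF2 5)
  rep_one := by
    have h : oneF2 5 < 2 ^ 25 := by decide +kernel
    rw [hi_comb h, lo_comb h]
    exact ⟨code.rep_one, by decide +kernel, mat_one.trans decF2_oneF2.symm⟩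
  rep_mul := fun {a b x y} ha hb => by
    have h : mulF2 5 (lo a) (lo b) < 2 ^ 25 := lt_of_canon5 (canon_mul5 _ _)
    rw [hi_comb h, lo_comb h]
    exact ⟨code.rep_mul ha.1 hb.1, rep5_mul ha.2 hb.2⟩
  rep_uniq := fun ha hb => Prod.ext (code.rep_uniq ha.1 hb.1) (mat_injective (ha.2.2.trans hb.2.2.symm))
  rep_code := fun {a b x} ha hb => by
    have h1 := code.rep_code ha.1 hb.1
    have h2 := decF2_injOn ha.2.1 hb.2.1 (ha.2.2.symm.trans hb.2.2)
    rw [← Nat.div_add_mod a (2 ^ 25), ← Nat.div_add_mod b (2 ^ 25)]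
    exact congrArg₂ (fun u v => 2 ^ 25 * u + v) h1 h2

theorem exists_sl {a b : ℕ} (ha : canonF2 5 a = true) (h : mulF2 5 a b = oneF2 5) : ∃ y : SL5, Rep5 a y := by
  have e : decF2 5 a * decF2 5 b = 1 := by rw [← decF2_mulF2, h, decF2_oneF2]
  have hd : IsUnit (decF2 5 a).det := by
    have := congrArg Matrix.det e
    rw [Matrix.det_mul, Matrix.det_one] at this
    exact IsUnit.of_mul_eq_one _ this
  have h1 : ∀ x : ZMod 2, IsUnit x → x = 1 := by
    intro x hx
    have h0 := hx.ne_zero
    revert x; decide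
  exact ⟨⟨decF2 5 a, h1 _ hd⟩, ha, rfl⟩

/-- The value of a word in the pairs. -/
noncomputable def word2 (w : List ℕ) : ℕ := w.foldl (fun a j => code2.mul a (cwTab.getD j code2.one)) code2.one

/-- The transvection. -/
noncomputable def sC : ℕ := oneF2 5 + 2

theorem cw_ok : (cwTab.length == 3 && (List.range 3).all (fun j =>
    hi (cwTab.getD j 0) == word (cwWords.getD j []) && lo (cwTab.getD j 0) == cwImg.getD j 0 &&
    canonF2 5 (cwImg.getD j 0) && mulF2 5 (cwImg.getD j 0) (cwImgInv.getD j 0) == oneF2 5 &&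
    mulF2 51 (hi (cwTab.getD j 0)) zC == mulF2 51 zC (hi (cwTab.getD j 0)) &&
    mulF2 5 (cwImg.getD j 0) sC == mulF2 5 sC (cwImg.getD j 0))) = true := by decide +kernel

theorem cq_gens_ok : (cqGens == cqWords.map word2) = true := by decide +kernel

theorem cq_tab_ok : tabOK code2.mul code2.one cqGens cqTab cqPar = true := by decide +kernel

theorem ct_words_ok : (ctTab == ctWords.map word2 && ctTab.getD 0 0 == code2.one && ctTab.length == 168) = true := by
  decide +kernel

theorem ct_split_ok : (List.range 168).all (fun i => (List.range 3).all (fun j =>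
    Nat.blt (ctSplit.getD (i * 3 + j) (0, 0)).1 128 && Nat.blt (ctSplit.getD (i * 3 + j) (0, 0)).2 168 &&
    code2.mul (ctTab.getD i code2.one) (cwTab.getD j code2.one) ==
      code2.mul (cqTab.getD (ctSplit.getD (i * 3 + j) (0, 0)).1 code2.one)
        (ctTab.getD (ctSplit.getD (i * 3 + j) (0, 0)).2 code2.one))) = true := by decide +kernel

theorem q_sep_ok : ((cqTab.map hi).Nodup ∧ (cqTab.map lo).Nodup) := by decide +kernel

theorem t_sep_ok : (ctTab.tail.all fun t => cqTab.all fun q => hi t != hi q && lo t != lo q) = true := by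
  decide +kernel

/-- The nine bits of the block. -/
def blkBits (c : ℕ) : List Bool := [c.testBit 12, c.testBit 13, c.testBit 14, c.testBit 17, c.testBit 18, c.testBit 19,
  c.testBit 22, c.testBit 23, c.testBit 24]

theorem blk_ok : (cqTab.all fun q => blkBits (lo q) == blkBits (oneF2 5)) = true := by decide +kernel

theorem blk_t_ok : (ctTab.map fun t => blkBits (lo t)).Nodup := by decide +kernel

theorem blkBits_iff (a b : ℕ) : blk (decF2 5 a) = blk (decF2 5 b) ↔ blkBits a = blkBits b := by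
  have hb : ∀ p q : Bool, ((p.toNat : ℕ) : ZMod 2) = (q.toNat : ZMod 2) ↔ p = q := by decide
  constructor
  · intro h
    have e := fun i j => (hb _ _).mp (congrFun (congrFun h i) j)
    have e00 : a.testBit 12 = b.testBit 12 := e 0 0
    have e01 : a.testBit 13 = b.testBit 13 := e 0 1
    have e02 : a.testBit 14 = b.testBit 14 := e 0 2
    have e10 : a.testBit 17 = b.testBit 17 := e 1 0
    have e11 : a.testBit 18 = b.testBit 18 := e 1 1
    have e12 : a.testBit 19 = b.testBit 19 := e 1 2
    have e20 : a.testBit 22 = b.testBit 22 := e 2 0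
    have e21 : a.testBit 23 = b.testBit 23 := e 2 1
    have e22 : a.testBit 24 = b.testBit 24 := e 2 2
    rw [blkBits, blkBits, e00, e01, e02, e10, e11, e12, e20, e21, e22]
  · intro h
    simp only [blkBits, List.cons.injEq, and_true] at h
    obtain ⟨h0, h1, h2, h3, h4, h5, h6, h7, h8⟩ := h
    ext i j
    refine (hb _ _).mpr ?_
    match i, j with
    | 0, 0 => exact h0
    | 0, 1 => exact h1
    | 0, 2 => exact h2
    | 1, 0 => exact h3
    | 1, 1 => exact h4
    | 1, 2 => exact h5
    | 2, 0 => exact h6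
    | 2, 1 => exact h7
    | 2, 2 => exact h8

end CfsgLib.HeModel
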