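import Mathlib

/-! Counting cosets by separating families. -/

set_option autoImplicit false

namespace CfsgLib.HeModel

variable {G : Type*} [Group G] [Finite G]

/-- A family in `L` lying in distinct cosets of `H ≤ L` bounds the order of `H`. -/
theorem card_mul_le_of_sep {H L : Subgroup G} (hle : H ≤ L) {n : ℕ} (f : Fin n → G) (hf : ∀ i, f i ∈ L)
    (hsep : ∀ i j, f i * (f j)⁻¹ ∈ H → i = j) : Nat.card H * n ≤ Nat.card L := by
  let F : H × Fin n → L := fun p => ⟨(p.1 : G) * f p.2, mul_mem (hle p.1.2) (hf p.2)⟩
  have hF : Function.Injective F := by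
    rintro ⟨h, i⟩ ⟨h', j⟩ e
    have e' : (h : G) * f i = (h' : G) * f j := congrArg Subtype.val e
    have hij : i = j := hsep i j (by
      rw [show f i * (f j)⁻¹ = ((h⁻¹ * h' : H) : G) by
        rw [Subgroup.coe_mul, Subgroup.coe_inv, mul_inv_eq_iff_eq_mul, mul_assoc, ← e', inv_mul_cancel_left]]
      exact SetLike.coe_mem _)
    subst hij
    exact Prod.ext (Subtype.ext (mul_right_cancel e')) rfl
  have h1 := Nat.card_le_card_of_injective F hF
  rwa [Nat.card_prod, Nat.card_fin] at h1

/-- A map into a finite type whose fibres are single cosets of `H` bounds the order. -/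
theorem card_le_of_fibres {C H : Subgroup G} {ι : Type*} [Finite ι] (f : C → ι)
    (hf : ∀ x y : C, f x = f y → (x : G) * (y : G)⁻¹ ∈ H) : Nat.card C ≤ Nat.card ι * Nat.card H := by
  classical
  let r : ι → C := fun k => if h : ∃ x, f x = k then h.choose else 1
  have hr : ∀ x : C, f (r (f x)) = f x := fun x => by
    have h : ∃ y, f y = f x := ⟨x, rfl⟩
    simp only [r, dif_pos h]
    exact h.choose_spec
  let F : C → ι × H := fun x => (f x, ⟨(x : G) * (r (f x) : G)⁻¹, hf x (r (f x)) (hr x).symm⟩)
  have hF : Function.Injective F := by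
    intro x y e
    obtain ⟨e1, e2⟩ := Prod.ext_iff.mp e
    have e3 : (x : G) * (r (f x) : G)⁻¹ = (y : G) * (r (f y) : G)⁻¹ := congrArg Subtype.val e2
    rw [show f x = f y from e1] at e3
    exact Subtype.ext (mul_right_cancel e3)
  have h1 := Nat.card_le_card_of_injective F hF
  rwa [Nat.card_prod] at h1

/-- A group homomorphism bounds the order by kernel and range. -/
theorem card_le_ker_mul_range {M : Type*} [Group M] [Finite M] (f : G →* M) :
    Nat.card G ≤ Nat.card f.ker * Nat.card M := by
  rw [Subgroup.card_eq_card_quotient_mul_card_subgroup f.ker, mul_comm]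
  refine Nat.mul_le_mul le_rfl (Nat.card_le_card_of_injective _ (QuotientGroup.kerLift_injective f))

end CfsgLib.HeModel

namespace CfsgLib.HeModel

variable {G M : Type*} [Group G] [Monoid M]

/-- The elements fixing a right argument. -/
def fixer (φ : G →* Mˣ) (A : M) : Subgroup G where
  carrier := {x | A * (φ x : M) = A}
  one_mem' := by show A * _ = A; rw [map_one, Units.val_one, mul_one]
  mul_mem' := by
    intro x y hx hy
    show A * _ = A
    rw [map_mul, Units.val_mul, ← mul_assoc, show A * (φ x : M) = A from hx]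
    exact hy
  inv_mem' := by
    intro x hx
    show A * _ = A
    conv_lhs => rw [← show A * (φ x : M) = A from hx]
    rw [mul_assoc, ← Units.val_mul, ← map_mul, mul_inv_cancel, map_one, Units.val_one, mul_one]

theorem mem_fixer {φ : G →* Mˣ} {A : M} {x : G} : x ∈ fixer φ A ↔ A * (φ x : M) = A := Iff.rfl

/-- Composition of two steps. -/
theorem step_mul (φ : G →* Mˣ) {A B C : M} {x y : G} (h1 : A * (φ x : M) = B) (h2 : B * (φ y : M) = C) :
    A * (φ (x * y) : M) = C := by
  rw [map_mul, Units.val_mul, ← mul_assoc, h1, h2]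

/-- Cancelling a step. -/
theorem step_inv (φ : G →* Mˣ) {A B : M} {x : G} (h : A * (φ x : M) = B) : B * (φ x⁻¹ : M) = A := by
  rw [← h, mul_assoc, ← Units.val_mul, ← map_mul, mul_inv_cancel, map_one, Units.val_one, mul_one]

/-- Two steps with one end. -/
theorem step_div (φ : G →* Mˣ) {A B : M} {x y : G} (h : A * (φ x : M) = B) (h' : A * (φ y : M) = B) :
    x * y⁻¹ ∈ fixer φ A := step_mul φ h (step_inv φ h')

end CfsgLib.HeModel
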