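import Cfsg.Agent.Lib.HeModel.Basic
import Cfsg.Agent.Lib.Sporadic.Chain

/-! Orbits of row vectors under the Held group and under a point stabiliser. -/

set_option autoImplicit false
set_option maxRecDepth 20000

namespace CfsgLib.HeModel

open CfsgLib.Sporadic

/-- Part of `ptTab`. -/
def ptTab0 : Tr := (.node (.node (.node (.node (.node (.node (.node (.node (.node (.leaf 1) (.leaf 0x7f951a4e71203)) (.leaf 0x488b349de8b73)) (.node (.leaf 0x3a58f69301351) (.leaf 0x64b21f9a892c7))) (.node (.node (.leaf 0x8a6ea74bfb37) (.leaf 0x575b705b8d87f)) (.node (.leaf 0x406ee194c86c7) (.leaf 0x7379a40386d87)))) (.node (.node (.node (.leaf 0x3d61983) (.leaf 0x504d79f28329f)) (.node (.leaf 0x4000a1a30b02f) (.leaf 0x6c1b84db3a456))) (.node (.node (.leaf 0x229f11ad59ddb) (.leaf 0x5e4e6d900a4fc)) (.node (.leaf 0x434524a55d5bf) (.leaf 0x79e0f91ba2eb3))))) (.node (.node (.node (.node (.leaf 0x2dffdf2) (.leaf 0x4c0a875eaed2f)) (.node (.leaf 0x4000862c1fb46)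 (.leaf 0x67b0f0aea6363))) (.node (.node (.leaf 0x17df43bf4f75b) (.leaf 0x5aaadfccd4d12)) (.node (.leaf 0x415cccc954723) (.leaf 0x767022d32f759)))) (.node (.node (.node (.leaf 0x2215dd4e4791) (.leaf 0x5375b9623a2d5)) (.node (.leaf 0x400288bc00001) (.leaf 0x706056d6518fa))) (.node (.node (.leaf 0x3087e8768bab1) (.leaf 0x6207d51175987)) (.node (.leaf 0x450a8ac0e3ba9) (.leaf 0x7ce137a687eef)))))) (.node (.node (.node (.node (.node (.leaf 0x25e553f) (.leaf 0x4a444f64e9b1d)) (.node (.leaf 0x3e70943b722d1) (.leaf 0x66d7213dd68e4))) (.node (.node (.leaf 0x114541c9f6ab1) (.leaf 0x5936fc2b2aa68)) (.node (.leaf 0x409b1e90d57a1) (.leaf 0x74fba860d5c95)))) (.node (.node (.node (.leaf 0x6f5fc193603) (.leaf 0x51d62751b06a7)) (.node (.leaf 0x4000b4a72eb83) (.leaf 0x6ec4ac48d4637))) (.node (.node (.leaf 0x2797711ab9f35) (.leaf 0x60216235549e6)) (.node (.leaf 0x44265894361b1) (.leaf 0x7ade847b964cb))))) (.node (.node (.node (.node (.leaf 0x3561c49) (.leaf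 0x4f08202f3077d)) (.node (.leaf 0x4000948d49504) (.leaf 0x6a8ddd6975128))) (.node (.node (.leaf 0x1dbc565921a47) (.leaf 0x5c1408b4f0f41)) (.node (.leaf 0x42655ba9db71b) (.leaf 0x77da29d4d792f)))) (.node (.node (.node (.leaf 0x46f82d4a2ccf) (.leaf 0x5517c53919f8b)) (.node (.leaf 0x401e387264d55) (.leaf 0x71a25c0fe4ca8))) (.node (.node (.leaf 0x3494adc3b8a2d) (.leaf 0x637c10689d98c)) (.node (.leaf 0x455bffab639f6) (.leaf 0x7e6fbe9236dd5))))))) (.node (.node (.node (.node (.node (.node (.leaf 0x23d0ebe) (.leaf 0x48e8f050c47af)) (.node (.leaf 0x3bd0a9362e6c1) (.leaf 0x65eb95ec04dd5))) (.node (.node (.leaf 0xf0aca5060001) (.leaf 0x584d550a801db)) (.node (.leaf 0x408bf2311ec69) (.leaf 0x740995ef5effd)))) (.node (.node (.node (.leaf 0x1cec5540017) (.leaf 0x5141e3c9d68d9)) (.node (.leaf 0x4000aa8f2ce86) (.leaf 0x6d93f2fc09399))) (.node (.node (.leaf 0x240706921d51b) (.leaf 0x5f75b84c64081)) (.node (.leaf 0x43dd5a11a3b4f) (.leaf 0x7a485687cf6ec)))))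 (.node (.node (.node (.node (.leaf 0x31f57a3) (.leaf 0x4c9a4597fa992)) (.node (.leaf 0x40008d25c6d1c) (.leaf 0x68ba682ed440e))) (.node (.node (.leaf 0x1b05996f33f95) (.leaf 0x5b53d137bcd4b)) (.node (.leaf 0x4204353501da7) (.leaf 0x772c73cada24b)))) (.node (.node (.node (.leaf 0x2eec9001b560) (.leaf 0x540f656f0647b)) (.node (.leaf 0x400ef00a423a4) (.leaf 0x70e908567158c))) (.node (.node (.leaf 0x32c6f6eb0d60f) (.leaf 0x62a5d8e670d89)) (.node (.leaf 0x45329da57e018) (.leaf 0x7d8f7fed67888)))))) (.node (.node (.node (.node (.node (.leaf 0x29da597) (.leaf 0x4aa8aadf5ae4f)) (.node (.leaf 0x3fe1f213f40ba) (.leaf 0x67253afe1726b))) (.node (.node (.leaf 0x1261c234e9147) (.leaf 0x59eb39dccaf68)) (.node (.leaf 0x4124438ba44bf) (.leaf 0x75a6065f2fffb)))) (.node (.node (.node (.leaf 0x144c91c7d25f) (.leaf 0x52ea6c35cea30)) (.node (.leaf 0x4000bbbcba7c8) (.leaf 0x6fc7634fecafd))) (.node (.node (.leaf 0x2ed31ac1c1a46) (.leaf 0x61632cc01540f)) (.node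 (.leaf 0x445a0c2cc2009) (.leaf 0x7bc0217a99060))))) (.node (.node (.node (.node (.leaf 0x39ecf5a) (.leaf 0x4f9daf280e641)) (.node (.leaf 0x40009b0f2bc1b) (.leaf 0x6b3b9ac5ab96f))) (.node (.node (.leaf 0x2164863d8b97b) (.leaf 0x5d71120d0fa25)) (.node (.leaf 0x42ea2ac5e956f) (.leaf 0x78e0df84215da)))) (.node (.node (.node (.leaf 0x55c6c142c1e1) (.leaf 0x565681a741caf)) (.node (.leaf 0x404409645fd4a) (.leaf 0x7258549e31acd))) (.node (.node (.leaf 0x37a7fabafb1cf) (.leaf 0x64183c10730f1)) (.node (.leaf 0x4825bc006f97d) (.leaf 0x7f0a578f03478)))))))) (.node (.node (.node (.node (.node (.node (.node (.node (.leaf 0x21dd46c) (.leaf 0x7fff101e77963)) (.leaf 0x48c2c11da16e3)) (.node (.leaf 0x3ac1b0be19749) (.leaf 0x65629a360cafb))) (.node (.node (.leaf 0xaa32b85c4ef7) (.leaf 0x57d207d294a07)) (.node (.leaf 0x4084e3a336ce1) (.leaf 0x73e350ca8a32c)))) (.node (.node (.node (.leaf 0x3fb09e4) (.leaf 0x50cb8785f0131)) (.node (.leaf 0x4000a632e9685)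 (.leaf 0x6d0f41509302d))) (.node (.node (.leaf 0x24005f7605733) (.leaf 0x5ed8d20080212)) (.node (.leaf 0x4395add965433) (.leaf 0x7a28871751a14))))) (.node (.node (.node (.node (.leaf 0x2fe3899) (.leaf 0x4c4a3ea9b90d0)) (.node (.leaf 0x40008a86406a3) (.leaf 0x682fea2791580))) (.node (.node (.leaf 0x180dc7cb08361) (.leaf 0x5b0da636c1c05)) (.node (.leaf 0x417a110b0b97f) (.leaf 0x76e7d9efc60cd)))) (.node (.node (.node (.leaf 0x26558713d3ef) (.leaf 0x53bbaa1aa5b68)) (.node (.leaf 0x40082b3609ae8) (.leaf 0x7082dd30c1c47))) (.node (.node (.leaf 0x31397023bd827) (.leaf 0x62396ebd289fa)) (.node (.leaf 0x4522551859ee3) (.leaf 0x7d64596f48821)))))) (.node (.node (.node (.node (.node (.leaf 0x27faaee) (.leaf 0x4a6bb3d842c49)) (.node (.leaf 0x3f74bd138860d) (.leaf 0x66f22002e431f))) (.node (.node (.leaf 0x119fc16c9e85f) (.leaf 0x597b14d98ead8)) (.node (.leaf 0x4101ac22edb1b) (.leaf 0x7542864e22e91)))) (.node (.node (.node (.leaf 0x8f6a61e7f55) (.leaf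 0x527063dfb5195)) (.node (.leaf 0x4000b83c3555e) (.leaf 0x6ef5665145906))) (.node (.node (.leaf 0x2bba52fef6dc1) (.leaf 0x60a0c0d31130c)) (.node (.leaf 0x444765cc12bb1) (.leaf 0x7b4d9f3ef4ebb))))) (.node (.node (.node (.node (.leaf 0x37b6805) (.leaf 0x4f4af5afcb2ad)) (.node (.leaf 0x40009801c0ebb) (.leaf 0x6abdd91effb23))) (.node (.node (.leaf 0x1dbd3b40c896b) (.leaf 0x5d2e592dca59b)) (.node (.leaf 0x42a39958d917e) (.leaf 0x78672b2e74e30)))) (.node (.node (.node (.leaf 0x55abef90573d) (.leaf 0x559b6ae50cd4d)) (.node (.leaf 0x402145fcb13ef) (.leaf 0x71db11c9dae2a))) (.node (.node (.leaf 0x35a2ec02a7f9f) (.leaf 0x63defd4ad6209)) (.node (.leaf 0x457cc214ee059) (.leaf 0x7ee06287352c1))))))) (.node (.node (.node (.node (.node (.node (.leaf 0x24ebaa5) (.leaf 0x4a256f6d53e6b)) (.node (.leaf 0x3de04d325d78f) (.leaf 0x666232c8b1562))) (.node (.node (.leaf 0xf0f855061a87) (.leaf 0x589d07bfeb705)) (.node (.leaf 0x4090ef01a1183) (.leaf 0x7482f4f2f2673))))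 (.node (.node (.node (.leaf 0x65840972c51) (.leaf 0x518ea708c91c3)) (.node (.leaf 0x4000b108f91b5) (.leaf 0x6e4cfad9a55a9))) (.node (.node (.leaf 0x2727f8672c4af) (.leaf 0x5ff84891f9ece)) (.node (.leaf 0x44062b3002526) (.leaf 0x7ab487e386d67))))) (.node (.node (.node (.node (.leaf 0x33e119c) (.leaf 0x4cd70604a75d1)) (.node (.leaf 0x400091acff9e0) (.leaf 0x69bb9d05bca27))) (.node (.node (.leaf 0x1b9d6b8b0af71) (.leaf 0x5bc6653117549)) (.node (.leaf 0x4240e69f9ca23) (.leaf 0x77ac7c1da7fb1)))) (.node (.node (.node (.leaf 0x44b4d399db02) (.leaf 0x549a7803efb53)) (.node (.leaf 0x40164f12ce59c) (.leaf 0x712ef3dbd204f))) (.node (.node (.leaf 0x34118b3a616b9) (.leaf 0x6342cbadeb4cf)) (.node (.leaf 0x45444e3491fde) (.leaf 0x7dff096b964cd)))))) (.node (.node (.node (.node (.node (.leaf 0x2bd45ff) (.leaf 0x4acc1fbfd7044)) (.node (.leaf 0x4000831af845a) (.leaf 0x678af5a121bf8))) (.node (.node (.leaf 0x17da9b3660000) (.leaf 0x5a289ca01ca23)) (.node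 (.leaf 0x4141d75291711) (.leaf 0x75c9ad7cd2333)))) (.node (.node (.node (.leaf 0x16548b0cf2b1) (.leaf 0x53281a3501596)) (.node (.leaf 0x4000be8058548) (.leaf 0x6ff251988538d))) (.node (.node (.leaf 0x2ed7e1d111067) (.leaf 0x61e0794e67f6f)) (.node (.leaf 0x447035576d883) (.leaf 0x7c744c676769f))))) (.node (.node (.node (.node (.leaf 0x3bfb3df) (.leaf 0x4fd93b7485b88)) (.node (.leaf 0x40009eb0af69a) (.leaf 0x6ba91a6498379))) (.node (.node (.leaf 0x2206db01df6bf) (.leaf 0x5df87c6d298ff)) (.node (.leaf 0x4300d6106829d) (.leaf 0x797628a74f630)))) (.node (.node (.node (.leaf 0x86f921514536) (.leaf 0x5712306aec82b)) (.node (.leaf 0x4061a7539e78d) (.leaf 0x72c3dc6461b10))) (.node (.node (.leaf 0x388406fbf3807) (.leaf 0x6439be7259601)) (.node (.leaf 0x4861a82ccc71f) (.leaf 0x7f6a44c7f2723)))))))))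

/-- Part of `ptTab`. -/
def ptTab1 : Tr := (.node (.node (.node (.node (.node (.node (.node (.node (.node (.leaf 0x20230af) (.leaf 0x7f95d15e76a8e)) (.leaf 0x488faa8ff1473)) (.node (.leaf 0x3a58f6930c10d) (.leaf 0x64b267d22ce35))) (.node (.node (.leaf 0x8ea5225eba2d) (.leaf 0x575ea80b5c977)) (.node (.leaf 0x406f13879abff) (.leaf 0x737c040203ab5)))) (.node (.node (.node (.leaf 0x3e4d501) (.leaf 0x50501012bf2cb)) (.node (.leaf 0x4000a1fc2a9cf) (.leaf 0x6c1f54434e599))) (.node (.node (.leaf 0x229f11ad5b8c7) (.leaf 0x5e51efa9fab35)) (.node (.leaf 0x4345b0f1e0fd9) (.leaf 0x79eb138213d06))))) (.node (.node (.node (.node (.leaf 0x2e1a68f) (.leaf 0x4c0fd89f232fb)) (.node (.leaf 0x400086c464255) (.leaf 0x67b2e6ee3a180))) (.node (.node (.leaf 0x17df43bf505d5) (.leaf 0x5abd699497b2b)) (.node (.leaf 0x415d1f004ae8f) (.leaf 0x767e8e82264c1)))) (.node (.node (.node (.leaf 0x2215dd4f2841) (.leaf 0x537db2c5f9241)) (.node (.leaf 0x4002f0fec987a) (.leaf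 0x7065d2cefbe68))) (.node (.node (.leaf 0x3087e8769745b) (.leaf 0x6218fc0f263f3)) (.node (.leaf 0x450b78c0c57c1) (.leaf 0x7ce1d16716d7f)))))) (.node (.node (.node (.node (.node (.leaf 0x264573c) (.leaf 0x4a47db49dba9b)) (.node (.leaf 0x3e70943b7e4cd) (.leaf 0x66d7443f0ee23))) (.node (.node (.leaf 0x114541c9f90f7) (.leaf 0x593a4a8466ef3)) (.node (.leaf 0x409c09fc509d3) (.leaf 0x74ffc72c01fdb)))) (.node (.node (.node (.leaf 0x6f5fc196cd3) (.leaf 0x51da9e11972b6)) (.node (.leaf 0x4000b4fda2c0f) (.leaf 0x6ec76baf3391b))) (.node (.node (.leaf 0x27b216ee6a349) (.leaf 0x60263eacca01b)) (.node (.leaf 0x442fa072726ed) (.leaf 0x7adfb66ab8841))))) (.node (.node (.node (.node (.leaf 0x360d5a2) (.leaf 0x4f0d66f6d590f)) (.node (.leaf 0x400094dde9c4f) (.leaf 0x6a9b3af54daf3))) (.node (.node (.leaf 0x1dbc565929267) (.leaf 0x5c19605890e81)) (.node (.leaf 0x42659c30e6bb3) (.leaf 0x77de5709b3505)))) (.node (.node (.node (.leaf 0x46f82d4a3ccf) (.leaf 0x551e813f4d25d))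 (.node (.leaf 0x401e643806ee8) (.leaf 0x71a7f1d69fe81))) (.node (.node (.leaf 0x3494adc3bf84b) (.leaf 0x637db87b231bf)) (.node (.leaf 0x455d249fa5cca) (.leaf 0x7e70f93ce9220))))))) (.node (.node (.node (.node (.node (.node (.leaf 0x241fb27) (.leaf 0x48ee5af7b1389)) (.node (.leaf 0x3bd0a93632ae1) (.leaf 0x65f2d978c4f6a))) (.node (.node (.leaf 0xf0aca50600d3) (.leaf 0x584dd983ad646)) (.node (.leaf 0x408c2754ec4ad) (.leaf 0x7415796e48be6)))) (.node (.node (.node (.leaf 0x1cec554002b) (.leaf 0x514950c05841f)) (.node (.leaf 0x4000aaf485c83) (.leaf 0x6d970a3430ddf))) (.node (.node (.leaf 0x240706921f529) (.leaf 0x5f7db688789d5)) (.node (.leaf 0x43ddd54dbf23a) (.leaf 0x7a49649e282d1))))) (.node (.node (.node (.node (.leaf 0x3221b07) (.leaf 0x4c9f08566eeb9)) (.node (.leaf 0x40008db124021) (.leaf 0x68bf66a669e73))) (.node (.node (.leaf 0x1b4d2a6704777) (.leaf 0x5b5b7175d1a2b)) (.node (.leaf 0x4204e27bdb8b6) (.leaf 0x7730fab27df89)))) (.node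 (.node (.node (.leaf 0x2eec9001b6be) (.leaf 0x5417d32a8b8da)) (.node (.leaf 0x400fc84f646bb) (.leaf 0x70eca8494a0cd))) (.node (.node (.leaf 0x32c6f6eb1e0e9) (.leaf 0x62a62de2101b5)) (.node (.leaf 0x45334a2e64654) (.leaf 0x7d91a19491f8b)))))) (.node (.node (.node (.node (.node (.leaf 0x2a29132) (.leaf 0x4aae783af159e)) (.node (.leaf 0x3fe1f213f4832) (.leaf 0x67254fae4da05))) (.node (.node (.leaf 0x1261c234ea961) (.leaf 0x59eb834e312ac)) (.node (.leaf 0x4125b5c981b03) (.leaf 0x75a9894e567e7)))) (.node (.node (.node (.leaf 0x15dfdc012484) (.leaf 0x52ee677fffd87)) (.node (.leaf 0x4000bbc2a6ee7) (.leaf 0x6fd194e9f0c63))) (.node (.node (.leaf 0x2ed31ac1cbc00) (.leaf 0x6165b974d2b69)) (.node (.leaf 0x445bd77d942df) (.leaf 0x7bc112bb93e7c))))) (.node (.node (.node (.node (.leaf 0x3a02773) (.leaf 0x4f9fc0d61f0ea)) (.node (.leaf 0x40009b6f422ef) (.leaf 0x6b3ea45c47f6e))) (.node (.node (.leaf 0x2164863d9ddbb) (.leaf 0x5d7da1a1e8550)) (.node (.leaf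 0x42ea4fd175a85) (.leaf 0x78e1ec51b86e7)))) (.node (.node (.node (.leaf 0x55c6c142e0cb) (.leaf 0x565f5d9a6ebe1)) (.node (.leaf 0x404568af59863) (.leaf 0x725dfb86db16f))) (.node (.node (.leaf 0x37b0623f2289b) (.leaf 0x64186fc375586)) (.node (.leaf 0x48264d39fc1e3) (.leaf 0x7f0a9c97a886a)))))))) (.node (.node (.node (.node (.node (.node (.node (.node (.leaf 0x2215ed0) (.leaf 0x7fffd9cfe18a3)) (.leaf 0x48c65797f7df9)) (.node (.leaf 0x3ac1b0be1bc77) (.leaf 0x6564246fbe618))) (.node (.node (.leaf 0xaa32b85c770f) (.leaf 0x57d7fb8af94cf)) (.node (.leaf 0x40865d1a0211c) (.leaf 0x73e6e2cb16ce7)))) (.node (.node (.node (.leaf 0xf94c8e0001) (.leaf 0x50df87a3997e2)) (.node (.leaf 0x4000a6d0b2731) (.leaf 0x6d1aaa9c262ff))) (.node (.node (.leaf 0x24005f760af3f) (.leaf 0x5ed9b1597e3a3)) (.node (.leaf 0x4395d897c409f) (.leaf 0x7a29a49f67959))))) (.node (.node (.node (.node (.leaf 0x300f301) (.leaf 0x4c4f60386d9c6)) (.node (.leaf 0x40008af7c625d) (.leaf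 0x683ecf2314aa8))) (.node (.node (.leaf 0x180dc7cb0b36f) (.leaf 0x5b12343fd61e5)) (.node (.leaf 0x417a4fd137aa9) (.leaf 0x76e96e6f9af37)))) (.node (.node (.node (.leaf 0x26558713d62f) (.leaf 0x53bfacc9f222d)) (.node (.leaf 0x400891b520001) (.leaf 0x708d5bf0d4255))) (.node (.node (.leaf 0x31b072ffa36d5) (.leaf 0x623b3337117e5)) (.node (.leaf 0x4523a6408a11c) (.leaf 0x7d649ef62cc8e)))))) (.node (.node (.node (.node (.node (.leaf 0x281ba96) (.leaf 0x4a6f0f99ce8dd)) (.node (.leaf 0x3f74bd1388ea1) (.leaf 0x66f2585953a5c))) (.node (.node (.leaf 0x11de11d1a27ad) (.leaf 0x597b984cbc6a1)) (.node (.leaf 0x410479388a72d) (.leaf 0x7546eac6155da)))) (.node (.node (.node (.leaf 0x8f6a61e7f57) (.leaf 0x5279bbaab34a8)) (.node (.leaf 0x4000b88f3567f) (.leaf 0x6ef6913c73755))) (.node (.node (.leaf 0x2bba52fef6ec9) (.leaf 0x60bf5eaaf749b)) (.node (.leaf 0x444826689b309) (.leaf 0x7b52d8816dcf4))))) (.node (.node (.node (.node (.leaf 0x3828aae) (.leaf 0x4f4fbbee418c4))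 (.node (.leaf 0x400098b2c1dbc) (.leaf 0x6abe3ec3dc9c0))) (.node (.node (.leaf 0x1dbd3b40d7827) (.leaf 0x5d2f26f437283)) (.node (.leaf 0x42a636406ba1d) (.leaf 0x787814d617e95)))) (.node (.node (.node (.leaf 0x55abef9097fb) (.leaf 0x559eada518e05)) (.node (.leaf 0x4022820aa0fcf) (.leaf 0x71de88c72b2d8))) (.node (.node (.leaf 0x35a2ec02abd47) (.leaf 0x63df765860118)) (.node (.leaf 0x457d1c5dcbe2a) (.leaf 0x7ee08a1769e0b))))))) (.node (.node (.node (.node (.node (.node (.leaf 0x250a18b) (.leaf 0x4a270951ee52e)) (.node (.leaf 0x3df4774be309b) (.leaf 0x66626e9497ff2))) (.node (.node (.leaf 0xf0f85507ad23) (.leaf 0x589db1f75cf95)) (.node (.leaf 0x40923229cbbd2) (.leaf 0x74868ae2b0017)))) (.node (.node (.node (.leaf 0x65840973291) (.leaf 0x5193e3643ce86)) (.node (.leaf 0x4000b14f6120f) (.leaf 0x6e4f3d3c82905))) (.node (.node (.leaf 0x2727f8673a3db) (.leaf 0x5ff927099400e)) (.node (.leaf 0x440b6edecf355) (.leaf 0x7ab5bfb22caed))))) (.node (.node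 (.node (.node (.leaf 0x3485d80) (.leaf 0x4cdf01d1f6981)) (.node (.leaf 0x400091f5105bd) (.leaf 0x69be808c8e781))) (.node (.node (.leaf 0x1b9d6b8b0d989) (.leaf 0x5bc6fdae30b66)) (.node (.leaf 0x4241c782b50c3) (.leaf 0x77b4812321ad5)))) (.node (.node (.node (.leaf 0x45975b5705e1) (.leaf 0x549fb2c3e7265)) (.node (.leaf 0x401798880653d) (.leaf 0x71321f432a953))) (.node (.node (.leaf 0x34118b3a69619) (.leaf 0x63434063a9931)) (.node (.leaf 0x4545b5fc8122f) (.leaf 0x7dffcefdfbadf)))))) (.node (.node (.node (.node (.node (.leaf 0x2d15551) (.leaf 0x4acf8b9a49565)) (.node (.leaf 0x4000838938f51) (.leaf 0x6795a0dbe5fe1))) (.node (.node (.leaf 0x17da9b366ec9c) (.leaf 0x5a36426c91e17)) (.node (.leaf 0x41440fdc3fb81) (.leaf 0x75cddaf9216d3)))) (.node (.node (.node (.leaf 0x16548b0cf371) (.leaf 0x532c15f23bad7)) (.node (.leaf 0x4000bef70b3f1) (.leaf 0x6ff6a950bce0b))) (.node (.node (.leaf 0x2ed7e1d1113f9) (.leaf 0x61e6ecfaa0001)) (.node (.leaf 0x4471e6947d569)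 (.leaf 0x7c74b8a6efdf0))))) (.node (.node (.node (.node (.leaf 0x3c0b83e) (.leaf 0x4fdfd7c1c6b1a)) (.node (.leaf 0x40009ecdcde04) (.leaf 0x6bab26521109c))) (.node (.node (.leaf 0x22255999a8b3d) (.leaf 0x5df91da4898e5)) (.node (.leaf 0x43051157e4313) (.leaf 0x797dd9efab9f5)))) (.node (.node (.node (.leaf 0x86f921514d36) (.leaf 0x571a3f8f2b75f)) (.node (.leaf 0x4064218d784f5) (.leaf 0x72c8de1a6e403))) (.node (.node (.leaf 0x388406fbf5499) (.leaf 0x6439f0faf48ce)) (.node (.leaf 0x4863ab1db743d) (.leaf 0x7f6a9f1ed1a83)))))))))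

/-- Part of `ptTab`. -/
def ptTab2 : Tr := (.node (.node (.node (.node (.node (.node (.node (.node (.node (.leaf 0x2043228) (.leaf 0x7f9a4c5e4c141)) (.leaf 0x48a2ea3e99508)) (.node (.leaf 0x3a58f6930ea17) (.leaf 0x65429ca027063))) (.node (.node (.leaf 0x8ea5225f8e81) (.leaf 0x57923faea7e83)) (.node (.leaf 0x40808fe6239c8) (.leaf 0x73870aa77aafd)))) (.node (.node (.node (.leaf 0x3e6d507) (.leaf 0x5082fafe22380)) (.node (.leaf 0x4000a251d504c) (.leaf 0x6c814cbdc5925))) (.node (.node (.leaf 0x229f11ad5d62d) (.leaf 0x5e8ab89c58dfa)) (.node (.leaf 0x4360859f03090) (.leaf 0x79f4e4979b874))))) (.node (.node (.node (.node (.leaf 0x2e3a4dd) (.leaf 0x4c2657edfc483)) (.node (.leaf 0x4000877c66ec5) (.leaf 0x6808e23e52916))) (.node (.node (.leaf 0x18008726612c8) (.leaf 0x5ae7282d3ad12)) (.node (.leaf 0x4164297bc18fc) (.leaf 0x768383821167d)))) (.node (.node (.node (.leaf 0x2215dd4f2941) (.leaf 0x53a36488e7e1f)) (.node (.leaf 0x40037bf501a53) (.leaf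 0x706a5dce9cb09))) (.node (.node (.leaf 0x3087e87697cf1) (.leaf 0x62195a4ab551f)) (.node (.leaf 0x4515978c57366) (.leaf 0x7cf51a4ffa59a)))))) (.node (.node (.node (.node (.node (.leaf 0x2664f28) (.leaf 0x4a4854416aaa1)) (.node (.leaf 0x3e70943b7f117) (.leaf 0x66ed1ff2daab5))) (.node (.node (.leaf 0x114541c9fbfed) (.leaf 0x59647e775a789)) (.node (.leaf 0x409d31b484fe5) (.leaf 0x752257debda7b)))) (.node (.node (.node (.leaf 0x836a9dc0001) (.leaf 0x5221c42c8462c)) (.node (.leaf 0x4000b58931cfd) (.leaf 0x6ed0676d3220d))) (.node (.node (.leaf 0x27b216ee6d225) (.leaf 0x6027bb334523f)) (.node (.leaf 0x443767ef9a672) (.leaf 0x7b221793522f2))))) (.node (.node (.node (.node (.leaf 0x362cfe2) (.leaf 0x4f284bca3e17e)) (.node (.leaf 0x400095396fdb4) (.leaf 0x6a9df1fbe8f78))) (.node (.node (.leaf 0x1dbc5659292ed) (.leaf 0x5c8ec91a8eacb)) (.node (.leaf 0x4280b541725b7) (.leaf 0x7806d0bf6d65d)))) (.node (.node (.node (.leaf 0x46f82d4afab5) (.leaf 0x554e13e2b5851))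 (.node (.leaf 0x401edeb44c601) (.leaf 0x71a9b6eb32ff7))) (.node (.node (.leaf 0x35343ee748aa7) (.leaf 0x63c01cf3eaab1)) (.node (.leaf 0x456425d0627ab) (.leaf 0x7e7e5e15ff2cf))))))) (.node (.node (.node (.node (.node (.node (.leaf 0x2438614) (.leaf 0x4a005a11055be)) (.node (.leaf 0x3bd0a936342c7) (.leaf 0x6641a1bc1a008))) (.node (.node (.leaf 0xf0aca5060255) (.leaf 0x58826d02d7ac9)) (.node (.leaf 0x408d588847de9) (.leaf 0x741b3e48ad35c)))) (.node (.node (.node (.leaf 0x1cec554ee4b) (.leaf 0x514d418154bdf)) (.node (.leaf 0x4000ac7ba8fd3) (.leaf 0x6da461f0b32ac))) (.node (.node (.leaf 0x270588f7e3765) (.leaf 0x5faa0000f2593)) (.node (.leaf 0x43fa8597da9b7) (.leaf 0x7a56d517251cf))))) (.node (.node (.node (.node (.leaf 0x3260313) (.leaf 0x4cb1af880a848)) (.node (.leaf 0x40008ead74701) (.leaf 0x692bc7ea33bd8))) (.node (.node (.leaf 0x1b4d2a670b8c3) (.leaf 0x5b826ec97e301)) (.node (.leaf 0x4220624447c14) (.leaf 0x77348ee2bb0bf)))) (.node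 (.node (.node (.leaf 0x2eec9001b6fc) (.leaf 0x5442b03eded8b)) (.node (.leaf 0x40108fe643b4f) (.leaf 0x70f044cfc460a))) (.node (.node (.leaf 0x32c6f6eb1f5f5) (.leaf 0x62a7a864e5705)) (.node (.leaf 0x453cccee565a7) (.leaf 0x7d9a4ba4a9e98)))))) (.node (.node (.node (.node (.node (.leaf 0x2a693b2) (.leaf 0x4ac00d5a7ae42)) (.node (.leaf 0x4000000000001) (.leaf 0x67272c677bbef))) (.node (.node (.leaf 0x1261c234f16ed) (.leaf 0x59f4536358f89)) (.node (.leaf 0x4132a218faed3) (.leaf 0x75b0f1f3e0de3)))) (.node (.node (.node (.leaf 0x15dfdc012508) (.leaf 0x52f2af3c629ab)) (.node (.leaf 0x4000bc3f660f9) (.leaf 0x6fd3a86fa8291))) (.node (.node (.leaf 0x2ed31ac1d09bc) (.leaf 0x617a6fad34587)) (.node (.leaf 0x4464f6b42ff33) (.leaf 0x7bce6edf5b78d))))) (.node (.node (.node (.node (.leaf 0x3a43fb5) (.leaf 0x4fb4fd80cca66)) (.node (.leaf 0x40009c1ce54fb) (.leaf 0x6b88e333dbcda))) (.node (.node (.leaf 0x2164863d9f733) (.leaf 0x5dae70d679500)) (.node (.leaf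 0x42eac093dc2ed) (.leaf 0x78eae6a672990)))) (.node (.node (.node (.leaf 0x82ed9f1414f9) (.leaf 0x56ca1ae51b716)) (.node (.leaf 0x404892cb139df) (.leaf 0x72a2264d169c1))) (.node (.node (.leaf 0x37b0623f25e7d) (.leaf 0x641f2d277212c)) (.node (.leaf 0x482aef7b78f77) (.leaf 0x7f153d2481631)))))))) (.node (.node (.node (.node (.node (.node (.node (.leaf 0x2255c82) (.leaf 0x48cb3d1072e8d)) (.node (.leaf 0x3b5d28bae0087) (.leaf 0x65645129b720b))) (.node (.node (.leaf 0xaa32b85d043b) (.leaf 0x5800bdf6387ed)) (.node (.leaf 0x4087779f5d723) (.leaf 0x73f08fd6ae3a9)))) (.node (.node (.node (.leaf 0xf94c8e0007) (.leaf 0x510163c8f92ed)) (.node (.leaf 0x4000a73db0735) (.leaf 0x6d299909d5ad7))) (.node (.node (.leaf 0x24005f7615627) (.leaf 0x5f2a18b194216)) (.node (.leaf 0x43b280ccb34bf) (.leaf 0x7a36e325a0de4))))) (.node (.node (.node (.node (.leaf 0x306f154) (.leaf 0x4c66eb19646bd)) (.node (.leaf 0x40008b35161fc) (.leaf 0x688ddbbb0cfe7))) (.node (.node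 (.leaf 0x180dc7cb0b9d5) (.leaf 0x5b1a3ea83ac5d)) (.node (.leaf 0x417af99ceed31) (.leaf 0x76f1ba0f7baf3)))) (.node (.node (.node (.leaf 0x2a736c9247a1) (.leaf 0x53e35cf04d78f)) (.node (.leaf 0x400a874f25e7d) (.leaf 0x7090458ffb8b1))) (.node (.node (.leaf 0x31b072ffa7d67) (.leaf 0x6280b4ee9f48f)) (.node (.leaf 0x452c2091fef55) (.leaf 0x7d6f655aa4cb4)))))) (.node (.node (.node (.node (.node (.leaf 0x287ba45) (.leaf 0x4a83abf07df1b)) (.node (.leaf 0x3f74bd139406f) (.leaf 0x6705777f012a5))) (.node (.node (.leaf 0x11de11d1b614b) (.leaf 0x59a3201efa2d2)) (.node (.leaf 0x4110b780a1cd6) (.leaf 0x754977cea1bbf)))) (.node (.node (.node (.leaf 0x8f6a61e7f7b) (.leaf 0x52a3a829a0e37)) (.node (.leaf 0x4000b95974341) (.leaf 0x6f4ac87022305))) (.node (.node (.leaf 0x2bba52fef6fd9) (.leaf 0x6142ff5850849)) (.node (.leaf 0x4449d039c95ff) (.leaf 0x7b53eb4d8e94d))))) (.node (.node (.node (.node (.leaf 0x3848aaf) (.leaf 0x4f90461ea2e75)) (.node (.leaf 0x40009910aea7f)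 (.leaf 0x6b0d00ca0ab25))) (.node (.node (.leaf 0x21622c90a0000) (.leaf 0x5d304c50e524e)) (.node (.leaf 0x42a698ddefeb7) (.leaf 0x7885b33e7a801)))) (.node (.node (.node (.leaf 0x55abef90ae21) (.leaf 0x55cabec313fd5)) (.node (.leaf 0x4025a3a60b435) (.leaf 0x7225d2efeb282))) (.node (.node (.leaf 0x35a2ec02bdcc7) (.leaf 0x63e573322b6bb)) (.node (.leaf 0x48009577ef827) (.leaf 0x7eee2d22d08cd))))))) (.node (.node (.node (.node (.node (.node (.leaf 0x252defe) (.leaf 0x4a28865979021)) (.node (.leaf 0x3df4774be7be9) (.leaf 0x667d292e5829b))) (.node (.node (.leaf 0x11094fc9681e9) (.leaf 0x58c666f38cab7)) (.node (.leaf 0x40934df568b78) (.leaf 0x748cb3cf78ae4)))) (.node (.node (.node (.leaf 0x65840973451) (.leaf 0x5197d27c53a1d)) (.node (.leaf 0x4000b21b46ee7) (.leaf 0x6e5bf61ec5727))) (.node (.node (.leaf 0x2727f8673c309) (.leaf 0x600084b27bc9f)) (.node (.leaf 0x441488e720ca5) (.leaf 0x7aba22ba99c78))))) (.node (.node (.node (.node (.leaf 0x34a38b5)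 (.leaf 0x4cf0555629d02)) (.node (.leaf 0x4000923c3e0b1) (.leaf 0x6a08c9733c62e))) (.node (.node (.leaf 0x1b9d6b8b10d85) (.leaf 0x5bce62f5b1a15)) (.node (.leaf 0x424400c537ddd) (.leaf 0x77bbd250c7463)))) (.node (.node (.node (.leaf 0x45975b57868f) (.leaf 0x54cb9bebe5149)) (.node (.leaf 0x4018179900001) (.leaf 0x7137b29578343))) (.node (.node (.leaf 0x34118b3a6a057) (.leaf 0x635c2ad1cdfad)) (.node (.leaf 0x454a332dd21a5) (.leaf 0x7e0fa2c3ac43e)))))) (.node (.node (.node (.node (.node (.leaf 0x2d328a2) (.leaf 0x4ae38fd50a0ea)) (.node (.leaf 0x400084a8c15b6) (.leaf 0x6795eccbba64c))) (.node (.node (.leaf 0x17da9b366ed06) (.leaf 0x5a61733f9abb1)) (.node (.leaf 0x4145a996f4639) (.leaf 0x75d1127214136)))) (.node (.node (.node (.leaf 0x16548b0cf5f1) (.leaf 0x5330ddaac0bc4)) (.node (.leaf 0x4000bf8a8c494) (.leaf 0x70009e4783487))) (.node (.node (.leaf 0x301d33be00c04) (.leaf 0x61f8a43545e7d)) (.node (.leaf 0x44722309efc8e) (.leaf 0x7c856412b084b)))))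 (.node (.node (.node (.node (.leaf 0x3c2dd1f) (.leaf 0x500085eb52a49)) (.node (.leaf 0x40009f2d4803b) (.leaf 0x6bac2de4954f5))) (.node (.node (.leaf 0x22255999aa4f5) (.leaf 0x5e070d5112d0d)) (.node (.leaf 0x4320256958f6c) (.leaf 0x7984aaafb2776)))) (.node (.node (.node (.leaf 0x86f9215167b6) (.leaf 0x57424482e2de5)) (.node (.leaf 0x4064e853be78b) (.leaf 0x72cd710decd1f))) (.node (.node (.leaf 0x388406fbfee21) (.leaf 0x64888cb846528)) (.node (.leaf 0x486501aea4ea9) (.leaf 0x7f74ce9594f47)))))))))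

/-- Part of `ptTab`. -/
def ptTab3 : Tr := (.node (.node (.node (.node (.node (.node (.node (.node (.node (.leaf 0x20b3a27) (.leaf 0x7f9a954e17f92)) (.leaf 0x48a5b3d0ea688)) (.node (.leaf 0x3a58f6931519b) (.leaf 0x6542c26c5f858))) (.node (.node (.leaf 0x8ea5225fdee5) (.leaf 0x5797ce6700a38)) (.node (.leaf 0x4081dd382a185) (.leaf 0x7388636e03b74)))) (.node (.node (.node (.leaf 0x3e84f73) (.leaf 0x5086cbfa137f5)) (.node (.leaf 0x4000a2adf8e1f) (.leaf 0x6c86370898211))) (.node (.node (.leaf 0x22bb8d88c7839) (.leaf 0x5e94de3c494da)) (.node (.leaf 0x43613fc838f47) (.leaf 0x79f5cd4636983))))) (.node (.node (.node (.node (.leaf 0x2e95f38) (.leaf 0x4c28e33c73601)) (.node (.leaf 0x400087f1df453) (.leaf 0x680df9bf42cfc))) (.node (.node (.leaf 0x1800872661846) (.leaf 0x5ae7b0a3cb3f0)) (.node (.leaf 0x41646569496c1) (.leaf 0x7687efcaa87c5)))) (.node (.node (.node (.leaf 0x2215dd4f2a41) (.leaf 0x53a746887dac9)) (.node (.leaf 0x4004221b61a47) (.leaf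 0x706fcbd66abc5))) (.node (.node (.leaf 0x3087e87698e97) (.leaf 0x621b399063d86)) (.node (.leaf 0x4517f1b018761) (.leaf 0x7cf5d14e6e3bb)))))) (.node (.node (.node (.node (.node (.leaf 0x26ce8dc) (.leaf 0x4a4bc06c58b11)) (.node (.leaf 0x3ef1384b808b7) (.leaf 0x66ed75649851b))) (.node (.node (.leaf 0x114541c9feab1) (.leaf 0x5964dfe0cd447)) (.node (.leaf 0x409dbd30646b1) (.leaf 0x75262ac75b400)))) (.node (.node (.node (.leaf 0x836a9dc0021) (.leaf 0x5225ef2c857ab)) (.node (.leaf 0x4000b5daf0667) (.leaf 0x6ed4aabdffe57))) (.node (.node (.leaf 0x27b216ee6f6ed) (.leaf 0x603808820e0a2)) (.node (.leaf 0x4438194d880cd) (.leaf 0x7b33c2a7e8e64))))) (.node (.node (.node (.node (.leaf 0x36c1195) (.leaf 0x4f2a3ea6986ef)) (.node (.leaf 0x40009574d76b3) (.leaf 0x6a9e347df028e))) (.node (.node (.leaf 0x1dbc565929329) (.leaf 0x5c8f85db86bb0)) (.node (.leaf 0x4281e9df602ad) (.leaf 0x780cdd536125c)))) (.node (.node (.node (.leaf 0x47a9225a5b39) (.leaf 0x55537d2e17171))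 (.node (.leaf 0x401f09260fd4e) (.leaf 0x71b57eb1416c6))) (.node (.node (.leaf 0x35343ee74a18b) (.leaf 0x63c1a82e0c0fe)) (.node (.leaf 0x4565df480f96d) (.leaf 0x7e7eb68aebe3d))))))) (.node (.node (.node (.node (.node (.node (.leaf 0x2446172) (.leaf 0x4a04eec8c2110)) (.node (.leaf 0x3bd0a9363d799) (.leaf 0x66426642a3c9d))) (.node (.node (.leaf 0xf0aca5061a47) (.leaf 0x5882f6406dd5f)) (.node (.leaf 0x408f09266ffcf) (.leaf 0x741f405547409)))) (.node (.node (.node (.leaf 0x1f786187f45) (.leaf 0x5155d9bf6955d)) (.node (.leaf 0x4000acad6eb43) (.leaf 0x6db04c19c3c85))) (.node (.node (.leaf 0x270588f7eca29) (.leaf 0x5fb4d0e0f743c)) (.node (.leaf 0x43fbd909c07cd) (.leaf 0x7a595a065c9c7))))) (.node (.node (.node (.node (.leaf 0x32894e9) (.leaf 0x4cb85385d5660)) (.node (.leaf 0x40008edcfdd85) (.leaf 0x692d7897c8c85))) (.node (.node (.leaf 0x1b4d2a670c257) (.leaf 0x5b82fa84bd8db)) (.node (.leaf 0x4220fad166f93) (.leaf 0x773bf047bb802)))) (.node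 (.node (.node (.leaf 0x2eec9001f732) (.leaf 0x544a0337a1cd9)) (.node (.leaf 0x401151a54bbfb) (.leaf 0x70f5c0dfc2401))) (.node (.node (.leaf 0x32d0b9f6a01ab) (.leaf 0x62b8c2d171a42)) (.node (.leaf 0x453d12b4205e5) (.leaf 0x7d9a9ce2dbb34)))))) (.node (.node (.node (.node (.node (.leaf 0x2abde6f) (.leaf 0x4ac3997fe4b71)) (.node (.leaf 0x40004e8780001) (.leaf 0x6739a336b533f))) (.node (.node (.leaf 0x12683e90a08fb) (.leaf 0x59f4c4fbaed45)) (.node (.leaf 0x4133eedb5c37f) (.leaf 0x75b49733ffb6b)))) (.node (.node (.node (.leaf 0x15dfdc0127de) (.leaf 0x52f680a59e395)) (.node (.leaf 0x4000bc864951f) (.leaf 0x6fd74dfefe213))) (.node (.node (.leaf 0x2ed31ac1d0a3e) (.leaf 0x617bf8be18a85)) (.node (.leaf 0x446501aedb6f7) (.leaf 0x7bd10473217cf))))) (.node (.node (.node (.node (.leaf 0x3aaee0a) (.leaf 0x4fb6a5ec6adc7)) (.node (.leaf 0x40009ca5c5f41) (.leaf 0x6b8af5df7c13d))) (.node (.node (.leaf 0x2164863d9ff1b) (.leaf 0x5daf30c734bc7)) (.node (.leaf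 0x42ee3b81cc893) (.leaf 0x78f5cb9e09041)))) (.node (.node (.node (.leaf 0x82ed9f1515f1) (.leaf 0x56cfeb2cbc0f7)) (.node (.leaf 0x4049de08bdc59) (.leaf 0x72a78b823e555))) (.node (.node (.leaf 0x37b0623f299d7) (.leaf 0x641f483cd02f3)) (.node (.leaf 0x482db6950bceb) (.leaf 0x7f15c9f37a377)))))))) (.node (.node (.node (.node (.node (.node (.node (.leaf 0x228559c) (.leaf 0x48cdbd7e3b385)) (.node (.leaf 0x3b5d28baed1db) (.leaf 0x657bf2a2dc307))) (.node (.node (.leaf 0xaaa6da00001b) (.leaf 0x580dd013fe2df)) (.node (.leaf 0x4087d61c76cc8) (.leaf 0x73f50bd73bfce)))) (.node (.node (.node (.leaf 0xf94c8e0013) (.leaf 0x51055bc9777f1)) (.node (.leaf 0x4000a7a45eae3) (.leaf 0x6d2bfac0124ef))) (.node (.node (.leaf 0x24005f7616495) (.leaf 0x5f34f7918def7)) (.node (.leaf 0x43b3fd91985f3) (.leaf 0x7a37d268cb8fb))))) (.node (.node (.node (.node (.leaf 0x30a00cc) (.leaf 0x4c69add19455a)) (.node (.leaf 0x40008b5983cae) (.leaf 0x68980153771fa))) (.node (.node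 (.leaf 0x180dc7cb1266b) (.leaf 0x5b1ab1e5f4005)) (.node (.leaf 0x417b22cf3e98f) (.leaf 0x76f5dcded7302)))) (.node (.node (.node (.leaf 0x2a736c932869) (.leaf 0x53e773724e71b)) (.node (.leaf 0x400b740c0e592) (.leaf 0x7095d15e30569))) (.node (.node (.leaf 0x31b072ffa8d11) (.leaf 0x6281127a54991)) (.node (.leaf 0x452dda10e961f) (.leaf 0x7d707816e2b39)))))) (.node (.node (.node (.node (.node (.leaf 0x288f40f) (.leaf 0x4a85474db33ed)) (.node (.leaf 0x3f74bd1395035) (.leaf 0x67072aee507e9))) (.node (.node (.leaf 0x11de11d1bb415) (.leaf 0x59a3bb4d96649)) (.node (.leaf 0x41147fd65a287) (.leaf 0x754d0097a60b0)))) (.node (.node (.node (.leaf 0x8f6a61f6cef) (.leaf 0x52a78a38ecaac)) (.node (.leaf 0x4000b9adf1dbd) (.leaf 0x6f5ad9098462c))) (.node (.node (.leaf 0x2bbf537ee0001) (.leaf 0x614374802019f)) (.node (.leaf 0x444a252b798eb) (.leaf 0x7b5c973fe0da7))))) (.node (.node (.node (.node (.leaf 0x3883ff4) (.leaf 0x4f922031dfed6)) (.node (.leaf 0x400099fa5db42)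 (.leaf 0x6b0f293f454eb))) (.node (.node (.leaf 0x21622c90a876c) (.leaf 0x5d3133891855c)) (.node (.leaf 0x42a70fc19bae1) (.leaf 0x788eb148fb28e)))) (.node (.node (.node (.leaf 0x55abef90c1fd) (.leaf 0x55d7d0d64599a)) (.node (.leaf 0x4026529012a28) (.leaf 0x723946320bbfd))) (.node (.node (.leaf 0x35a2ec02bf7cf) (.leaf 0x63e77004144ce)) (.node (.leaf 0x48043da5fe506) (.leaf 0x7ef16a8c0f73c))))))) (.node (.node (.node (.node (.node (.node (.leaf 0x255394c) (.leaf 0x4a2ae9bc00df3)) (.node (.leaf 0x3df4774bf767f) (.leaf 0x667d67b723e59))) (.node (.node (.leaf 0x11094fc973b17) (.leaf 0x58c6f17200e39)) (.node (.leaf 0x4095138f0c4a1) (.leaf 0x74905f4e6eef3)))) (.node (.node (.node (.leaf 0x65840973611) (.leaf 0x519b433d790df)) (.node (.leaf 0x4000b2a55f277) (.leaf 0x6e5f3bce08b61))) (.node (.node (.leaf 0x2727f8673f655) (.leaf 0x6001223fca41d)) (.node (.leaf 0x4419e00145a77) (.leaf 0x7abb013a03bb6))))) (.node (.node (.node (.node (.leaf 0x34dc587)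 (.leaf 0x4cf390d89907b)) (.node (.leaf 0x400092822443b) (.leaf 0x6a1e0ae7bc62f))) (.node (.node (.leaf 0x1bd80fe76207d) (.leaf 0x5bd02a3f0a29b)) (.node (.leaf 0x42456f580cd4b) (.leaf 0x77bfbd0dc55e0)))) (.node (.node (.node (.leaf 0x45975b57b6b5) (.leaf 0x54d2feb60efb3)) (.node (.leaf 0x40187d14ebbd1) (.leaf 0x713c586d40cb3))) (.node (.node (.leaf 0x34118b3a73693) (.leaf 0x635d9ed877bbc)) (.node (.leaf 0x454bc13c06af5) (.leaf 0x7e11095504e17)))))) (.node (.node (.node (.node (.node (.leaf 0x2d4d584) (.leaf 0x4ae705548e65f)) (.node (.leaf 0x400084f48edbd) (.leaf 0x67979c52477b9))) (.node (.node (.leaf 0x17da9b366efca) (.leaf 0x5a61ddb1626ef)) (.node (.leaf 0x4145f8ccc560d) (.leaf 0x75d56523bfeba)))) (.node (.node (.node (.leaf 0x17b5dc8a1f27) (.leaf 0x5334f6b69f9b5)) (.node (.leaf 0x4000bff4935bb) (.leaf 0x70050a9ea1367))) (.node (.node (.leaf 0x301d33be0b2ea) (.leaf 0x61f90c3d65677)) (.node (.leaf 0x44781a247f6bc) (.leaf 0x7c8f591bc4599)))))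 (.node (.node (.node (.node (.leaf 0x3c538ff) (.leaf 0x5004bdfe2eb20)) (.node (.leaf 0x40009f4d2c8b5) (.leaf 0x6bae2ec3581b8))) (.node (.node (.leaf 0x22255999aeb3d) (.leaf 0x5e0ef5c01089c)) (.node (.leaf 0x43214af46b75e) (.leaf 0x79859bfee6a81)))) (.node (.node (.node (.leaf 0x86f9215173f6) (.leaf 0x57479cd233ce1)) (.node (.leaf 0x4065da4f66d42) (.leaf 0x72d5a579c1b0e))) (.node (.node (.leaf 0x3891e2c3c0001) (.leaf 0x648fe39c40001)) (.node (.leaf 0x4867029597c37) (.leaf 0x7f7b485581141)))))))))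

/-- Part of `ptTab`. -/
def ptTab4 : Tr := (.node (.node (.node (.node (.node (.node (.node (.node (.node (.leaf 0x20d3ae6) (.leaf 0x7fe19395f5539)) (.leaf 0x48a90a8eecb05)) (.node (.leaf 0x3a58f69316263) (.leaf 0x654469f4c9991))) (.node (.node (.leaf 0x8ea5225ff44d) (.leaf 0x579a1d83cd4cf)) (.node (.leaf 0x4082761dabbfb) (.leaf 0x73909e46cf8ed)))) (.node (.node (.node (.leaf 0x3ea5527) (.leaf 0x508b897bdb5b1)) (.node (.leaf 0x4000a34f78af0) (.leaf 0x6c93d40722d2b))) (.node (.node (.leaf 0x22bb8d88cbe1f) (.leaf 0x5e9c6d3d9e511)) (.node (.leaf 0x4364b900d1473) (.leaf 0x79fe270edb5e4))))) (.node (.node (.node (.node (.leaf 0x2eb5ff8) (.leaf 0x4c2af5a0abe13)) (.node (.leaf 0x4000887310409) (.leaf 0x680fbea7cd26b))) (.node (.node (.leaf 0x18008726622fc) (.leaf 0x5aee6c3a70d9d)) (.node (.leaf 0x4164fe2494567) (.leaf 0x7690599f3cddf)))) (.node (.node (.node (.leaf 0x2215dd4f2d41) (.leaf 0x53ab46a29be57)) (.node (.leaf 0x4004b590e0001) (.leaf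 0x707327490a01f))) (.node (.node (.leaf 0x31397023abf79) (.leaf 0x62247499ce81e)) (.node (.leaf 0x451cf431d8750) (.leaf 0x7cff018fbbc59)))))) (.node (.node (.node (.node (.node (.leaf 0x26ef25a) (.leaf 0x4a4ce819b8d8c)) (.node (.leaf 0x3ef1384b85945) (.leaf 0x66ee90d0ee597))) (.node (.node (.leaf 0x119fc16c86fb7) (.leaf 0x59686c5577091)) (.node (.leaf 0x409e9a99ad51e) (.leaf 0x7529b7cf90757)))) (.node (.node (.node (.leaf 0x836a9dc0029) (.leaf 0x52283cc0e09d7)) (.node (.leaf 0x4000b66f422df) (.leaf 0x6ee486c5d9493))) (.node (.node (.leaf 0x27b216ee72a77) (.leaf 0x6039b2dd9dfcc)) (.node (.leaf 0x4439ca97e29f1) (.leaf 0x7b3cbc0d52860))))) (.node (.node (.node (.node (.leaf 0x36e1187) (.leaf 0x4f2d0c5254983)) (.node (.leaf 0x4000965c61da9) (.leaf 0x6aaad57256cbf))) (.node (.node (.leaf 0x1dbc565932641) (.leaf 0x5c9c59c6ae3a5)) (.node (.leaf 0x42857f5d9e90a) (.leaf 0x780dedcb0e6c7)))) (.node (.node (.node (.leaf 0x47a9225a8d59) (.leaf 0x555a157214cb9))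 (.node (.leaf 0x401f55692c4bf) (.leaf 0x71bb1d4e677a1))) (.node (.node (.leaf 0x35343ee7502c1) (.leaf 0x63c23515b51c6)) (.node (.leaf 0x456eed40e360f) (.leaf 0x7e84d5731f6b3))))))) (.node (.node (.node (.node (.node (.node (.leaf 0x2460481) (.leaf 0x4a0a9b58439e9)) (.node (.leaf 0x3de04d3244435) (.leaf 0x665cb617d9a13))) (.node (.node (.leaf 0xf0aca507f345) (.leaf 0x588f3f2709689)) (.node (.leaf 0x408f71695cd7d) (.leaf 0x746d202732e91)))) (.node (.node (.node (.leaf 0x1f786187f71) (.leaf 0x51597beb642f4)) (.node (.leaf 0x4000ad596cc11) (.leaf 0x6db20b09e4299))) (.node (.node (.leaf 0x270588f7f0603) (.leaf 0x5fbcf7ae46384)) (.node (.leaf 0x43fe4dc130400) (.leaf 0x7aa454459996d))))) (.node (.node (.node (.node (.leaf 0x32c94e9) (.leaf 0x4cbd16c554154)) (.node (.leaf 0x40008f0cbc02d) (.leaf 0x693ac2b55d789))) (.node (.node (.leaf 0x1b4d2a670f7d9) (.leaf 0x5b8addd3504e6)) (.node (.leaf 0x422152dc56d7d) (.leaf 0x7748d79367617)))) (.node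 (.node (.node (.leaf 0x44b4d3994e98) (.leaf 0x544fe077a5612)) (.node (.leaf 0x4011a56bcee4b) (.leaf 0x70fa4fdfa5144))) (.node (.node (.leaf 0x32d0b9f6ab13d) (.leaf 0x62b978907c519)) (.node (.leaf 0x453e9d40ac1b6) (.leaf 0x7de022f45ab41)))))) (.node (.node (.node (.node (.node (.leaf 0x2afdc3b) (.leaf 0x4ac487c0608ce)) (.node (.leaf 0x40008019debe1) (.leaf 0x6739f2617aca2))) (.node (.node (.leaf 0x12683e90a20dd) (.leaf 0x59f8415033539)) (.node (.leaf 0x413641dd0cc8e) (.leaf 0x75bb11ea0484e)))) (.node (.node (.node (.leaf 0x15dfdc016442) (.leaf 0x52fb7790947f9)) (.node (.leaf 0x4000bd429f0fc) (.leaf 0x6fe19085a1ba3))) (.node (.node (.leaf 0x2ed31ac1d0a60) (.leaf 0x617ccc19fed77)) (.node (.leaf 0x44671729a99a9) (.leaf 0x7bde47c157a5f))))) (.node (.node (.node (.node (.leaf 0x3aeeed8) (.leaf 0x4fbd97ec2e234)) (.node (.leaf 0x40009d1531e25) (.leaf 0x6b98f5fe99339))) (.node (.node (.leaf 0x2206db01cb7b7) (.leaf 0x5db065acb6254)) (.node (.leaf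 0x42eeb4c604963) (.leaf 0x78fef7a163dbe)))) (.node (.node (.node (.leaf 0x82ed9f151b31) (.leaf 0x56db0c141070b)) (.node (.leaf 0x404d630032856) (.leaf 0x72ac817d5ca8b))) (.node (.node (.leaf 0x37b0623f396dd) (.leaf 0x642095afb76ad)) (.node (.leaf 0x484029895dba4) (.leaf 0x7f1a46e25a378)))))))) (.node (.node (.node (.node (.node (.node (.node (.leaf 0x22c571a) (.leaf 0x48e0f796ea0dd)) (.node (.leaf 0x3b5d28baefdc1) (.leaf 0x657d2bb5d63b7))) (.node (.node (.leaf 0xaaa6da002113) (.leaf 0x58128570d4bc7)) (.node (.leaf 0x4088ea86f6cfb) (.leaf 0x73fa5f177a45f)))) (.node (.node (.node (.leaf 0xf94c8e0025) (.leaf 0x510dc489def97)) (.node (.leaf 0x4000a86320bff) (.leaf 0x6d2d515886fa6))) (.node (.node (.leaf 0x24005f7617609) (.leaf 0x5f3cfd1791c77)) (.node (.leaf 0x43b79b489cca1) (.leaf 0x7a3854a8a030f))))) (.node (.node (.node (.node (.leaf 0x30c181f) (.leaf 0x4c6a4c579c3f9)) (.node (.leaf 0x40008bb66e927) (.leaf 0x689a629218f49))) (.node (.node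 (.leaf 0x1b05996f25acb) (.leaf 0x5b4530ae233ad)) (.node (.leaf 0x417b7c1043155) (.leaf 0x76fb79963b525)))) (.node (.node (.node (.leaf 0x2a736c932961) (.leaf 0x53fa657f62870)) (.node (.leaf 0x400bbf0a62136) (.leaf 0x709a4c5e536b5))) (.node (.node (.leaf 0x31b072ffbbfc1) (.leaf 0x6282f3e505885)) (.node (.leaf 0x452e55fd8bf41) (.leaf 0x7d7092472febe)))))) (.node (.node (.node (.node (.node (.leaf 0x28ef69a) (.leaf 0x4a8b1fdd32b1a)) (.node (.leaf 0x3f74bd13983b3) (.leaf 0x67077436bb3b3))) (.node (.node (.leaf 0x11de11d1bdf2b) (.leaf 0x59bd2b6d91057)) (.node (.leaf 0x4115464b8e055) (.leaf 0x7551c81c93743)))) (.node (.node (.node (.leaf 0x144c91c73a0f) (.leaf 0x52bab5754fa1f)) (.node (.leaf 0x4000ba00701d8) (.leaf 0x6f68ad303dc69))) (.node (.node (.leaf 0x2bbf537ee9d13) (.leaf 0x61444025a9d94)) (.node (.leaf 0x44557048531f9) (.leaf 0x7ba54ddfc2b25))))) (.node (.node (.node (.node (.leaf 0x38e2573) (.leaf 0x4f951b1ebe8ea)) (.node (.leaf 0x40009a2eeb3d5)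 (.leaf 0x6b2845dbaee49))) (.node (.node (.leaf 0x21622c90b4648) (.leaf 0x5d3cfaee5b36d)) (.node (.leaf 0x42c8b018ba336) (.leaf 0x788f88c4fd431)))) (.node (.node (.node (.leaf 0x55abef90e0c3) (.leaf 0x55db6993b3007)) (.node (.leaf 0x4027a0989c6f5) (.leaf 0x724080f6d22e5))) (.node (.node (.leaf 0x37a7fabae1317) (.leaf 0x63fa6e7637ec1)) (.node (.leaf 0x48096df895c0d) (.leaf 0x7eff0832a1fb2))))))) (.node (.node (.node (.node (.node (.node (.leaf 0x2575ef9) (.leaf 0x4a2c3b4024303)) (.node (.leaf 0x3df4774bfa30f) (.leaf 0x667ea61d2a035))) (.node (.node (.leaf 0x11094fc97420b) (.leaf 0x58d86d82494eb)) (.node (.leaf 0x40973abdbd71a) (.leaf 0x749a427575e7d)))) (.node (.node (.node (.leaf 0x658409736d1) (.leaf 0x51c21d3b80fa0)) (.node (.leaf 0x4000b37713bef) (.leaf 0x6e6cbac882b8a))) (.node (.node (.leaf 0x2797711aaae59) (.leaf 0x60066a26ff645)) (.node (.leaf 0x441eb30c52b99) (.leaf 0x7ac007fa1acd7))))) (.node (.node (.node (.node (.leaf 0x34fb872)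 (.leaf 0x4cf51897bdaef)) (.node (.leaf 0x4000930987c37) (.leaf 0x6a2b5f7a02305))) (.node (.node (.leaf 0x1bd80fe7651c5) (.leaf 0x5bd0b2af45e0a)) (.node (.leaf 0x42616722f61d1) (.leaf 0x77c32b5d7a40e)))) (.node (.node (.node (.leaf 0x45975b57bc01) (.leaf 0x54da7b77d1c45)) (.node (.leaf 0x4019c9d283b4f) (.leaf 0x7145d2ef82481))) (.node (.node (.leaf 0x34118b3a7585f) (.leaf 0x635e03f28871a)) (.node (.leaf 0x454cf3c845cfb) (.leaf 0x7e11e312ba5f9)))))) (.node (.node (.node (.node (.node (.leaf 0x2d6b0b7) (.leaf 0x4aeaec600b162)) (.node (.leaf 0x40008520d1b9f) (.leaf 0x67ac3831cbd80))) (.node (.node (.leaf 0x17da9b3675bb2) (.leaf 0x5a688bae99e20)) (.node (.leaf 0x4158c78ee4209) (.leaf 0x75daf82b0b0e9)))) (.node (.node (.node (.leaf 0x17b5dc8a9647) (.leaf 0x5338f68d3f0a1)) (.node (.leaf 0x4000d90960001) (.leaf 0x700a859e9e6c1))) (.node (.node (.leaf 0x301d33be0ba64) (.leaf 0x61fe3890cb011)) (.node (.leaf 0x4479c9ed462f1) (.leaf 0x7c90541e579cb)))))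 (.node (.node (.node (.node (.leaf 0x3c7451e) (.leaf 0x5009edb7560b9)) (.node (.leaf 0x4000a00a26ef5) (.leaf 0x6bb8cf437129e))) (.node (.node (.leaf 0x22255999b2d25) (.leaf 0x5e0f889865e62)) (.node (.leaf 0x432537fc3a26e) (.leaf 0x79904807dd79e)))) (.node (.node (.node (.leaf 0x8a6ea74ac8a3) (.leaf 0x574a4f36521d5)) (.node (.leaf 0x406a5c87db3f9) (.leaf 0x72db010105c31))) (.node (.node (.leaf 0x3891e2c3c7027) (.leaf 0x64900f8bc080b)) (.node (.leaf 0x486ba5deb6cdf) (.leaf 0x7f8526ec20e37)))))))))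

/-- Part of `ptTab`. -/
def ptTab5 : Tr := (.node (.node (.node (.node (.node (.node (.node (.node (.node (.leaf 0x2136b13) (.leaf 0x7fee1555e0b39)) (.leaf 0x48aacd75b3634)) (.node (.leaf 0x3ac1b0be01f0b) (.leaf 0x655a160416d3f))) (.node (.node (.leaf 0x8ea5225ffc6d) (.leaf 0x579fc89b220db)) (.node (.leaf 0x4082d79940001) (.leaf 0x73950a8697b99)))) (.node (.node (.node (.leaf 0x3f43cf4) (.leaf 0x509e5a8f776cb)) (.node (.leaf 0x4000a3c8e18c1) (.leaf 0x6c97325f5eec5))) (.node (.node (.leaf 0x22bb8d88d37f5) (.leaf 0x5e9d02a5f3a91)) (.node (.leaf 0x4365da5ed7743) (.leaf 0x79ff150e23863))))) (.node (.node (.node (.node (.leaf 0x2f56e5e) (.leaf 0x4c2fab317f545)) (.node (.leaf 0x400088a5d60bf) (.leaf 0x681a6d5efb96a))) (.node (.node (.leaf 0x180087266a1a8) (.leaf 0x5af80128b9a03)) (.node (.leaf 0x41650877405e3) (.leaf 0x76942edf24f6a)))) (.node (.node (.node (.leaf 0x26558712c38b) (.leaf 0x53af407960393)) (.node (.leaf 0x4004fb15a0001) (.leaf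 0x7076955669720))) (.node (.node (.leaf 0x31397023aeae1) (.leaf 0x62260408bc487)) (.node (.leaf 0x451e9bd477343) (.leaf 0x7cffd88e36287)))))) (.node (.node (.node (.node (.node (.leaf 0x274b82c) (.leaf 0x4a4f7c3c268bd)) (.node (.leaf 0x3ef1384b8ce95) (.leaf 0x66eecc8464b84))) (.node (.node (.leaf 0x119fc16c96ff1) (.leaf 0x5968e0c8e9879)) (.node (.leaf 0x409fc847ac4b3) (.leaf 0x752dd10746968)))) (.node (.node (.node (.leaf 0x836a9dc0039) (.leaf 0x522c3311a98ff)) (.node (.leaf 0x4000b6cf2e9a8) (.leaf 0x6ee763605f327))) (.node (.node (.leaf 0x27b216ee791a5) (.leaf 0x603ec38cae33b)) (.node (.leaf 0x443ebbd89619b) (.leaf 0x7b3d85982ea09))))) (.node (.node (.node (.node (.leaf 0x3740102) (.leaf 0x4f2f70e712e06)) (.node (.leaf 0x400096fc000be) (.leaf 0x6aac3be6d5149))) (.node (.node (.leaf 0x1dbd3b40c0001) (.leaf 0x5c9d380f0e27f)) (.node (.leaf 0x428597d358155) (.leaf 0x78133d960a93d)))) (.node (.node (.node (.leaf 0x47a9225a9d7f) (.leaf 0x555fdf6be8b60))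 (.node (.leaf 0x401fb3a8e4fee) (.leaf 0x71be94908926d))) (.node (.node (.leaf 0x35343ee75310f) (.leaf 0x63c3bed35b8a1)) (.node (.leaf 0x456f1e016e8dd) (.leaf 0x7e94fe5562613))))))) (.node (.node (.node (.node (.node (.node (.leaf 0x2494745) (.leaf 0x4a0e265864d47)) (.node (.leaf 0x3de04d3244b7d) (.leaf 0x665ce5d509ee9))) (.node (.node (.leaf 0xf0f855060001) (.leaf 0x588f8965b7531)) (.node (.leaf 0x408f85a88ded3) (.leaf 0x747017159af70)))) (.node (.node (.node (.leaf 0x1f786187f7b) (.leaf 0x515d6aa561789)) (.node (.leaf 0x4000add9dbe50) (.leaf 0x6db6ee98b225b))) (.node (.node (.leaf 0x270588f7f11df) (.leaf 0x5fbd94f7b82b5)) (.node (.leaf 0x43ffc8561769d) (.leaf 0x7aa565005e8fb))))) (.node (.node (.node (.node (.leaf 0x3313116) (.leaf 0x4cbf0088d06a8)) (.node (.leaf 0x40008f602b57f) (.leaf 0x693fe0258780e))) (.node (.node (.leaf 0x1b4d2a671649d) (.leaf 0x5b95621a468af)) (.node (.leaf 0x4224535b803ad) (.leaf 0x775594d6ee580)))) (.node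 (.node (.node (.leaf 0x44b4d3995858) (.leaf 0x545bf16325832)) (.node (.leaf 0x40123886ef691) (.leaf 0x70ffd9cfff517))) (.node (.node (.leaf 0x32d0b9f6afe0f) (.leaf 0x62ba9f48af276)) (.node (.leaf 0x453f4ac31a375) (.leaf 0x7deb28123c7fb)))))) (.node (.node (.node (.node (.node (.leaf 0x2b1a5d4) (.leaf 0x4ac713ed52960)) (.node (.leaf 0x40008051c4cb0) (.leaf 0x673be43d082d2))) (.node (.node (.leaf 0x12683e90a30c7) (.leaf 0x59f8fbca64c7c)) (.node (.leaf 0x41379a9781393) (.leaf 0x75bf6cfb2be90)))) (.node (.node (.node (.leaf 0x15dfdc01c802) (.leaf 0x52ff7cd08c9f3)) (.node (.leaf 0x4000bdbc348c7) (.leaf 0x6fe5734539528))) (.node (.node (.leaf 0x2ed7e1d100001) (.leaf 0x617d641b964c9)) (.node (.leaf 0x446cfd14f0ca3) (.leaf 0x7bdf66c50021b))))) (.node (.node (.node (.node (.leaf 0x3b0cf42) (.leaf 0x4fbfc65968581)) (.node (.leaf 0x40009df5e27a5) (.leaf 0x6b9adcda8a319))) (.node (.node (.leaf 0x2206db01cb87f) (.leaf 0x5db125bdfbc9d)) (.node (.leaf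 0x42eed1d058515) (.leaf 0x78ffd6b4e27f7)))) (.node (.node (.node (.leaf 0x82ed9f152771) (.leaf 0x56ded90cff05f)) (.node (.leaf 0x404dd5535ecc3) (.leaf 0x72b031a0ac8a1))) (.node (.node (.leaf 0x37b0623f3fcbb) (.leaf 0x6420ff270a321)) (.node (.leaf 0x4844801ae329f) (.leaf 0x7f1aa03d550dd)))))))) (.node (.node (.node (.node (.node (.node (.node (.leaf 0x231b004) (.leaf 0x48e2cbbc9d4d7)) (.node (.leaf 0x3b5d28baf31d5) (.leaf 0x657d7af3cfce7))) (.node (.node (.leaf 0xaaa6da00563f) (.leaf 0x581fe89512efb)) (.node (.leaf 0x4089dbda4ffc9) (.leaf 0x73ffc916f60c1)))) (.node (.node (.node (.leaf 0xf94c8e18d5) (.leaf 0x5110bfe7c9ac7)) (.node (.leaf 0x4000a8bfca1a8) (.leaf 0x6d3ffae967f75))) (.node (.node (.leaf 0x2407069204837) (.leaf 0x5f3da18e73008)) (.node (.leaf 0x43b7c58c4c439) (.leaf 0x7a397e3c536fd))))) (.node (.node (.node (.node (.leaf 0x312119f) (.leaf 0x4c6f139611ced)) (.node (.leaf 0x40008bcea3d69) (.leaf 0x689f700245fbf))) (.node (.node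 (.leaf 0x1b05996f29d7f) (.leaf 0x5b459e36c980f)) (.node (.leaf 0x417b94804659e) (.leaf 0x76ff0496c20b6)))) (.node (.node (.node (.leaf 0x2a736c932a79) (.leaf 0x53fe6e2c2984b)) (.node (.leaf 0x400c2dfc20001) (.leaf 0x709fca8fc4d35))) (.node (.node (.leaf 0x31b072ffbea73) (.leaf 0x629c7ca5aa01a)) (.node (.leaf 0x452fa6adf442b) (.leaf 0x7d7b72e302993)))))) (.node (.node (.node (.node (.node (.leaf 0x29346ff) (.leaf 0x4a8dfab91c7ec)) (.node (.leaf 0x3fe1f213e0132) (.leaf 0x6718214c7f794))) (.node (.node (.leaf 0x11de11d1be165) (.leaf 0x59bd9d3655463)) (.node (.leaf 0x4115ac0498b00) (.leaf 0x7555bf91cc62c)))) (.node (.node (.node (.leaf 0x144c91c73d8f) (.leaf 0x52beb3b54be2b)) (.node (.leaf 0x4000ba6361307) (.leaf 0x6f7f94347c62f))) (.node (.node (.leaf 0x2bbf537ef6dc9) (.leaf 0x6145f4e43166b)) (.node (.leaf 0x4456978ef870b) (.leaf 0x7bb491fa352b7))))) (.node (.node (.node (.node (.leaf 0x393d7f7) (.leaf 0x4f9774e08fcc0)) (.node (.leaf 0x40009a47c8711)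 (.leaf 0x6b2a46fe83a0d))) (.node (.node (.leaf 0x21622c90b4e40) (.leaf 0x5d3da837a2045)) (.node (.leaf 0x42c9cd4599ad4) (.leaf 0x78905e171d779)))) (.node (.node (.node (.leaf 0x55c6c1423215) (.leaf 0x55dea353bb8b1)) (.node (.leaf 0x4027c592ec087) (.leaf 0x724bbd829774a))) (.node (.node (.leaf 0x37a7fabae65dd) (.leaf 0x63fbf97c614db)) (.node (.leaf 0x480e2087bd219) (.leaf 0x7effdf6505a93))))))) (.node (.node (.node (.node (.node (.node (.leaf 0x259a80b) (.leaf 0x4a2e54add5ce5)) (.node (.leaf 0x3df4774bff67d) (.leaf 0x667ede4e31de3))) (.node (.node (.leaf 0x11094fc975791) (.leaf 0x58d8d70b6d0ca)) (.node (.leaf 0x409766f8e5e64) (.leaf 0x749e3cb9c72da)))) (.node (.node (.node (.leaf 0x6f5fc192c57) (.leaf 0x51c621bd2cbf7)) (.node (.leaf 0x4000b3a34b011) (.leaf 0x6e6f69ad0ce03))) (.node (.node (.leaf 0x2797711aadaf5) (.leaf 0x6018206f937c5)) (.node (.leaf 0x441f684e7742b) (.leaf 0x7acf88eb634cd))))) (.node (.node (.node (.node (.leaf 0x351fb29)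 (.leaf 0x4cfcc41070b65)) (.node (.leaf 0x400093c3ab034) (.leaf 0x6a3ab49365c6b))) (.node (.node (.leaf 0x1bd80fe766f5f) (.leaf 0x5bd82de7623c6)) (.node (.leaf 0x4261a0bc6a77f) (.leaf 0x77c75559ea74b)))) (.node (.node (.node (.leaf 0x45975b57d47f) (.leaf 0x54dfbc37c5dcd)) (.node (.leaf 0x401c115c2d509) (.leaf 0x715305747ddee))) (.node (.node (.leaf 0x3494adc3a362b) (.leaf 0x635f88e89209e)) (.node (.leaf 0x454d0808dd33e) (.leaf 0x7e1fa425d412f)))))) (.node (.node (.node (.node (.node (.leaf 0x2d81a52) (.leaf 0x4aee6f386f7d7)) (.node (.leaf 0x4000856185598) (.leaf 0x67ac4d6eb8dc1))) (.node (.node (.leaf 0x17df43bf41a47) (.leaf 0x5a7ed0bc59a02)) (.node (.leaf 0x415914457b2b9) (.leaf 0x75de94ab90f33)))) (.node (.node (.node (.leaf 0x17b5dc8a970d) (.leaf 0x533cf942a9b79)) (.node (.leaf 0x4001239981a47) (.leaf 0x700f0347e077f))) (.node (.node (.leaf 0x301d33be16c5a) (.leaf 0x61ffaf89afeaf)) (.node (.leaf 0x447bdfa782aee) (.leaf 0x7c908fde0e039)))))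 (.node (.node (.node (.node (.leaf 0x3d1e477) (.leaf 0x501c3752b76df)) (.node (.leaf 0x4000a04811763) (.leaf 0x6bbdf1da9d497))) (.node (.node (.leaf 0x22255999beb3d) (.leaf 0x5e1979311bd53)) (.node (.leaf 0x43257bf8f2388) (.leaf 0x79917047c4f6d)))) (.node (.node (.node (.leaf 0x8a6ea74b836f) (.leaf 0x574fb3bf674f1)) (.node (.leaf 0x406b75429b9cf) (.leaf 0x72de981e2220e))) (.node (.node (.leaf 0x3891e2c3d005f) (.leaf 0x64905c52aee49)) (.node (.leaf 0x486d0f79c38f1) (.leaf 0x7f85c03b8390f)))))))))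

/-- Part of `ptTab`. -/
def ptTab6 : Tr := (.node (.node (.node (.node (.node (.node (.node (.node (.node (.leaf 0x2156940) (.leaf 0x7ff044cf82b6d)) (.leaf 0x48ad94858f281)) (.node (.leaf 0x3ac1b0be02cd7) (.leaf 0x655cb48565949))) (.node (.node (.leaf 0xaa32b85c0001) (.leaf 0x57cb330c7a71b)) (.node (.leaf 0x40835c9dd4ddc) (.leaf 0x739a5c875a7e3)))) (.node (.node (.node (.leaf 0x3f63eb4) (.leaf 0x50c2d18b11a45)) (.node (.leaf 0x4000a4a54c779) (.leaf 0x6d0ba2900bd78))) (.node (.node (.leaf 0x22bb8d88d5c1f) (.leaf 0x5ecff0b917e14)) (.node (.leaf 0x43909556087b3) (.leaf 0x7a263997d2ffa))))) (.node (.node (.node (.node (.leaf 0x2f7768a) (.leaf 0x4c4230650d917)) (.node (.leaf 0x4000893b8daf7) (.leaf 0x6828a23ea7558))) (.node (.node (.leaf 0x180087267c3f6) (.leaf 0x5b05acb7ca633)) (.node (.leaf 0x41654460890d8) (.leaf 0x769a81d75610b)))) (.node (.node (.node (.leaf 0x26558713d06f) (.leaf 0x53b3883875f9d)) (.node (.leaf 0x40050187c0001) (.leaf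 0x70791a4748fe9))) (.node (.node (.leaf 0x31397023b63c9) (.leaf 0x622781810120b)) (.node (.leaf 0x4520207c80a40) (.leaf 0x7d0f69cab64ed)))))) (.node (.node (.node (.node (.node (.leaf 0x276a27e) (.leaf 0x4a617b48c27bf)) (.node (.leaf 0x3ef1384b98163) (.leaf 0x66f199fbf608b))) (.node (.node (.leaf 0x119fc16c9b9ef) (.leaf 0x597706fba3dc4)) (.node (.leaf 0x41009cae74ccd) (.leaf 0x7530cf6b89aff)))) (.node (.node (.node (.leaf 0x836a9dd6ce1) (.leaf 0x52657324987f9)) (.node (.leaf 0x4000b712e309b) (.leaf 0x6ef1b6c931b55))) (.node (.node (.leaf 0x2bba52fee0001) (.leaf 0x6083615baa39d)) (.node (.leaf 0x444490caa501f) (.leaf 0x7b43fd939adef))))) (.node (.node (.node (.node (.leaf 0x37601c4) (.leaf 0x4f425b0b8cf7c)) (.node (.leaf 0x400097782ee63) (.leaf 0x6aafcef346a4d))) (.node (.node (.leaf 0x1dbd3b40c882f) (.leaf 0x5d22ef91d5f31)) (.node (.leaf 0x42a20e464d421) (.leaf 0x78183ffb85f98)))) (.node (.node (.node (.leaf 0x47a9225aa565) (.leaf 0x558b467f39392))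 (.node (.leaf 0x4020be2ddff26) (.leaf 0x71c60bf3daf6a))) (.node (.node (.leaf 0x35343ee758421) (.leaf 0x63dcd4613fe03)) (.node (.leaf 0x457a2ea1af1d7) (.leaf 0x7e9a5a3c57c94))))))) (.node (.node (.node (.node (.node (.node (.leaf 0x24b38e4) (.leaf 0x4a21dba5429c8)) (.node (.leaf 0x3de04d32502fd) (.leaf 0x66618b284dbe3))) (.node (.node (.leaf 0xf0f855061815) (.leaf 0x5890559a35b7f)) (.node (.leaf 0x40902408d897c) (.leaf 0x74746351eff33)))) (.node (.node (.node (.leaf 0x1f786187f7f) (.leaf 0x5182365f654a8)) (.node (.leaf 0x4000aeba60e9f) (.leaf 0x6e482c0965e7d))) (.node (.node (.leaf 0x270588f7f7291) (.leaf 0x5fef44f5f89c1)) (.node (.leaf 0x4400957791879) (.leaf 0x7aaaf819ad3e4))))) (.node (.node (.node (.node (.leaf 0x3353350) (.leaf 0x4cd24344260b7)) (.node (.leaf 0x40008f85e8617) (.leaf 0x69a90c66bbe29))) (.node (.node (.leaf 0x1b9d6b8b068f7) (.leaf 0x5b95f65a4ca42)) (.node (.leaf 0x422563c6b11c4) (.leaf 0x77a302ae40082)))) (.node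 (.node (.node (.leaf 0x44b4d39962d8) (.leaf 0x548a6ec60543d)) (.node (.leaf 0x401378950c481) (.leaf 0x7120903733594))) (.node (.node (.leaf 0x32d0b9f6b2269) (.leaf 0x6340e24318b39)) (.node (.leaf 0x454287004a637) (.leaf 0x7debc24cf88c3)))))) (.node (.node (.node (.node (.node (.leaf 0x2b5bd06) (.leaf 0x4ac89cfc0d449)) (.node (.leaf 0x4000825b772d5) (.leaf 0x6788f6fe3d7f5))) (.node (.node (.leaf 0x12683e90af69b) (.leaf 0x5a21ef3c73b3d)) (.node (.leaf 0x41402040ea39b) (.leaf 0x75c25c394b5e1)))) (.node (.node (.node (.leaf 0x16548b0c7a15) (.leaf 0x5320311a52a66)) (.node (.leaf 0x4000be24c92cd) (.leaf 0x6fe765d149dbb))) (.node (.node (.leaf 0x2ed7e1d10e267) (.leaf 0x61dab7b4ca0d2)) (.node (.leaf 0x446d0a042dcda) (.leaf 0x7c15bfda21387))))) (.node (.node (.node (.node (.leaf 0x3b4d516) (.leaf 0x4fd1a318624fd)) (.node (.leaf 0x40009e1439167) (.leaf 0x6b9dd76e43db6))) (.node (.node (.leaf 0x2206db01cd6bf) (.leaf 0x5df4f9c96f4a9)) (.node (.leaf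 0x43001fd88032f) (.leaf 0x791cd74a85782)))) (.node (.node (.node (.leaf 0x82ed9f1535f1) (.leaf 0x570700ca20767)) (.node (.leaf 0x4060954f27542) (.leaf 0x72bb0d976e5f7))) (.node (.node (.leaf 0x388406fbeda5b) (.leaf 0x6427849255809)) (.node (.leaf 0x4849d555d2c18) (.leaf 0x7f65021eb2969)))))))) (.node (.node (.node (.node (.node (.node (.node (.leaf 0x235b0c4) (.leaf 0x48e46105c6fd7)) (.node (.leaf 0x3b5d28baf454d) (.leaf 0x65c9cef47e703))) (.node (.node (.leaf 0xaaa6da006fd3) (.leaf 0x58403de6e3a95)) (.node (.leaf 0x408b7eba9d72d) (.leaf 0x740388c282a49)))) (.node (.node (.node (.leaf 0x1cec5540001) (.leaf 0x511487ebcfc60)) (.node (.leaf 0x4000a9595c267) (.leaf 0x6d862f381d268))) (.node (.node (.leaf 0x240706920f40f) (.leaf 0x5f62aff198b6d)) (.node (.leaf 0x43d8900d4182e) (.leaf 0x7a46f996e3180))))) (.node (.node (.node (.node (.leaf 0x3140bde) (.leaf 0x4c9262d1e3ea3)) (.node (.leaf 0x40008c75e11b8) (.leaf 0x68ae6ea2ec16b))) (.node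 (.node (.leaf 0x1b05996f2e625) (.leaf 0x5b4d3e67023e8)) (.node (.leaf 0x42009cae17421) (.leaf 0x772320afdbb41)))) (.node (.node (.node (.leaf 0x2a736c936961) (.leaf 0x5402303e29c26)) (.node (.leaf 0x400d6defcbbfb) (.leaf 0x70e335509fee7))) (.node (.node (.leaf 0x32c6f6eb02983) (.leaf 0x629ddaed917c7)) (.node (.leaf 0x4530cc0328094) (.leaf 0x7d847d8a6deab)))))) (.node (.node (.node (.node (.node (.leaf 0x2955e38) (.leaf 0x4aa1e5237cb73)) (.node (.leaf 0x3fe1f213e86de) (.leaf 0x67186d51c959c))) (.node (.node (.leaf 0x1261c234e5727) (.leaf 0x59e72befa15ec)) (.node (.leaf 0x41202ccfd875e) (.leaf 0x755a22883e5e1)))) (.node (.node (.node (.leaf 0x144c91c73ecf) (.leaf 0x52e39040dc06a)) (.node (.leaf 0x4000baaed5c4e) (.leaf 0x6fc1a85053cfb))) (.node (.node (.leaf 0x2bbf537ef6ed9) (.leaf 0x615cf6b178edb)) (.node (.leaf 0x44574cd5a7efb) (.leaf 0x7bbaf21c136d4))))) (.node (.node (.node (.node (.leaf 0x395d722) (.leaf 0x4f98fbf95e445)) (.node (.leaf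 0x40009a8048e1d) (.leaf 0x6b2d4d4ae7f75))) (.node (.node (.leaf 0x21622c90b64e0) (.leaf 0x5d633d5909f1d)) (.node (.leaf 0x42cc6082196e9) (.leaf 0x789a53ed97cd1)))) (.node (.node (.node (.leaf 0x55c6c1428f35) (.leaf 0x5647ba564ac82)) (.node (.leaf 0x404026eef4d7f) (.leaf 0x724e2492d8bdb))) (.node (.node (.leaf 0x37a7fabaed48f) (.leaf 0x6400bf37d29fc)) (.node (.leaf 0x482114c3a8651) (.leaf 0x7f051397ce5df))))))) (.node (.node (.node (.node (.node (.node (.leaf 0x25bd5ec) (.leaf 0x4a40faed53e04)) (.node (.leaf 0x3e70943b622ef) (.leaf 0x66c9ab7b34a31))) (.node (.node (.leaf 0x11094fc978197) (.leaf 0x5924fe7d818e3)) (.node (.leaf 0x4098e9e14bbd5) (.leaf 0x74e2dd1ea9e34)))) (.node (.node (.node (.leaf 0x6f5fc192c91) (.leaf 0x51cea46728f30)) (.node (.leaf 0x4000b40ebf023) (.leaf 0x6ec04c50b0b5d))) (.node (.node (.leaf 0x2797711aafdbd) (.leaf 0x6019863bd6024)) (.node (.leaf 0x4420f318cd558) (.leaf 0x7ad02b6273b34))))) (.node (.node (.node (.node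 (.leaf 0x3539ec8) (.leaf 0x4f02fbe7f0769)) (.node (.leaf 0x40009424d48e2) (.leaf 0x6a88e5e1c1af9))) (.node (.node (.leaf 0x1bd80fe7690c3) (.leaf 0x5c0691b9986aa)) (.node (.leaf 0x4261f36052e2b) (.leaf 0x77cc5736481d5)))) (.node (.node (.node (.leaf 0x46f82d4a04cf) (.leaf 0x550218eb9913f)) (.node (.leaf 0x401da59f4559b) (.leaf 0x7158e5d5825cf))) (.node (.node (.leaf 0x3494adc3a58cd) (.leaf 0x6360afd848b11)) (.node (.leaf 0x4552b98628221) (.leaf 0x7e610b6793669)))))) (.node (.node (.node (.node (.node (.leaf 0x2da6533) (.leaf 0x4c028dd01af26)) (.node (.leaf 0x400085a48d52c) (.leaf 0x67ae2eb4498ab))) (.node (.node (.leaf 0x17df43bf4f581) (.leaf 0x5aa323d553a1a)) (.node (.leaf 0x41596110775cb) (.leaf 0x761125afc7e8f)))) (.node (.node (.node (.leaf 0x17b5dc8a9789) (.leaf 0x5360ad199dd8b)) (.node (.leaf 0x40016d1b40001) (.leaf 0x7017923855839))) (.node (.node (.leaf 0x301d33be17c22) (.leaf 0x62043498e3d8f)) (.node (.leaf 0x45004b89a5578)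 (.leaf 0x7c9a4d1f9bfe5))))) (.node (.node (.node (.node (.leaf 0x3d38310) (.leaf 0x50443df4d31ab)) (.node (.leaf 0x4000a12d7661d) (.leaf 0x6c0915b0950dd))) (.node (.node (.leaf 0x229f11ad41867) (.leaf 0x5e46cdc1318dd)) (.node (.leaf 0x4340ee604b9bd) (.leaf 0x799a904fb61de)))) (.node (.node (.node (.leaf 0x8a6ea74bc999) (.leaf 0x57537bedbcd53)) (.node (.leaf 0x406bae94a9c54) (.leaf 0x7312716e6ba13))) (.node (.node (.leaf 0x3891e2c3dbac7) (.leaf 0x64971eb6a9acd)) (.node (.leaf 0x48810db713790) (.leaf 0x7f8a4f2aa3914)))))))))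

/-- Part of `ptTab`. -/
def ptTab7 : Tr := (.node (.node (.node (.node (.node (.node (.node (.node (.node (.leaf 0x21bd479) (.leaf 0x7ff09f1e48cf3)) (.leaf 0x48ae5374b8c85)) (.node (.leaf 0x3ac1b0be12a31) (.leaf 0x655cf8890580c))) (.node (.node (.leaf 0xaa32b85c211d) (.leaf 0x57cecf54179c9)) (.node (.leaf 0x4084056debbe9) (.leaf 0x739fda471bc6e)))) (.node (.node (.node (.leaf 0x3f911f6) (.leaf 0x50c6ed1c6be1f)) (.node (.leaf 0x4000a4f320fcf) (.leaf 0x6d0d1cc9b999b))) (.node (.node (.leaf 0x22bb8d88d7803) (.leaf 0x5ed04d40fbc97)) (.node (.leaf 0x4395761194d7e) (.leaf 0x7a2701ced4ce1))))) (.node (.node (.node (.node (.leaf 0x2fc22df) (.leaf 0x4c49cbb482b47)) (.node (.leaf 0x400089a54c777) (.leaf 0x682ad2af25c41))) (.node (.node (.leaf 0x180dc7cb00001) (.leaf 0x5b0d2976c6974)) (.node (.leaf 0x416593383cdc2) (.leaf 0x769eed461bfdc)))) (.node (.node (.node (.leaf 0x26558713d3af) (.leaf 0x53b7aa3043fd0)) (.node (.leaf 0x4007b6270a1bd) (.leaf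 0x707cba50dfe27))) (.node (.node (.leaf 0x31397023b6c47) (.leaf 0x6238d4f36d699)) (.node (.leaf 0x4521daf53b78b) (.leaf 0x7d1188735cea0)))))) (.node (.node (.node (.node (.node (.leaf 0x27db22e) (.leaf 0x4a65ced0ae32b)) (.node (.leaf 0x3ef1384b9ce91) (.leaf 0x66f1d76a218c0))) (.node (.node (.leaf 0x119fc16c9d551) (.leaf 0x5977a76498a95)) (.node (.leaf 0x41016badfe5ff) (.leaf 0x753f407af02f1)))) (.node (.node (.node (.leaf 0x8f6a61e7f49) (.leaf 0x526cab519e2de)) (.node (.leaf 0x4000b7d8cfc82) (.leaf 0x6ef277640f73b))) (.node (.node (.leaf 0x2bba52feed933) (.leaf 0x609bde864bb65)) (.node (.leaf 0x44456691fedc1) (.leaf 0x7b4cbe374ad50))))) (.node (.node (.node (.node (.leaf 0x3797291) (.leaf 0x4f471c93e6515)) (.node (.leaf 0x400097ac78bfd) (.leaf 0x6abb2c5381a36))) (.node (.node (.leaf 0x1dbd3b40c88a1) (.leaf 0x5d23bd482cc1d)) (.node (.leaf 0x42a337c29d7c5) (.leaf 0x7819067a0ba84)))) (.node (.node (.node (.leaf 0x47a9225aed07) (.leaf 0x5597fbabfdba5))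 (.node (.leaf 0x4020ede7a7b69) (.leaf 0x71d0ea682c5a9))) (.node (.node (.leaf 0x35a2ec02a4c75) (.leaf 0x63dd606029e8f)) (.node (.leaf 0x457bf9316afb0) (.leaf 0x7e9a9dbbec2cb))))))) (.node (.node (.node (.node (.node (.node (.leaf 0x24cddc4) (.leaf 0x4a23bd91770ad)) (.node (.leaf 0x3de04d32582d1) (.leaf 0x6661e1b6a30d2))) (.node (.node (.leaf 0xf0f855061a53) (.leaf 0x5890ced2867cf)) (.node (.leaf 0x40904e8f4823f) (.leaf 0x747a2cf6408e3)))) (.node (.node (.node (.leaf 0x1f78618f691) (.leaf 0x5186074a82390)) (.node (.leaf 0x4000aec1c8c9a) (.leaf 0x6e4bdd24e6471))) (.node (.node (.leaf 0x2727f86727f57) (.leaf 0x5ff04f4c0020d)) (.node (.leaf 0x4401633d1c76a) (.leaf 0x7aabd285f228d))))) (.node (.node (.node (.node (.leaf 0x33a0bce) (.leaf 0x4cd4e1d12c7a1)) (.node (.leaf 0x40008ffd29423) (.leaf 0x69af8c02a8b55))) (.node (.node (.leaf 0x1b9d6b8b0902b) (.leaf 0x5b9d455b4c32e)) (.node (.leaf 0x4225fb5450042) (.leaf 0x77a80840a89b0)))) (.node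 (.node (.node (.leaf 0x44b4d3996858) (.leaf 0x5492d85a7c7ff)) (.node (.leaf 0x401459312bbfb) (.leaf 0x712b7a0a15dac))) (.node (.node (.leaf 0x32d0b9f6b735b) (.leaf 0x63415696525e7)) (.node (.leaf 0x4543751916f47) (.leaf 0x7df4354dfce64)))))) (.node (.node (.node (.node (.node (.leaf 0x2b95df9) (.leaf 0x4acb08d13f5e1)) (.node (.leaf 0x400082ad74a5b) (.leaf 0x678aab742340d))) (.node (.node (.leaf 0x12683e90bf365) (.leaf 0x5a2813f4a83e7)) (.node (.leaf 0x4140711d5ab29) (.leaf 0x75c63065200f8)))) (.node (.node (.node (.leaf 0x16548b0cf231) (.leaf 0x53241a0ea1c94)) (.node (.leaf 0x4000be47d8c52) (.leaf 0x6ff047dda94f0))) (.node (.node (.leaf 0x2ed7e1d11103b) (.leaf 0x61db3cb54e667)) (.node (.leaf 0x446eeb87c4fd3) (.leaf 0x7c1f90d34c6aa))))) (.node (.node (.node (.node (.leaf 0x3bbb19f) (.leaf 0x4fd74674c146f)) (.node (.leaf 0x40009e7d15799) (.leaf 0x6b9fc153b8fbf))) (.node (.node (.leaf 0x2206db01d7613) (.leaf 0x5df5b5086741c)) (.node (.leaf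 0x43004e9631cc0) (.leaf 0x791dfdca84605)))) (.node (.node (.node (.leaf 0x86f92150035e) (.leaf 0x570f2bfeaf8bc)) (.node (.leaf 0x40616e8d19e74) (.leaf 0x72be845856236))) (.node (.node (.leaf 0x388406fbeee47) (.leaf 0x6427d8dae0fb8)) (.node (.leaf 0x484f6a2273331) (.leaf 0x7f65cbc7cd291)))))))) (.node (.node (.node (.node (.node (.node (.node (.leaf 0x2390eaa) (.leaf 0x48e65d25f9a69)) (.node (.leaf 0x3bd0a93629267) (.leaf 0x65d7a3c4b9ad3))) (.node (.node (.leaf 0xaaa6da016113) (.leaf 0x58409c6766da7)) (.node (.leaf 0x408b8a7cedec7) (.leaf 0x7407f603987d3)))) (.node (.node (.node (.leaf 0x1cec554000d) (.leaf 0x511820bc6ee93)) (.node (.leaf 0x4000a9d3c6ee1) (.leaf 0x6d91826523a1f))) (.node (.node (.leaf 0x240706921c7b5) (.leaf 0x5f74c51411735)) (.node (.leaf 0x43dc73c8a6a09) (.leaf 0x7a47d05e345eb))))) (.node (.node (.node (.node (.leaf 0x3195764) (.leaf 0x4c9879190a7e9)) (.node (.leaf 0x40008ca9055b3) (.leaf 0x68b835bf56d27))) (.node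 (.node (.leaf 0x1b05996f2ebab) (.leaf 0x5b537fa03e447)) (.node (.leaf 0x4201fff019e75) (.leaf 0x77274fff103eb)))) (.node (.node (.node (.leaf 0x2eec9000a686) (.leaf 0x5407fa27d5a73)) (.node (.leaf 0x400e3b0c6fd41) (.leaf 0x70e6874750d51))) (.node (.node (.leaf 0x32c6f6eb06689) (.leaf 0x629e1f6413c88)) (.node (.leaf 0x45311251f244d) (.leaf 0x7d84950c03649)))))) (.node (.node (.node (.node (.node (.leaf 0x29bbf16) (.leaf 0x4aa737c6d70b6)) (.node (.leaf 0x3fe1f213e96a0) (.leaf 0x671a1dd37b2e3))) (.node (.node (.leaf 0x1261c234e817b) (.leaf 0x59e7bc7ffb3af)) (.node (.leaf 0x41214d04d6a53) (.leaf 0x755e4edcf9465)))) (.node (.node (.node (.leaf 0x144c91c73f4f) (.leaf 0x52e7bfd3093f3)) (.node (.leaf 0x4000bad984eb7) (.leaf 0x6fc3ab1ebffce))) (.node (.node (.leaf 0x2bbf537ef6fc1) (.leaf 0x615d42a914a47)) (.node (.leaf 0x445830af382ad) (.leaf 0x7bbbc298221b9))))) (.node (.node (.node (.node (.leaf 0x398d509) (.leaf 0x4f9a9dd603673)) (.node (.leaf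 0x40009afd292c3) (.leaf 0x6b2f717e8ed91))) (.node (.node (.leaf 0x2164863d87a23) (.leaf 0x5d6fa3fd460c7)) (.node (.leaf 0x42cd535f2857d) (.leaf 0x789b637870bf1)))) (.node (.node (.node (.leaf 0x55c6c142b6fb) (.leaf 0x564e42ba2db79)) (.node (.leaf 0x4040bdb530945) (.leaf 0x7256f9eb722eb))) (.node (.node (.leaf 0x37a7fabaf9f87) (.leaf 0x6407d013d4cc9)) (.node (.leaf 0x4822e5f053de6) (.leaf 0x7f05ca8f39f95))))))) (.node (.node (.node (.node (.node (.node (.leaf 0x25c3018) (.leaf 0x4a436ec8cdb17)) (.node (.leaf 0x3e70943b66d23) (.leaf 0x66ca5a4585499))) (.node (.node (.leaf 0x114541c9e2c7b) (.leaf 0x592865da65cd7)) (.node (.leaf 0x409a9547e9aeb) (.leaf 0x74f5cac77ab4b)))) (.node (.node (.node (.leaf 0x6f5fc192e05) (.leaf 0x51d21bd81584f)) (.node (.leaf 0x4000b4406be8f) (.leaf 0x6ec3bd7ff32cd))) (.node (.node (.leaf 0x2797711ab6247) (.leaf 0x601ed522ea1de)) (.node (.leaf 0x44210413efcd1) (.leaf 0x7ad102a26d7fa))))) (.node (.node (.node (.node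 (.leaf 0x3546168) (.leaf 0x4f07bd3e1590f)) (.node (.leaf 0x40009460226f3) (.leaf 0x6a8b046f61cd5))) (.node (.node (.leaf 0x1bd80fe77b311) (.leaf 0x5c0bd45d507cb)) (.node (.leaf 0x4265087723dcf) (.leaf 0x77d114aa35d2d)))) (.node (.node (.node (.leaf 0x46f82d4a088f) (.leaf 0x551226791d796)) (.node (.leaf 0x401dcf152f41b) (.leaf 0x715d4adb7aa91))) (.node (.node (.leaf 0x3494adc3b78c1) (.leaf 0x636293f79fb4d)) (.node (.leaf 0x455462b2ee709) (.leaf 0x7e61dc3f7f374)))))) (.node (.node (.node (.node (.node (.leaf 0x2dd9a53) (.leaf 0x4c088418eae93)) (.node (.leaf 0x400085f18d471) (.leaf 0x67b0a1f6404c7))) (.node (.node (.leaf 0x17df43bf4f6cd) (.leaf 0x5aa3b789460cd)) (.node (.leaf 0x415cb99bd98c1) (.leaf 0x761552362b355)))) (.node (.node (.node (.leaf 0x17b5dc8ad4d3) (.leaf 0x5368826f16db0)) (.node (.leaf 0x4001b415c0000) (.leaf 0x701814f84062d))) (.node (.node (.leaf 0x3087e8768aaed) (.leaf 0x62059201801ac)) (.node (.leaf 0x4501b05063904)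 (.leaf 0x7c9a84dfdbee8))))) (.node (.node (.node (.node (.leaf 0x3d46624) (.leaf 0x504968a5fc376)) (.node (.leaf 0x4000a1660dedd) (.leaf 0x6c0e58c5c09c8))) (.node (.node (.leaf 0x229f11ad498e1) (.leaf 0x5e479158d3426)) (.node (.leaf 0x434416ad0d889) (.leaf 0x799bb3defa55d)))) (.node (.node (.node (.leaf 0x8a6ea74be985) (.leaf 0x5756876489861)) (.node (.leaf 0x406e3a42bb9dd) (.leaf 0x731d0aa70b363))) (.node (.node (.leaf 0x3891e2c3dd661) (.leaf 0x64977ba763a3b)) (.node (.leaf 0x4886760833ba5) (.leaf 0x7f8abbf5f48c9)))))))))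

/-- The 2058 vectors in increasing order. -/
def ptTab : Tr := (.node (.node (.node ptTab0 ptTab4) (.node ptTab2 ptTab6)) (.node (.node ptTab1 ptTab5) (.node ptTab3 ptTab7)))

/-- Part of `ptPar`. -/
def ptPar0 : Tr := (.node (.node (.node (.node (.node (.node (.node (.node (.node (.leaf 9982) (.leaf 9102)) (.leaf 3379)) (.node (.leaf 0x3406) (.leaf 0x2df9))) (.node (.node (.leaf 5076) (.leaf 0x367d)) (.node (.leaf 5020) (.leaf 0x2f0e)))) (.node (.node (.node (.leaf 0x340b) (.leaf 0x2b32)) (.node (.leaf 0x3fa3) (.leaf 1291))) (.node (.node (.leaf 0x3153) (.leaf 7139)) (.node (.leaf 682) (.leaf 0x399a))))) (.node (.node (.node (.node (.leaf 5051) (.leaf 4475)) (.node (.leaf 0x364c) (.leaf 4945))) (.node (.node (.leaf 0x3e25) (.leaf 5323)) (.node (.leaf 6669) (.leaf 0x3c7a)))) (.node (.node (.node (.leaf 0x3204) (.leaf 9579)) (.node (.leaf 4115) (.leaf 6365))) (.node (.node (.leaf 52) (.leaf 0x3e73)) (.node (.leaf 0x2e6d) (.leaf 5522))))))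 (.node (.node (.node (.node (.node (.leaf 9413) (.leaf 5014)) (.node (.leaf 0x32c9) (.leaf 0x3112))) (.node (.node (.leaf 0x2a5a) (.leaf 1515)) (.node (.leaf 7184) (.leaf 0x297b)))) (.node (.node (.node (.leaf 6877) (.leaf 9227)) (.node (.leaf 0x37b5) (.leaf 6612))) (.node (.node (.leaf 0x39f5) (.leaf 6323)) (.node (.leaf 2038) (.leaf 6469))))) (.node (.node (.node (.node (.leaf 0x2f69) (.leaf 8483)) (.node (.leaf 0x2a73) (.leaf 1445))) (.node (.node (.leaf 9179) (.leaf 0x3a73)) (.node (.leaf 0x2aca) (.leaf 6785)))) (.node (.node (.node (.leaf 890) (.leaf 0x3d6a)) (.node (.leaf 0x3b53) (.leaf 7650))) (.node (.node (.leaf 7942) (.leaf 6460)) (.node (.leaf 0x3e05) (.leaf 483))))))) (.node (.node (.node (.node (.node (.node (.leaf 0x2e36) (.leaf 0x2b8d)) (.node (.leaf 7179) (.leaf 0x32cd))) (.node (.node (.leaf 0x28c3) (.leaf 3435)) (.node (.leaf 0x3b26) (.leaf 0x32a3)))) (.node (.node (.node (.leaf 5782) (.leaf 0x3653)) (.node (.leaf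 2091) (.leaf 3258))) (.node (.node (.leaf 0x3863) (.leaf 9987)) (.node (.leaf 0x3f55) (.leaf 1635))))) (.node (.node (.node (.node (.leaf 7332) (.leaf 0x3203)) (.node (.leaf 9515) (.leaf 1699))) (.node (.node (.leaf 1850) (.leaf 6179)) (.node (.leaf 0x278a) (.leaf 158)))) (.node (.node (.node (.leaf 7396) (.leaf 0x2815)) (.node (.leaf 0x3784) (.leaf 4950))) (.node (.node (.leaf 0x2e1c) (.leaf 4860)) (.node (.leaf 7849) (.leaf 0x3742)))))) (.node (.node (.node (.node (.node (.leaf 0x2c35) (.leaf 0x2abb)) (.node (.leaf 4121) (.leaf 4933))) (.node (.node (.leaf 6115) (.leaf 0x35cd)) (.node (.leaf 5374) (.leaf 7228)))) (.node (.node (.node (.leaf 8837) (.leaf 3915)) (.node (.leaf 2934) (.leaf 0x3e03))) (.node (.node (.leaf 1467) (.leaf 0x3fc3)) (.node (.leaf 6147) (.leaf 0x3fd3))))) (.node (.node (.node (.node (.leaf 0x3902) (.leaf 0x352b)) (.node (.leaf 0x34e6) (.leaf 0x36b3))) (.node (.node (.leaf 0x2956) (.leaf 0x27e5)) (.node (.leaf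 6965) (.leaf 7869)))) (.node (.node (.node (.leaf 5995) (.leaf 2805)) (.node (.leaf 2334) (.leaf 107))) (.node (.node (.leaf 0x3c25) (.leaf 219)) (.node (.leaf 0x374e) (.leaf 7832)))))))) (.node (.node (.node (.node (.node (.node (.node (.node (.leaf 3732) (.leaf 2523)) (.leaf 230)) (.node (.leaf 8197) (.leaf 0x2c3e))) (.node (.node (.leaf 461) (.leaf 6555)) (.node (.leaf 9960) (.leaf 1747)))) (.node (.node (.node (.leaf 0x32d2) (.leaf 8227)) (.node (.leaf 0x4036) (.leaf 0x2953))) (.node (.node (.leaf 3405) (.leaf 1771)) (.node (.leaf 7172) (.leaf 0x2eb3))))) (.node (.node (.node (.node (.leaf 4588) (.leaf 7978)) (.node (.leaf 0x3445) (.leaf 9123))) (.node (.node (.leaf 6075) (.leaf 9142)) (.node (.leaf 4898) (.leaf 4836)))) (.node (.node (.node (.leaf 0x3c9e) (.leaf 0x28ee)) (.node (.leaf 5566) (.leaf 9350))) (.node (.node (.leaf 6003) (.leaf 0x31e4)) (.node (.leaf 8982) (.leaf 329)))))) (.node (.node (.node (.node (.node (.leaf 0x4009)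 (.leaf 0x38bc)) (.node (.leaf 574) (.leaf 304))) (.node (.node (.leaf 4380) (.leaf 2747)) (.node (.leaf 155) (.leaf 0x33aa)))) (.node (.node (.node (.leaf 5771) (.leaf 475)) (.node (.leaf 0x34f4) (.leaf 0x289e))) (.node (.node (.leaf 5604) (.leaf 0x34d5)) (.node (.leaf 3397) (.leaf 7549))))) (.node (.node (.node (.node (.leaf 9434) (.leaf 4035)) (.node (.leaf 0x298b) (.leaf 0x3f46))) (.node (.node (.leaf 573) (.leaf 7390)) (.node (.leaf 1475) (.leaf 1461)))) (.node (.node (.node (.leaf 6870) (.leaf 6676)) (.node (.leaf 0x2bae) (.leaf 4579))) (.node (.node (.leaf 8734) (.leaf 7765)) (.node (.leaf 0x3eab) (.leaf 229))))))) (.node (.node (.node (.node (.node (.node (.leaf 0x3ea6) (.leaf 8235)) (.node (.leaf 2329) (.leaf 0x3446))) (.node (.node (.leaf 0x3abe) (.leaf 0x2b76)) (.node (.leaf 0x2d4d) (.leaf 0x2876)))) (.node (.node (.node (.leaf 5480) (.leaf 9476)) (.node (.leaf 1702) (.leaf 7326))) (.node (.node (.leaf 7502) (.leaf 1652))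 (.node (.leaf 1542) (.leaf 0x363c))))) (.node (.node (.node (.node (.leaf 0x2d05) (.leaf 1898)) (.node (.leaf 0x32f3) (.leaf 3750))) (.node (.node (.leaf 0x3c86) (.leaf 0x3cbe)) (.node (.leaf 892) (.leaf 0x28c5)))) (.node (.node (.node (.leaf 1138) (.leaf 7811)) (.node (.leaf 0x338c) (.leaf 7437))) (.node (.node (.leaf 0x36ba) (.leaf 2629)) (.node (.leaf 6211) (.leaf 0x2bd6)))))) (.node (.node (.node (.node (.node (.leaf 3883) (.leaf 1028)) (.node (.leaf 5901) (.leaf 7820))) (.node (.node (.leaf 185) (.leaf 0x2e14)) (.node (.leaf 5898) (.leaf 0x2b2b)))) (.node (.node (.node (.leaf 7174) (.leaf 0x3a94)) (.node (.leaf 1267) (.leaf 4746))) (.node (.node (.leaf 7787) (.leaf 5012)) (.node (.leaf 4821) (.leaf 0x29fb))))) (.node (.node (.node (.node (.leaf 5068) (.leaf 8148)) (.node (.leaf 0x35e4) (.leaf 9916))) (.node (.node (.leaf 7561) (.leaf 0x34ce)) (.node (.leaf 7851) (.leaf 0x3375)))) (.node (.node (.node (.leaf 6610) (.leaf 2270))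 (.node (.leaf 0x2a1a) (.leaf 453))) (.node (.node (.leaf 0x3855) (.leaf 9422)) (.node (.leaf 5741) (.leaf 2949)))))))))

/-- Part of `ptPar`. -/
def ptPar1 : Tr := (.node (.node (.node (.node (.node (.node (.node (.node (.node (.leaf 0x315e) (.leaf 6138)) (.leaf 0x3896)) (.node (.leaf 5494) (.leaf 0x3616))) (.node (.node (.leaf 5590) (.leaf 2268)) (.node (.leaf 0x333c) (.leaf 1774)))) (.node (.node (.node (.leaf 1939) (.leaf 6346)) (.node (.leaf 1844) (.leaf 0x3e45))) (.node (.node (.leaf 0x35ea) (.leaf 811)) (.node (.leaf 5422) (.leaf 5067))))) (.node (.node (.node (.node (.leaf 5420) (.leaf 5750)) (.node (.leaf 7252) (.leaf 5405))) (.node (.node (.leaf 7384) (.leaf 0x3193)) (.node (.leaf 2032) (.leaf 0x276d)))) (.node (.node (.node (.leaf 0x2a7d) (.leaf 3677)) (.node (.leaf 0x3e3b) (.leaf 4346))) (.node (.node (.leaf 9660) (.leaf 2898)) (.node (.leaf 0x3259) (.leaf 0x306c)))))) (.node (.node (.node (.node (.node (.leaf 1819) (.leaf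 6619)) (.node (.leaf 0x3fe4) (.leaf 0x2853))) (.node (.node (.leaf 5155) (.leaf 3121)) (.node (.leaf 0x318c) (.leaf 0x3294)))) (.node (.node (.node (.leaf 7985) (.leaf 0x3b9b)) (.node (.leaf 1987) (.leaf 0x34d2))) (.node (.node (.leaf 9478) (.leaf 1965)) (.node (.leaf 9484) (.leaf 4243))))) (.node (.node (.node (.node (.leaf 0x2753) (.leaf 0x361a)) (.node (.leaf 0x2f35) (.leaf 2398))) (.node (.node (.leaf 0x3cd3) (.leaf 8113)) (.node (.leaf 7333) (.leaf 2074)))) (.node (.node (.node (.leaf 7683) (.leaf 9121)) (.node (.leaf 4787) (.leaf 587))) (.node (.node (.leaf 4693) (.leaf 0x3dd3)) (.node (.leaf 7989) (.leaf 2397))))))) (.node (.node (.node (.node (.node (.node (.leaf 6673) (.leaf 0x36ec)) (.node (.leaf 5493) (.leaf 1772))) (.node (.node (.leaf 5339) (.leaf 6418)) (.node (.leaf 0x35ca) (.leaf 0x37a6)))) (.node (.node (.node (.leaf 798) (.leaf 2442)) (.node (.leaf 0x37a1) (.leaf 0x3e9b))) (.node (.node (.leaf 0x33de) (.leaf 4602))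 (.node (.leaf 9097) (.leaf 0x2c34))))) (.node (.node (.node (.node (.leaf 0x280b) (.leaf 1539)) (.node (.leaf 6163) (.leaf 0x2e69))) (.node (.node (.leaf 0x2b04) (.leaf 7755)) (.node (.leaf 5390) (.leaf 307)))) (.node (.node (.node (.leaf 3826) (.leaf 7427)) (.node (.leaf 7142) (.leaf 0x3266))) (.node (.node (.leaf 3187) (.leaf 0x31dd)) (.node (.leaf 4891) (.leaf 0x290c)))))) (.node (.node (.node (.node (.node (.leaf 0x3092) (.leaf 9093)) (.node (.leaf 0x34e5) (.leaf 7443))) (.node (.node (.leaf 7531) (.leaf 0x37da)) (.node (.leaf 0x2f84) (.leaf 6462)))) (.node (.node (.node (.leaf 3362) (.leaf 1346)) (.node (.leaf 9145) (.leaf 9201))) (.node (.node (.leaf 5636) (.leaf 0x29a6)) (.node (.leaf 0x2e12) (.leaf 6141))))) (.node (.node (.node (.node (.leaf 5492) (.leaf 0x3c82)) (.node (.leaf 0x363e) (.leaf 0x3e4a))) (.node (.node (.leaf 0x3f36) (.leaf 3899)) (.node (.leaf 3380) (.leaf 974)))) (.node (.node (.node (.leaf 8798) (.leaf 0x2f8b))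 (.node (.leaf 1330) (.leaf 4754))) (.node (.node (.leaf 4756) (.leaf 901)) (.node (.leaf 0x2f06) (.leaf 7337)))))))) (.node (.node (.node (.node (.node (.node (.node (.node (.leaf 6122) (.leaf 6350)) (.leaf 4299)) (.node (.leaf 748) (.leaf 1229))) (.node (.node (.leaf 7388) (.leaf 7707)) (.node (.leaf 0x31ee) (.leaf 8117)))) (.node (.node (.node (.leaf 6356) (.leaf 6788)) (.node (.leaf 8965) (.leaf 5297))) (.node (.node (.leaf 0x36a1) (.leaf 0x2cde)) (.node (.leaf 0x3c46) (.leaf 0x2ad3))))) (.node (.node (.node (.node (.leaf 0x29c6) (.leaf 3603)) (.node (.leaf 0x2adb) (.leaf 0x396b))) (.node (.node (.leaf 5252) (.leaf 0x2a5e)) (.node (.leaf 4288) (.leaf 9893)))) (.node (.node (.node (.leaf 8291) (.leaf 0x3812)) (.node (.leaf 9341) (.leaf 5273))) (.node (.node (.leaf 6051) (.leaf 0x2e8b)) (.node (.leaf 0x2e86) (.leaf 0x35a3)))))) (.node (.node (.node (.node (.node (.leaf 7874) (.leaf 3292)) (.node (.leaf 0x3235) (.leaf 7670))) (.node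 (.node (.leaf 0x2cac) (.leaf 0x28dd)) (.node (.leaf 1846) (.leaf 2826)))) (.node (.node (.node (.leaf 0x3014) (.leaf 5256)) (.node (.leaf 5242) (.leaf 0x30d2))) (.node (.node (.leaf 1043) (.leaf 8356)) (.node (.leaf 5018) (.leaf 2365))))) (.node (.node (.node (.node (.leaf 9907) (.leaf 0x2fdd)) (.node (.leaf 1667) (.leaf 0x3bdd))) (.node (.node (.leaf 0x3e5c) (.leaf 0x2f3c)) (.node (.leaf 0x3ae5) (.leaf 828)))) (.node (.node (.node (.leaf 0x2fb4) (.leaf 0x2d02)) (.node (.leaf 526) (.leaf 9477))) (.node (.node (.leaf 0x3311) (.leaf 5605)) (.node (.leaf 0x3c0d) (.leaf 0x283a))))))) (.node (.node (.node (.node (.node (.node (.leaf 0x2a95) (.leaf 5005)) (.node (.leaf 0x2e02) (.leaf 0x2ded))) (.node (.node (.leaf 6309) (.leaf 0x2c93)) (.node (.leaf 5171) (.leaf 0x3732)))) (.node (.node (.node (.leaf 0x370a) (.leaf 9282)) (.node (.leaf 4586) (.leaf 6069))) (.node (.node (.leaf 5331) (.leaf 8629)) (.node (.leaf 4027) (.leaf 0x319d))))) (.node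 (.node (.node (.node (.leaf 0x2bd4) (.leaf 0x2b43)) (.node (.leaf 1235) (.leaf 0x3ea2))) (.node (.node (.leaf 9211) (.leaf 6395)) (.node (.leaf 2278) (.leaf 6628)))) (.node (.node (.node (.leaf 0x30b9) (.leaf 0x3f4e)) (.node (.leaf 1433) (.leaf 0x3a8c))) (.node (.node (.leaf 5253) (.leaf 0x2ea6)) (.node (.leaf 333) (.leaf 9284)))))) (.node (.node (.node (.node (.node (.leaf 8198) (.leaf 4692)) (.node (.leaf 0x398b) (.leaf 4629))) (.node (.node (.leaf 281) (.leaf 5141)) (.node (.leaf 1446) (.leaf 0x3e4c)))) (.node (.node (.node (.leaf 5596) (.leaf 0x2cae)) (.node (.leaf 0x3614) (.leaf 523))) (.node (.node (.leaf 4331) (.leaf 125)) (.node (.leaf 0x3b96) (.leaf 1731))))) (.node (.node (.node (.node (.leaf 7065) (.leaf 0x27eb)) (.node (.leaf 7169) (.leaf 7876))) (.node (.node (.leaf 0x2c1d) (.leaf 1444)) (.node (.leaf 7225) (.leaf 4229)))) (.node (.node (.node (.leaf 0x3f49) (.leaf 0x35de)) (.node (.leaf 0x3333) (.leaf 6037))) (.node (.node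 (.leaf 1582) (.leaf 2974)) (.node (.leaf 0x3200) (.leaf 0x2e05)))))))))

/-- Part of `ptPar`. -/
def ptPar2 : Tr := (.node (.node (.node (.node (.node (.node (.node (.node (.node (.leaf 1499) (.leaf 6797)) (.leaf 0x2e73)) (.node (.leaf 0x3389) (.leaf 9522))) (.node (.node (.leaf 0x2a1c) (.leaf 0x3914)) (.node (.leaf 5581) (.leaf 0x3b7b)))) (.node (.node (.node (.leaf 9892) (.leaf 0x30ee)) (.node (.leaf 1763) (.leaf 1508))) (.node (.node (.leaf 6059) (.leaf 4694)) (.node (.leaf 41) (.leaf 4061))))) (.node (.node (.node (.node (.leaf 0x2e0b) (.leaf 0x3744)) (.node (.leaf 0x2ca9) (.leaf 0x3254))) (.node (.node (.leaf 9348) (.leaf 0x32e3)) (.node (.leaf 0x37b2) (.leaf 0x2cd9)))) (.node (.node (.node (.leaf 6747) (.leaf 6435)) (.node (.leaf 2964) (.leaf 9339))) (.node (.node (.leaf 9214) (.leaf 187)) (.node (.leaf 5934) (.leaf 0x3c8d)))))) (.node (.node (.node (.node (.node (.leaf 0x3785) (.leaf 0x3372)) (.node (.leaf 0x3331) (.leaf 0x2b53)))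 (.node (.node (.leaf 0x3f0b) (.leaf 0x3ae0)) (.node (.leaf 0x2f2b) (.leaf 0x35db)))) (.node (.node (.node (.leaf 0x2b5c) (.leaf 8092)) (.node (.leaf 0x2ea5) (.leaf 7955))) (.node (.node (.leaf 0x3dfd) (.leaf 0x3ead)) (.node (.leaf 6654) (.leaf 5022))))) (.node (.node (.node (.node (.leaf 4837) (.leaf 7764)) (.node (.leaf 0x391b) (.leaf 0x371a))) (.node (.node (.leaf 7074) (.leaf 0x29a2)) (.node (.leaf 0x2cbb) (.leaf 0x2f2e)))) (.node (.node (.node (.leaf 565) (.leaf 6170)) (.node (.leaf 4515) (.leaf 0x330b))) (.node (.node (.leaf 7812) (.leaf 0x2e65)) (.node (.leaf 0x2799) (.leaf 4451))))))) (.node (.node (.node (.node (.node (.node (.leaf 0x3e46) (.leaf 3169)) (.node (.leaf 9965) (.leaf 4651))) (.node (.node (.leaf 0x3d79) (.leaf 3900)) (.node (.leaf 7796) (.leaf 1613)))) (.node (.node (.node (.leaf 6286) (.leaf 7323)) (.node (.leaf 9420) (.leaf 0x319c))) (.node (.node (.leaf 2040) (.leaf 7220)) (.node (.leaf 9763) (.leaf 0x2f9e)))))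 (.node (.node (.node (.node (.leaf 9225) (.leaf 6891)) (.node (.leaf 0x2993) (.leaf 0x3303))) (.node (.node (.leaf 0x2f7b) (.leaf 659)) (.node (.leaf 0x394d) (.leaf 0x2f82)))) (.node (.node (.node (.leaf 1769) (.leaf 4686)) (.node (.leaf 7347) (.leaf 0x2de3))) (.node (.node (.leaf 0x3a7b) (.leaf 0x2e85)) (.node (.leaf 9525) (.leaf 8018)))))) (.node (.node (.node (.node (.node (.leaf 0x33cd) (.leaf 0x3cac)) (.node (.leaf 0x2ebb) (.leaf 1732))) (.node (.node (.leaf 9334) (.leaf 7141)) (.node (.leaf 0x3712) (.leaf 6006)))) (.node (.node (.node (.leaf 0x2733) (.leaf 5389)) (.node (.leaf 5827) (.leaf 6691))) (.node (.node (.leaf 5478) (.leaf 8630)) (.node (.leaf 0x3532) (.leaf 1617))))) (.node (.node (.node (.node (.leaf 0x36db) (.leaf 0x2e1e)) (.node (.leaf 0x2bd2) (.leaf 0x3d15))) (.node (.node (.leaf 6635) (.leaf 0x293d)) (.node (.leaf 3341) (.leaf 0x2fa3)))) (.node (.node (.node (.leaf 0x293e) (.leaf 500)) (.node (.leaf 2995) (.leaf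 2219))) (.node (.node (.leaf 4058) (.leaf 2803)) (.node (.leaf 9454) (.leaf 0x2e45)))))))) (.node (.node (.node (.node (.node (.node (.node (.leaf 0x3a34) (.leaf 1890)) (.node (.leaf 0x3a05) (.leaf 0x29d3))) (.node (.node (.leaf 9333) (.leaf 7838)) (.node (.leaf 9571) (.leaf 0x2e6b)))) (.node (.node (.node (.leaf 206) (.leaf 213)) (.node (.leaf 7797) (.leaf 4021))) (.node (.node (.leaf 2126) (.leaf 5565)) (.node (.leaf 0x36d3) (.leaf 6766))))) (.node (.node (.node (.node (.leaf 5412) (.leaf 6603)) (.node (.leaf 9419) (.leaf 0x3db3))) (.node (.node (.leaf 0x2c6a) (.leaf 8187)) (.node (.leaf 0x3d5d) (.leaf 2475)))) (.node (.node (.node (.leaf 6866) (.leaf 6443)) (.node (.leaf 0x3206) (.leaf 0x3a85))) (.node (.node (.leaf 1373) (.leaf 8425)) (.node (.leaf 8899) (.leaf 0x34b5)))))) (.node (.node (.node (.node (.node (.leaf 8889) (.leaf 0x3326)) (.node (.leaf 0x3a55) (.leaf 0x29c5))) (.node (.node (.leaf 0x2c0a) (.leaf 0x3d0a)) (.node (.leaf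 0x366c) (.leaf 0x321e)))) (.node (.node (.node (.leaf 4624) (.leaf 9715)) (.node (.leaf 0x2a6b) (.leaf 9801))) (.node (.node (.leaf 3885) (.leaf 0x3315)) (.node (.leaf 0x2e5a) (.leaf 1116))))) (.node (.node (.node (.node (.leaf 7109) (.leaf 0x39dd)) (.node (.leaf 6458) (.leaf 0x344c))) (.node (.node (.leaf 0x2deb) (.leaf 0x2c95)) (.node (.leaf 5516) (.leaf 0x3fbd)))) (.node (.node (.node (.leaf 0x27f0) (.leaf 0x3f35)) (.node (.leaf 7340) (.leaf 0x2e60))) (.node (.node (.leaf 0x31fe) (.leaf 9843)) (.node (.leaf 9443) (.leaf 4932))))))) (.node (.node (.node (.node (.node (.node (.leaf 9643) (.leaf 34)) (.node (.leaf 7766) (.leaf 203))) (.node (.node (.leaf 8357) (.leaf 6004)) (.node (.leaf 0x38e3) (.leaf 0x2908)))) (.node (.node (.node (.leaf 0x298c) (.leaf 0x2a96)) (.node (.leaf 0x3906) (.leaf 147))) (.node (.node (.leaf 9817) (.leaf 0x299b)) (.node (.leaf 0x290b) (.leaf 2748))))) (.node (.node (.node (.node (.leaf 0x3415) (.leaf 0x382a))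 (.node (.leaf 5462) (.leaf 0x345b))) (.node (.node (.leaf 0x3c42) (.leaf 8333)) (.node (.leaf 139) (.leaf 0x2b9d)))) (.node (.node (.node (.leaf 4101) (.leaf 6930)) (.node (.leaf 0x37dc) (.leaf 0x38be))) (.node (.node (.leaf 0x3814) (.leaf 9699)) (.node (.leaf 2913) (.leaf 2078)))))) (.node (.node (.node (.node (.node (.leaf 3261) (.leaf 2820)) (.node (.leaf 5634) (.leaf 5219))) (.node (.node (.leaf 0x3b73) (.leaf 5236)) (.node (.leaf 0x3abb) (.leaf 4902)))) (.node (.node (.node (.leaf 0x283e) (.leaf 7317)) (.node (.leaf 0x2b7d) (.leaf 8381))) (.node (.node (.leaf 1654) (.leaf 0x3c13)) (.node (.leaf 5997) (.leaf 1288))))) (.node (.node (.node (.node (.leaf 0x3b00) (.leaf 0x3d0c)) (.node (.leaf 1011) (.leaf 8090))) (.node (.node (.leaf 8244) (.leaf 0x374b)) (.node (.leaf 0x39e6) (.leaf 7988)))) (.node (.node (.node (.leaf 5091) (.leaf 1614)) (.node (.leaf 7939) (.leaf 8285))) (.node (.node (.leaf 597) (.leaf 0x3b3a)) (.node (.leaf 9035)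 (.leaf 7565)))))))))

/-- Part of `ptPar`. -/
def ptPar3 : Tr := (.node (.node (.node (.node (.node (.node (.node (.node (.node (.leaf 1034) (.leaf 1796)) (.leaf 3172)) (.node (.leaf 1114) (.leaf 3522))) (.node (.node (.leaf 0x37c3) (.leaf 3406)) (.node (.leaf 9147) (.leaf 2434)))) (.node (.node (.node (.leaf 0x279c) (.leaf 9517)) (.node (.leaf 0x3536) (.leaf 0x2b13))) (.node (.node (.leaf 0x3782) (.leaf 5011)) (.node (.leaf 0x2973) (.leaf 1341))))) (.node (.node (.node (.node (.leaf 0x2f9d) (.leaf 6173)) (.node (.leaf 5526) (.leaf 8409))) (.node (.node (.leaf 525) (.leaf 9259)) (.node (.leaf 0x29f1) (.leaf 0x278c)))) (.node (.node (.node (.leaf 9922) (.leaf 0x3512)) (.node (.leaf 2693) (.leaf 2987))) (.node (.node (.leaf 8678) (.leaf 0x3a93)) (.node (.leaf 4565) (.leaf 8764)))))) (.node (.node (.node (.node (.node (.leaf 8242) (.leaf 8966)) (.node (.leaf 1587) (.leaf 3291))) (.node (.node (.leaf 7330) (.leaf 2916)) (.node (.leaf 6364)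 (.leaf 4948)))) (.node (.node (.node (.leaf 6149) (.leaf 3090)) (.node (.leaf 5107) (.leaf 5282))) (.node (.node (.leaf 6908) (.leaf 5819)) (.node (.leaf 0x3715) (.leaf 0x2a65))))) (.node (.node (.node (.node (.leaf 9139) (.leaf 0x39ad)) (.node (.leaf 0x34f2) (.leaf 5925))) (.node (.node (.leaf 6757) (.leaf 7956)) (.node (.leaf 0x28b4) (.leaf 0x3884)))) (.node (.node (.node (.leaf 0x400d) (.leaf 5738)) (.node (.leaf 0x333d) (.leaf 0x3a83))) (.node (.node (.leaf 0x3edb) (.leaf 3675)) (.node (.leaf 0x2775) (.leaf 0x3d5c))))))) (.node (.node (.node (.node (.node (.node (.leaf 8626) (.leaf 5971)) (.node (.leaf 0x3dc5) (.leaf 8419))) (.node (.node (.leaf 5740) (.leaf 0x3e2c)) (.node (.leaf 6204) (.leaf 1140)))) (.node (.node (.node (.leaf 0x3a2b) (.leaf 6964)) (.node (.leaf 8146) (.leaf 0x323c))) (.node (.node (.leaf 8349) (.leaf 7846)) (.node (.leaf 0x2baa) (.leaf 5237))))) (.node (.node (.node (.node (.leaf 0x2ac5) (.leaf 2316)) (.node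 (.leaf 0x3683) (.leaf 9912))) (.node (.node (.leaf 0x2d3d) (.leaf 3916)) (.node (.leaf 0x2b73) (.leaf 9003)))) (.node (.node (.node (.leaf 7598) (.leaf 8964)) (.node (.leaf 6202) (.leaf 3555))) (.node (.node (.leaf 0x325c) (.leaf 4979)) (.node (.leaf 5417) (.leaf 3124)))))) (.node (.node (.node (.node (.node (.leaf 0x2765) (.leaf 7238)) (.node (.leaf 0x33e6) (.leaf 5409))) (.node (.node (.leaf 0x3a4b) (.leaf 3541)) (.node (.leaf 2554) (.leaf 0x3923)))) (.node (.node (.node (.leaf 9162) (.leaf 0x2b9c)) (.node (.leaf 0x2c9b) (.leaf 6677))) (.node (.node (.leaf 0x3ff6) (.leaf 997)) (.node (.leaf 0x37fd) (.leaf 2322))))) (.node (.node (.node (.node (.leaf 0x30e1) (.leaf 0x30c3)) (.node (.leaf 755) (.leaf 293))) (.node (.node (.leaf 0x3833) (.leaf 0x2a43)) (.node (.leaf 2154) (.leaf 334)))) (.node (.node (.node (.leaf 5682) (.leaf 0x403a)) (.node (.leaf 2037) (.leaf 0x2865))) (.node (.node (.leaf 629) (.leaf 6068)) (.node (.leaf 0x365b)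 (.leaf 2076)))))))) (.node (.node (.node (.node (.node (.node (.node (.leaf 3957) (.leaf 2689)) (.node (.leaf 4910) (.leaf 0x35b6))) (.node (.node (.leaf 8931) (.leaf 0x2e93)) (.node (.leaf 0x378b) (.leaf 1827)))) (.node (.node (.node (.leaf 7539) (.leaf 6196)) (.node (.leaf 0x2c06) (.leaf 4069))) (.node (.node (.leaf 7341) (.leaf 0x2b93)) (.node (.leaf 0x2915) (.leaf 4893))))) (.node (.node (.node (.node (.leaf 0x3e2e) (.leaf 0x293a)) (.node (.leaf 2331) (.leaf 6962))) (.node (.node (.leaf 379) (.leaf 867)) (.node (.leaf 758) (.leaf 3)))) (.node (.node (.node (.leaf 7283) (.leaf 0x315a)) (.node (.leaf 0x2de5) (.leaf 9485))) (.node (.node (.leaf 0x2946) (.leaf 9187)) (.node (.leaf 8331) (.leaf 5074)))))) (.node (.node (.node (.node (.node (.leaf 8846) (.leaf 4758)) (.node (.leaf 9866) (.leaf 0x379b))) (.node (.node (.leaf 0x3442) (.leaf 0x376e)) (.node (.leaf 6726) (.leaf 9053)))) (.node (.node (.node (.leaf 8354) (.leaf 0x2714)) (.node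 (.leaf 0x3ca9) (.leaf 0x3fe1))) (.node (.node (.leaf 2829) (.leaf 9971)) (.node (.leaf 6070) (.leaf 7507))))) (.node (.node (.node (.node (.leaf 0x3e65) (.leaf 4947)) (.node (.leaf 4118) (.leaf 3469))) (.node (.node (.leaf 0x3d5a) (.leaf 8067)) (.node (.leaf 6987) (.leaf 4892)))) (.node (.node (.node (.leaf 6774) (.leaf 9217)) (.node (.leaf 5933) (.leaf 0x2e06))) (.node (.node (.leaf 3569) (.leaf 4350)) (.node (.leaf 9606) (.leaf 2291))))))) (.node (.node (.node (.node (.node (.node (.leaf 0x297d) (.leaf 3074)) (.node (.leaf 7747) (.leaf 7194))) (.node (.node (.leaf 9891) (.leaf 918)) (.node (.leaf 0x360b) (.leaf 3364)))) (.node (.node (.node (.leaf 0x296b) (.leaf 0x3c63)) (.node (.leaf 0x37ee) (.leaf 731))) (.node (.node (.leaf 2314) (.leaf 0x2d62)) (.node (.leaf 9209) (.leaf 0x396d))))) (.node (.node (.node (.node (.leaf 9286) (.leaf 3331)) (.node (.leaf 0x338e) (.leaf 5803))) (.node (.node (.leaf 646) (.leaf 0x36ed)) (.node (.leaf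 7334) (.leaf 7213)))) (.node (.node (.node (.leaf 0x271d) (.leaf 1892)) (.node (.leaf 0x2b16) (.leaf 3805))) (.node (.node (.leaf 6174) (.leaf 0x3673)) (.node (.leaf 5364) (.leaf 0x37ce)))))) (.node (.node (.node (.node (.node (.leaf 797) (.leaf 5276)) (.node (.leaf 0x2f1d) (.leaf 0x2e83))) (.node (.node (.leaf 0x300d) (.leaf 1227)) (.node (.leaf 0x3675) (.leaf 5414)))) (.node (.node (.node (.leaf 325) (.leaf 7372)) (.node (.leaf 2401) (.leaf 8481))) (.node (.node (.leaf 0x3a9c) (.leaf 0x3ab5)) (.node (.leaf 7429) (.leaf 0x38fa))))) (.node (.node (.node (.node (.leaf 7461) (.leaf 9581)) (.node (.leaf 9739) (.leaf 0x3734))) (.node (.node (.leaf 5306) (.leaf 5187)) (.node (.leaf 0x3e94) (.leaf 1372)))) (.node (.node (.node (.leaf 5069) (.leaf 5321)) (.node (.leaf 0x4035) (.leaf 1835))) (.node (.node (.leaf 8739) (.leaf 0x371c)) (.node (.leaf 0x38a3) (.leaf 2158)))))))))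

/-- Part of `ptPar`. -/
def ptPar4 : Tr := (.node (.node (.node (.node (.node (.node (.node (.node (.node (.leaf 2843) (.leaf 0x4020)) (.leaf 6813)) (.node (.leaf 9995) (.leaf 9482))) (.node (.node (.leaf 4726) (.leaf 0x3cbc)) (.node (.leaf 0x2c96) (.leaf 1107)))) (.node (.node (.node (.leaf 0x36c3) (.leaf 2131)) (.node (.leaf 0x3676) (.leaf 0x2bce))) (.node (.node (.leaf 9641) (.leaf 2189)) (.node (.leaf 163) (.leaf 8971))))) (.node (.node (.node (.node (.leaf 9004) (.leaf 6034)) (.node (.leaf 0x2dae) (.leaf 118))) (.node (.node (.leaf 5507) (.leaf 0x2763)) (.node (.leaf 5101) (.leaf 1581)))) (.node (.node (.node (.leaf 1684) (.leaf 2684)) (.node (.leaf 6910) (.leaf 4827))) (.node (.node (.leaf 1030) (.leaf 6626)) (.node (.leaf 2876) (.leaf 0x2f3e)))))) (.node (.node (.node (.node (.node (.leaf 0x27f3) (.leaf 298)) (.node (.leaf 6934) (.leaf 5461))) (.node (.node (.leaf 5748) (.leaf 0x28ab)) (.node (.leaf 4060) (.leaf 9052)))) (.node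 (.node (.node (.leaf 0x37be) (.leaf 0x3dfe)) (.node (.leaf 4834) (.leaf 0x3549))) (.node (.node (.leaf 0x3573) (.leaf 5821)) (.node (.leaf 7548) (.leaf 9329))))) (.node (.node (.node (.node (.leaf 0x2a9b) (.leaf 2597)) (.node (.leaf 9723) (.leaf 685))) (.node (.node (.leaf 8458) (.leaf 27)) (.node (.leaf 684) (.leaf 0x3915)))) (.node (.node (.node (.leaf 8741) (.leaf 3734)) (.node (.leaf 502) (.leaf 4590))) (.node (.node (.leaf 8131) (.leaf 5637)) (.node (.leaf 0x38ce) (.leaf 0x362d))))))) (.node (.node (.node (.node (.node (.node (.leaf 7345) (.leaf 4419)) (.node (.leaf 2901) (.leaf 6198))) (.node (.node (.leaf 909) (.leaf 390)) (.node (.leaf 9563) (.leaf 8558)))) (.node (.node (.node (.leaf 0x381b) (.leaf 2779)) (.node (.leaf 0x402b) (.leaf 320))) (.node (.node (.leaf 9771) (.leaf 2332)) (.node (.leaf 6915) (.leaf 0x30a3))))) (.node (.node (.node (.node (.leaf 0x370d) (.leaf 0x3941)) (.node (.leaf 3260) (.leaf 0x3292))) (.node (.node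 (.leaf 7043) (.leaf 8747)) (.node (.leaf 0x39f6) (.leaf 0x380b)))) (.node (.node (.node (.leaf 7877) (.leaf 6362)) (.node (.leaf 0x2e15) (.leaf 2002))) (.node (.node (.leaf 0x3013) (.leaf 6036)) (.node (.leaf 0x363d) (.leaf 1051)))))) (.node (.node (.node (.node (.node (.leaf 8020) (.leaf 7070)) (.node (.leaf 0x2dac) (.leaf 2926))) (.node (.node (.leaf 0x29a4) (.leaf 7835)) (.node (.leaf 0x28e5) (.leaf 434)))) (.node (.node (.node (.leaf 6810) (.leaf 5685)) (.node (.leaf 8569) (.leaf 157))) (.node (.node (.leaf 0x3cc5) (.leaf 605)) (.node (.leaf 4269) (.leaf 3627))))) (.node (.node (.node (.node (.leaf 0x2e63) (.leaf 5570)) (.node (.leaf 0x3736) (.leaf 3313))) (.node (.node (.leaf 2870) (.leaf 7524)) (.node (.leaf 9611) (.leaf 5781)))) (.node (.node (.node (.leaf 452) (.leaf 2389)) (.node (.leaf 0x2902) (.leaf 2458))) (.node (.node (.leaf 0x318d) (.leaf 3896)) (.node (.leaf 0x2b7c) (.leaf 0x3ae4)))))))) (.node (.node (.node (.node (.node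 (.node (.node (.leaf 4141) (.leaf 9148)) (.node (.leaf 5309) (.leaf 907))) (.node (.node (.leaf 6814) (.leaf 6172)) (.node (.leaf 6781) (.leaf 0x3514)))) (.node (.node (.node (.leaf 0x3a91) (.leaf 1790)) (.node (.leaf 0x3c7c) (.leaf 450))) (.node (.node (.leaf 0x2b02) (.leaf 0x3e84)) (.node (.leaf 0x27e4) (.leaf 5788))))) (.node (.node (.node (.node (.leaf 0x2dd6) (.leaf 2905)) (.node (.leaf 0x2d06) (.leaf 0x31e9))) (.node (.node (.leaf 1045) (.leaf 0x2a84)) (.node (.leaf 9524) (.leaf 2849)))) (.node (.node (.node (.leaf 4517) (.leaf 3912)) (.node (.leaf 0x396c) (.leaf 3725))) (.node (.node (.leaf 0x296d) (.leaf 0x3969)) (.node (.leaf 0x2ac3) (.leaf 0x2b7e)))))) (.node (.node (.node (.node (.node (.leaf 0x3186) (.leaf 1739)) (.node (.leaf 0x3d46) (.leaf 662))) (.node (.node (.leaf 1650) (.leaf 0x378e)) (.node (.leaf 9577) (.leaf 7131)))) (.node (.node (.node (.leaf 3938) (.leaf 5445)) (.node (.leaf 756) (.leaf 2404))) (.node (.node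 (.leaf 7181) (.leaf 0x3f83)) (.node (.leaf 1793) (.leaf 7229))))) (.node (.node (.node (.node (.leaf 0x37ed) (.leaf 8475)) (.node (.leaf 8401) (.leaf 4684))) (.node (.node (.leaf 6010) (.leaf 0x2b8e)) (.node (.leaf 0x3a45) (.leaf 8561)))) (.node (.node (.node (.leaf 99) (.leaf 0x3ff4)) (.node (.leaf 0x2719) (.leaf 0x280d))) (.node (.node (.leaf 7259) (.leaf 8297)) (.node (.leaf 8827) (.leaf 0x3a36))))))) (.node (.node (.node (.node (.node (.node (.leaf 0x3f4b) (.leaf 0x29fc)) (.node (.leaf 2453) (.leaf 2410))) (.node (.node (.leaf 6947) (.leaf 0x2f36)) (.node (.leaf 6349) (.leaf 2149)))) (.node (.node (.node (.leaf 6502) (.leaf 661)) (.node (.leaf 0x325b) (.leaf 6348))) (.node (.node (.leaf 2171) (.leaf 0x2713)) (.node (.leaf 9346) (.leaf 7930))))) (.node (.node (.node (.node (.leaf 0x3e91) (.leaf 2366)) (.node (.leaf 6675) (.leaf 7173))) (.node (.node (.leaf 4653) (.leaf 8845)) (.node (.leaf 9141) (.leaf 5489)))) (.node (.node (.node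 (.leaf 0x32fe) (.leaf 0x2c0d)) (.node (.leaf 9886) (.leaf 0x288d))) (.node (.node (.leaf 0x2c86) (.leaf 0x2dcb)) (.node (.leaf 0x2d84) (.leaf 6974)))))) (.node (.node (.node (.node (.node (.leaf 0x3252) (.leaf 2619)) (.node (.leaf 7886) (.leaf 3907))) (.node (.node (.leaf 1853) (.leaf 0x30bb)) (.node (.leaf 7059) (.leaf 9212)))) (.node (.node (.node (.leaf 0x2f5b) (.leaf 3837)) (.node (.leaf 8203) (.leaf 0x30fb))) (.node (.node (.leaf 8477) (.leaf 0x367e)) (.node (.leaf 0x3f73) (.leaf 73))))) (.node (.node (.node (.node (.leaf 7382) (.leaf 5429)) (.node (.leaf 0x29f9) (.leaf 0x383b))) (.node (.node (.leaf 2516) (.leaf 0x3e6e)) (.node (.leaf 752) (.leaf 0x3a04)))) (.node (.node (.node (.leaf 91) (.leaf 0x3dc2)) (.node (.leaf 5260) (.leaf 1995))) (.node (.node (.leaf 2462) (.leaf 9604)) (.node (.leaf 4363) (.leaf 0x363a)))))))))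

/-- Part of `ptPar`. -/
def ptPar5 : Tr := (.node (.node (.node (.node (.node (.node (.node (.node (.node (.leaf 426) (.leaf 0x33ce)) (.leaf 1988)) (.node (.leaf 4862) (.leaf 4294))) (.node (.node (.leaf 0x29f6) (.leaf 0x33f5)) (.node (.leaf 0x271c) (.leaf 1163)))) (.node (.node (.node (.leaf 44) (.leaf 9565)) (.node (.leaf 0x3ce1) (.leaf 0x312b))) (.node (.node (.leaf 2180) (.leaf 7579)) (.node (.leaf 8051) (.leaf 0x353e))))) (.node (.node (.node (.node (.leaf 0x2d64) (.leaf 0x365e)) (.node (.leaf 6670) (.leaf 0x2e66))) (.node (.node (.leaf 0x2945) (.leaf 6949)) (.node (.leaf 7517) (.leaf 6582)))) (.node (.node (.node (.leaf 8515) (.leaf 8725)) (.node (.leaf 8102) (.leaf 0x3cba))) (.node (.node (.leaf 0x297e) (.leaf 2722)) (.node (.leaf 0x2a14) (.leaf 3411)))))) (.node (.node (.node (.node (.node (.leaf 0x3d03) (.leaf 1661)) (.node (.leaf 8142) (.leaf 5973))) (.node (.node (.leaf 1565) (.leaf 5611)) (.node (.leaf 2362) (.leaf 0x3dc4))))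 (.node (.node (.node (.leaf 0x3d82) (.leaf 0x2ce6)) (.node (.leaf 0x2f3a) (.leaf 0x391e))) (.node (.node (.leaf 6316) (.leaf 0x35a6)) (.node (.leaf 7235) (.leaf 987))))) (.node (.node (.node (.node (.leaf 2942) (.leaf 0x3a32)) (.node (.leaf 0x38c9) (.leaf 0x3efe))) (.node (.node (.leaf 9331) (.leaf 6213)) (.node (.leaf 2769) (.leaf 0x2825)))) (.node (.node (.node (.leaf 0x3b9d) (.leaf 3838)) (.node (.leaf 5458) (.leaf 539))) (.node (.node (.leaf 7222) (.leaf 4116)) (.node (.leaf 1307) (.leaf 3107))))))) (.node (.node (.node (.node (.node (.node (.leaf 0x3b04) (.leaf 9566)) (.node (.leaf 0x3b13) (.leaf 0x29f3))) (.node (.node (.leaf 5333) (.leaf 9918)) (.node (.leaf 2211) (.leaf 6330)))) (.node (.node (.node (.leaf 6230) (.leaf 0x3882)) (.node (.leaf 1419) (.leaf 3561))) (.node (.node (.leaf 0x2806) (.leaf 7202)) (.node (.leaf 7250) (.leaf 1026))))) (.node (.node (.node (.node (.leaf 0x279b) (.leaf 2708)) (.node (.leaf 9054) (.leaf 8094)))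 (.node (.node (.leaf 7537) (.leaf 6124)) (.node (.leaf 0x2933) (.leaf 0x3f02)))) (.node (.node (.node (.leaf 5475) (.leaf 4886)) (.node (.leaf 7785) (.leaf 0x399e))) (.node (.node (.leaf 0x2a0a) (.leaf 5602)) (.node (.leaf 2178) (.leaf 5372)))))) (.node (.node (.node (.node (.node (.leaf 0x3763) (.leaf 0x4026)) (.node (.leaf 0x277e) (.leaf 3923))) (.node (.node (.leaf 5798) (.leaf 2413)) (.node (.leaf 0x28b0) (.leaf 0x400b)))) (.node (.node (.node (.leaf 0x34da) (.leaf 1554)) (.node (.leaf 0x2ead) (.leaf 1293))) (.node (.node (.leaf 7002) (.leaf 5787)) (.node (.leaf 4112) (.leaf 9468))))) (.node (.node (.node (.node (.leaf 9116) (.leaf 830)) (.node (.leaf 899) (.leaf 3859))) (.node (.node (.leaf 5173) (.leaf 5395)) (.node (.leaf 5388) (.leaf 9931)))) (.node (.node (.node (.leaf 4838) (.leaf 5915)) (.node (.leaf 0x2866) (.leaf 2796))) (.node (.node (.leaf 7566) (.leaf 0x3b5d)) (.node (.leaf 0x2bee) (.leaf 9497)))))))) (.node (.node (.node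 (.node (.node (.node (.node (.leaf 4678) (.leaf 0x2aa2)) (.node (.leaf 5349) (.leaf 8962))) (.node (.node (.leaf 2563) (.leaf 0x27f4)) (.node (.leaf 4781) (.leaf 0x2f6c)))) (.node (.node (.node (.leaf 0x3b09) (.leaf 7924)) (.node (.leaf 8706) (.leaf 0x2b6a))) (.node (.node (.leaf 0x2e6e) (.leaf 0x27db)) (.node (.leaf 2965) (.leaf 0x30c5))))) (.node (.node (.node (.node (.leaf 0x323e) (.leaf 0x366e)) (.node (.leaf 0x3854) (.leaf 0x325d))) (.node (.node (.leaf 7403) (.leaf 7370)) (.node (.leaf 2883) (.leaf 2587)))) (.node (.node (.node (.leaf 0x3335) (.leaf 0x403c)) (.node (.leaf 3339) (.leaf 0x3ff1))) (.node (.node (.leaf 0x3a5c) (.leaf 0x2f32)) (.node (.leaf 0x310a) (.leaf 8196)))))) (.node (.node (.node (.node (.node (.leaf 1894) (.leaf 2269)) (.node (.leaf 3765) (.leaf 0x3e8b))) (.node (.node (.leaf 4107) (.leaf 2396)) (.node (.leaf 0x3023) (.leaf 5778)))) (.node (.node (.node (.leaf 0x274e) (.leaf 1610)) (.node (.leaf 6049) (.leaf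 723))) (.node (.node (.leaf 0x404d) (.leaf 0x29e5)) (.node (.leaf 4621) (.leaf 0x3773))))) (.node (.node (.node (.node (.leaf 0x3ea5) (.leaf 7669)) (.node (.leaf 0x3282) (.leaf 0x3fe6))) (.node (.node (.leaf 0x3615) (.leaf 4291)) (.node (.leaf 0x37a4) (.leaf 0x3024)))) (.node (.node (.node (.leaf 4211) (.leaf 228)) (.node (.leaf 8836) (.leaf 0x2ce4))) (.node (.node (.leaf 9252) (.leaf 7762)) (.node (.leaf 6577) (.leaf 9414))))))) (.node (.node (.node (.node (.node (.node (.leaf 0x3f05) (.leaf 8850)) (.node (.leaf 7564) (.leaf 3219))) (.node (.node (.leaf 0x27fe) (.leaf 4885)) (.node (.leaf 8414) (.leaf 0x34d4)))) (.node (.node (.node (.leaf 4557) (.leaf 0x3905)) (.node (.leaf 4011) (.leaf 3577))) (.node (.node (.leaf 0x2ecb) (.leaf 300)) (.node (.leaf 749) (.leaf 5572))))) (.node (.node (.node (.node (.leaf 9657) (.leaf 0x2f8e)) (.node (.leaf 2830) (.leaf 9732))) (.node (.node (.leaf 251) (.leaf 0x292e)) (.node (.leaf 8501) (.leaf 0x3d26))))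 (.node (.node (.node (.leaf 0x2c3a) (.leaf 9889)) (.node (.leaf 5421) (.leaf 1506))) (.node (.node (.leaf 0x2cc6) (.leaf 3274)) (.node (.leaf 0x3a54) (.leaf 1118)))))) (.node (.node (.node (.node (.node (.leaf 3644) (.leaf 3130)) (.node (.leaf 1715) (.leaf 6762))) (.node (.node (.leaf 4630) (.leaf 5754)) (.node (.leaf 8182) (.leaf 0x3271)))) (.node (.node (.node (.leaf 7852) (.leaf 0x2edd)) (.node (.leaf 8740) (.leaf 0x272b))) (.node (.node (.leaf 0x3b32) (.leaf 0x2716)) (.node (.leaf 4554) (.leaf 0x3a52))))) (.node (.node (.node (.node (.leaf 7205) (.leaf 4845)) (.node (.leaf 2036) (.leaf 5910))) (.node (.node (.leaf 963) (.leaf 0x38d3)) (.node (.leaf 8099) (.leaf 1149)))) (.node (.node (.node (.leaf 0x2905) (.leaf 7374)) (.node (.leaf 4339) (.leaf 5780))) (.node (.node (.leaf 117) (.leaf 5846)) (.node (.leaf 3974) (.leaf 302)))))))))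

/-- Part of `ptPar`. -/
def ptPar6 : Tr := (.node (.node (.node (.node (.node (.node (.node (.node (.node (.leaf 6066) (.leaf 8628)) (.leaf 0x3163)) (.node (.leaf 3874) (.leaf 0x343a))) (.node (.node (.leaf 0x2a85) (.leaf 5757)) (.node (.leaf 5419) (.leaf 0x27d5)))) (.node (.node (.node (.leaf 4717) (.leaf 0x3116)) (.node (.leaf 9336) (.leaf 0x2e09))) (.node (.node (.leaf 9466) (.leaf 0x328b)) (.node (.leaf 0x38bb) (.leaf 4317))))) (.node (.node (.node (.node (.leaf 0x3198) (.leaf 9885)) (.node (.leaf 0x360e) (.leaf 7774))) (.node (.node (.leaf 0x397e) (.leaf 0x276e)) (.node (.leaf 5886) (.leaf 6883)))) (.node (.node (.node (.leaf 4238) (.leaf 0x28d6)) (.node (.leaf 9307) (.leaf 6803))) (.node (.node (.leaf 3083) (.leaf 2972)) (.node (.leaf 5413) (.leaf 0x34a5)))))) (.node (.node (.node (.node (.node (.leaf 9001) (.leaf 0x2a94)) (.node (.leaf 3753) (.leaf 5021))) (.node (.node (.leaf 1563) (.leaf 4690)) (.node (.leaf 1718) (.leaf 8486))))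 (.node (.node (.node (.leaf 0x2fe3) (.leaf 2947)) (.node (.leaf 7878) (.leaf 4971))) (.node (.node (.leaf 1985) (.leaf 1509)) (.node (.leaf 0x3ec3) (.leaf 0x33e4))))) (.node (.node (.node (.node (.leaf 7086) (.leaf 8842)) (.node (.leaf 902) (.leaf 4882))) (.node (.node (.leaf 2274) (.leaf 8083)) (.node (.leaf 2147) (.leaf 0x2e7b)))) (.node (.node (.node (.leaf 0x2b7a) (.leaf 2044)) (.node (.leaf 0x277b) (.leaf 0x3c6b))) (.node (.node (.leaf 5250) (.leaf 6995)) (.node (.leaf 5362) (.leaf 7204))))))) (.node (.node (.node (.node (.node (.node (.leaf 0x3f5c) (.leaf 5626)) (.node (.leaf 8275) (.leaf 686))) (.node (.node (.leaf 6950) (.leaf 0x27e1)) (.node (.leaf 7836) (.leaf 4501)))) (.node (.node (.node (.leaf 4556) (.leaf 0x2c1c)) (.node (.leaf 2794) (.leaf 7206))) (.node (.node (.leaf 8883) (.leaf 0x2bcb)) (.node (.leaf 0x2bda) (.leaf 0x3926))))) (.node (.node (.node (.node (.leaf 1910) (.leaf 0x2b4e)) (.node (.leaf 0x2f46) (.leaf 4038)))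 (.node (.node (.leaf 3645) (.leaf 8924)) (.node (.leaf 5451) (.leaf 0x3c93)))) (.node (.node (.node (.leaf 0x2ce5) (.leaf 3376)) (.node (.leaf 7952) (.leaf 653))) (.node (.node (.leaf 9582) (.leaf 0x3842)) (.node (.leaf 3078) (.leaf 6012)))))) (.node (.node (.node (.node (.node (.leaf 9451) (.leaf 9963)) (.node (.leaf 0x3e83) (.leaf 0x36f3))) (.node (.node (.leaf 0x3f5d) (.leaf 7643)) (.node (.leaf 0x2e9a) (.leaf 0x32ce)))) (.node (.node (.node (.leaf 0x2b8a) (.leaf 5198)) (.node (.leaf 0x2a12) (.leaf 0x38cb))) (.node (.node (.leaf 7801) (.leaf 0x2e16)) (.node (.leaf 3422) (.leaf 0x27c5))))) (.node (.node (.node (.node (.leaf 7188) (.leaf 6812)) (.node (.leaf 9438) (.leaf 0x341c))) (.node (.node (.leaf 0x38b9) (.leaf 0x3971)) (.node (.leaf 283) (.leaf 0x3dec)))) (.node (.node (.node (.leaf 0x350c) (.leaf 0x32a4)) (.node (.leaf 0x351b) (.leaf 0x2a3b))) (.node (.node (.leaf 7668) (.leaf 7027)) (.node (.leaf 0x2a7a) (.leaf 0x310c))))))))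 (.node (.node (.node (.node (.node (.node (.node (.leaf 49) (.leaf 0x3da4)) (.node (.leaf 0x3dbe) (.leaf 3963))) (.node (.node (.leaf 9925) (.leaf 7378)) (.node (.leaf 2105) (.leaf 8691)))) (.node (.node (.node (.leaf 3707) (.leaf 1578)) (.node (.leaf 7987) (.leaf 0x396e))) (.node (.node (.leaf 0x2c32) (.leaf 8676)) (.node (.leaf 2750) (.leaf 7808))))) (.node (.node (.node (.node (.leaf 9595) (.leaf 9021)) (.node (.leaf 501) (.leaf 0x3382))) (.node (.node (.leaf 124) (.leaf 0x3cae)) (.node (.leaf 7380) (.leaf 0x376d)))) (.node (.node (.node (.leaf 9979) (.leaf 0x2b14)) (.node (.leaf 5707) (.leaf 0x2944))) (.node (.node (.leaf 1006) (.leaf 0x3ba6)) (.node (.leaf 8139) (.leaf 0x2954)))))) (.node (.node (.node (.node (.node (.leaf 9810) (.leaf 0x3ca2)) (.node (.leaf 9838) (.leaf 0x2b9a))) (.node (.node (.leaf 0x29e4) (.leaf 6721)) (.node (.leaf 0x3d99) (.leaf 0x3632)))) (.node (.node (.node (.leaf 6749) (.leaf 9667)) (.node (.leaf 7218)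 (.leaf 0x3e4e))) (.node (.node (.leaf 0x2d66) (.leaf 0x2c05)) (.node (.leaf 5642) (.leaf 0x336b))))) (.node (.node (.node (.node (.leaf 0x37b4) (.leaf 123)) (.node (.leaf 0x2b4d) (.leaf 3467))) (.node (.node (.leaf 7253) (.leaf 0x3612)) (.node (.leaf 4045) (.leaf 0x39ce)))) (.node (.node (.node (.leaf 6421) (.leaf 6142)) (.node (.leaf 0x3e2a) (.leaf 4030))) (.node (.node (.leaf 0x3d0e) (.leaf 25)) (.node (.leaf 481) (.leaf 1729))))))) (.node (.node (.node (.node (.node (.node (.leaf 0x3554) (.leaf 0x4046)) (.node (.leaf 1022) (.leaf 0x2ede))) (.node (.node (.leaf 2018) (.leaf 6501)) (.node (.leaf 0x324d) (.leaf 5102)))) (.node (.node (.node (.leaf 0x3575) (.leaf 9429)) (.node (.leaf 8619) (.leaf 0x2d2b))) (.node (.node (.leaf 530) (.leaf 0x3dd5)) (.node (.leaf 0x2ef4) (.leaf 0x3ebb))))) (.node (.node (.node (.node (.leaf 0x2711) (.leaf 933)) (.node (.leaf 4889) (.leaf 8762))) (.node (.node (.leaf 0x279e) (.leaf 0x3d7b)) (.node (.leaf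 0x3306) (.leaf 0x3550)))) (.node (.node (.node (.leaf 930) (.leaf 5477)) (.node (.leaf 0x3c26) (.leaf 0x28cd))) (.node (.node (.leaf 0x3c73) (.leaf 3347)) (.node (.leaf 3289) (.leaf 0x350b)))))) (.node (.node (.node (.node (.node (.leaf 7171) (.leaf 0x280e)) (.node (.leaf 2310) (.leaf 7773))) (.node (.node (.leaf 6354) (.leaf 6906)) (.node (.leaf 1740) (.leaf 794)))) (.node (.node (.node (.leaf 9814) (.leaf 0x3065)) (.node (.leaf 0x3f70) (.leaf 6226))) (.node (.node (.leaf 9538) (.leaf 0x2d3e)) (.node (.leaf 2043) (.leaf 5346))))) (.node (.node (.node (.node (.leaf 6525) (.leaf 0x2ed2)) (.node (.leaf 5830) (.leaf 0x271b))) (.node (.node (.leaf 6038) (.leaf 6533)) (.node (.leaf 0x2983) (.leaf 8346)))) (.node (.node (.node (.leaf 1441) (.leaf 5009)) (.node (.leaf 0x35fc) (.leaf 6526))) (.node (.node (.leaf 0x33c6) (.leaf 894)) (.node (.leaf 7221) (.leaf 226)))))))))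

/-- Part of `ptPar`. -/
def ptPar7 : Tr := (.node (.node (.node (.node (.node (.node (.node (.node (.node (.leaf 0x39a1) (.leaf 6107)) (.leaf 0x3e59)) (.node (.leaf 0x2efc) (.leaf 0x3535))) (.node (.node (.leaf 0x3872) (.leaf 403)) (.node (.leaf 0x2ccb) (.leaf 7666)))) (.node (.node (.node (.leaf 4637) (.leaf 533)) (.node (.leaf 0x27bb) (.leaf 4491))) (.node (.node (.leaf 835) (.leaf 0x2d7b)) (.node (.leaf 0x3f5a) (.leaf 0x31de))))) (.node (.node (.node (.node (.leaf 0x3444) (.leaf 0x3f8b)) (.node (.leaf 1060) (.leaf 8555))) (.node (.node (.leaf 8797) (.leaf 6470)) (.node (.leaf 2156) (.leaf 7196)))) (.node (.node (.node (.leaf 6155) (.leaf 3595)) (.node (.leaf 53) (.leaf 0x338b))) (.node (.node (.leaf 0x3069) (.leaf 2596)) (.node (.leaf 2877) (.leaf 6429)))))) (.node (.node (.node (.node (.node (.leaf 0x2fcd) (.leaf 3891)) (.node (.leaf 910) (.leaf 0x2f6d))) (.node (.node (.leaf 0x2b4b) (.leaf 0x2863)) (.node (.leaf 7883) (.leaf 0x2cad))))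 (.node (.node (.node (.leaf 7691) (.leaf 0x3256)) (.node (.leaf 0x3bd5) (.leaf 916))) (.node (.node (.leaf 826) (.leaf 0x28ca)) (.node (.leaf 3709) (.leaf 0x3b6b))))) (.node (.node (.node (.node (.leaf 1123) (.leaf 0x35ce)) (.node (.leaf 0x281d) (.leaf 5234))) (.node (.node (.leaf 2499) (.leaf 0x373b)) (.node (.leaf 3093) (.leaf 0x3d13)))) (.node (.node (.node (.leaf 0x3463) (.leaf 2460)) (.node (.leaf 6446) (.leaf 8502))) (.node (.node (.leaf 9417) (.leaf 5515)) (.node (.leaf 0x372a) (.leaf 0x32bb))))))) (.node (.node (.node (.node (.node (.node (.leaf 0x39c2) (.leaf 7595)) (.node (.leaf 2393) (.leaf 7546))) (.node (.node (.leaf 212) (.leaf 5221)) (.node (.leaf 0x27cb) (.leaf 0x2f0a)))) (.node (.node (.node (.leaf 0x2f0c) (.leaf 1037)) (.node (.leaf 0x30f3) (.leaf 0x2b1b))) (.node (.node (.leaf 0x3f6b) (.leaf 0x356a)) (.node (.leaf 0x3136) (.leaf 5467))))) (.node (.node (.node (.node (.leaf 9937) (.leaf 802)) (.node (.leaf 0x29bb)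 (.leaf 645))) (.node (.node (.leaf 5746) (.leaf 3365)) (.node (.leaf 349) (.leaf 9229)))) (.node (.node (.node (.leaf 0x30ec) (.leaf 6001)) (.node (.leaf 0x3e01) (.leaf 8059))) (.node (.node (.leaf 1371) (.leaf 0x28ce)) (.node (.leaf 0x33d3) (.leaf 7901)))))) (.node (.node (.node (.node (.node (.leaf 2251) (.leaf 9901)) (.node (.leaf 54) (.leaf 308))) (.node (.node (.leaf 768) (.leaf 6605)) (.node (.leaf 112) (.leaf 5365)))) (.node (.node (.node (.leaf 0x30bc) (.leaf 4226)) (.node (.leaf 0x367c) (.leaf 8681))) (.node (.node (.leaf 2908) (.leaf 2909)) (.node (.leaf 7501) (.leaf 0x3404))))) (.node (.node (.node (.node (.leaf 1157) (.leaf 0x3402)) (.node (.leaf 0x3ff5) (.leaf 6150))) (.node (.node (.leaf 0x2766) (.leaf 0x2cce)) (.node (.leaf 8769) (.leaf 0x2c3c)))) (.node (.node (.node (.leaf 4228) (.leaf 5470)) (.node (.leaf 4878) (.leaf 0x2b75))) (.node (.node (.leaf 0x371d) (.leaf 8484)) (.node (.leaf 9804) (.leaf 0x3534)))))))) (.node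 (.node (.node (.node (.node (.node (.node (.leaf 0x3912) (.leaf 4171)) (.node (.leaf 5373) (.leaf 430))) (.node (.node (.leaf 0x30dc) (.leaf 4709)) (.node (.leaf 6374) (.leaf 0x3cbd)))) (.node (.node (.node (.leaf 0x3314) (.leaf 0x36e9)) (.node (.leaf 0x3d4b) (.leaf 8369))) (.node (.node (.leaf 5300) (.leaf 0x3515)) (.node (.leaf 3189) (.leaf 7395))))) (.node (.node (.node (.node (.leaf 5099) (.leaf 654)) (.node (.leaf 9985) (.leaf 7019))) (.node (.node (.leaf 7339) (.leaf 0x3cc3)) (.node (.leaf 0x3336) (.leaf 0x2daa)))) (.node (.node (.node (.leaf 0x403e) (.leaf 6025)) (.node (.leaf 2467) (.leaf 0x3cab))) (.node (.node (.leaf 9230) (.leaf 0x3f74)) (.node (.leaf 5890) (.leaf 7827)))))) (.node (.node (.node (.node (.node (.leaf 9661) (.leaf 210)) (.node (.leaf 6553) (.leaf 7051))) (.node (.node (.leaf 7971) (.leaf 0x2b74)) (.node (.leaf 0x2a92) (.leaf 5525)))) (.node (.node (.node (.leaf 0x3925) (.leaf 0x3a26)) (.node (.leaf 2381) (.leaf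 0x3e0d))) (.node (.node (.leaf 0x37de) (.leaf 757)) (.node (.leaf 6723) (.leaf 3250))))) (.node (.node (.node (.node (.leaf 259) (.leaf 0x3cc6)) (.node (.leaf 3253) (.leaf 8654))) (.node (.node (.leaf 571) (.leaf 3123)) (.node (.leaf 9074) (.leaf 0x2bcd)))) (.node (.node (.node (.leaf 0x307d) (.leaf 0x306d)) (.node (.leaf 0x3133) (.leaf 0x2d56))) (.node (.node (.leaf 284) (.leaf 0x398d)) (.node (.leaf 0x2cb5) (.leaf 38))))))) (.node (.node (.node (.node (.node (.node (.leaf 8230) (.leaf 0x2a7e)) (.node (.leaf 0x4021) (.leaf 2606))) (.node (.node (.leaf 0x30cb) (.leaf 0x3386)) (.node (.leaf 5582) (.leaf 4443)))) (.node (.node (.node (.leaf 5227) (.leaf 0x37bb)) (.node (.leaf 0x3313) (.leaf 0x3efd))) (.node (.node (.leaf 5064) (.leaf 3234)) (.node (.leaf 2582) (.leaf 4358))))) (.node (.node (.node (.node (.leaf 0x2dad) (.leaf 0x3933)) (.node (.leaf 0x36eb) (.leaf 1629))) (.node (.node (.leaf 9459) (.leaf 6932)) (.node (.leaf 2731) (.leaf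 3605)))) (.node (.node (.node (.leaf 428) (.leaf 0x2715)) (.node (.leaf 0x31e5) (.leaf 9427))) (.node (.node (.leaf 0x3c24) (.leaf 4235)) (.node (.leaf 0x32ab) (.leaf 897)))))) (.node (.node (.node (.node (.node (.leaf 0x3495) (.leaf 0x2f1c)) (.node (.leaf 0x2fab) (.leaf 4861))) (.node (.node (.leaf 2659) (.leaf 0x3da2)) (.node (.leaf 0x2f3d) (.leaf 7237)))) (.node (.node (.node (.leaf 0x387e) (.leaf 0x2d95)) (.node (.leaf 0x2d8b) (.leaf 8075))) (.node (.node (.leaf 0x3d3a) (.leaf 8002)) (.node (.leaf 0x2e9e) (.leaf 8795))))) (.node (.node (.node (.node (.leaf 0x34f5) (.leaf 914)) (.node (.leaf 0x32f4) (.leaf 3188))) (.node (.node (.leaf 9437) (.leaf 8005)) (.node (.leaf 532) (.leaf 5354)))) (.node (.node (.node (.leaf 0x2951) (.leaf 0x3c7d)) (.node (.leaf 1147) (.leaf 0x376b))) (.node (.node (.leaf 0x3993) (.leaf 0x3745)) (.node (.leaf 1054) (.leaf 4723)))))))))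

/-- Predecessors. -/
def ptPar : Tr := (.node (.node (.node ptPar0 ptPar4) (.node ptPar2 ptPar6)) (.node (.node ptPar1 ptPar5) (.node ptPar3 ptPar7)))

/-- Part of `ptDep`. -/
def ptDep0 : Tr := (.node (.node (.node (.node (.node (.node (.node (.node (.node (.leaf 10) (.leaf 15)) (.leaf 13)) (.node (.leaf 6) (.leaf 15))) (.node (.node (.leaf 14) (.leaf 14)) (.node (.leaf 11) (.leaf 7)))) (.node (.node (.node (.leaf 11) (.leaf 13)) (.node (.leaf 12) (.leaf 5))) (.node (.node (.leaf 13) (.leaf 11)) (.node (.leaf 12) (.leaf 15))))) (.node (.node (.node (.node (.leaf 15) (.leaf 10)) (.node (.leaf 15) (.leaf 12))) (.node (.node (.leaf 10) (.leaf 13)) (.node (.leaf 12) (.leaf 13)))) (.node (.node (.node (.leaf 13) (.leaf 10)) (.node (.leaf 12) (.leaf 4))) (.node (.node (.leaf 14) (.leaf 10)) (.node (.leaf 11) (.leaf 13)))))) (.node (.node (.node (.node (.node (.leaf 11) (.leaf 13)) (.node (.leaf 14) (.leaf 12))) (.node (.node (.leaf 15)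 (.leaf 12)) (.node (.leaf 11) (.leaf 9)))) (.node (.node (.node (.leaf 13) (.leaf 9)) (.node (.leaf 11) (.leaf 11))) (.node (.node (.leaf 12) (.leaf 12)) (.node (.leaf 11) (.leaf 9))))) (.node (.node (.node (.node (.leaf 12) (.leaf 12)) (.node (.leaf 14) (.leaf 10))) (.node (.node (.leaf 11) (.leaf 12)) (.node (.leaf 10) (.leaf 14)))) (.node (.node (.node (.leaf 13) (.leaf 13)) (.node (.leaf 14) (.leaf 14))) (.node (.node (.leaf 15) (.leaf 11)) (.node (.leaf 14) (.leaf 10))))))) (.node (.node (.node (.node (.node (.node (.leaf 13) (.leaf 14)) (.node (.leaf 11) (.leaf 14))) (.node (.node (.leaf 9) (.leaf 10)) (.node (.leaf 15) (.leaf 13)))) (.node (.node (.node (.leaf 12) (.leaf 10)) (.node (.leaf 12) (.leaf 13))) (.node (.node (.leaf 14) (.leaf 14)) (.node (.leaf 15) (.leaf 13))))) (.node (.node (.node (.node (.leaf 12) (.leaf 13)) (.node (.leaf 11) (.leaf 9))) (.node (.node (.leaf 13) (.leaf 11)) (.node (.leaf 13) (.leaf 8)))) (.node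 (.node (.node (.leaf 12) (.leaf 15)) (.node (.leaf 13) (.leaf 12))) (.node (.node (.leaf 13) (.leaf 6)) (.node (.leaf 11) (.leaf 12)))))) (.node (.node (.node (.node (.node (.leaf 13) (.leaf 13)) (.node (.leaf 10) (.leaf 14))) (.node (.node (.leaf 10) (.leaf 12)) (.node (.leaf 12) (.leaf 14)))) (.node (.node (.node (.leaf 14) (.leaf 12)) (.node (.leaf 11) (.leaf 14))) (.node (.node (.leaf 14) (.leaf 11)) (.node (.leaf 12) (.leaf 13))))) (.node (.node (.node (.node (.leaf 10) (.leaf 14)) (.node (.leaf 9) (.leaf 9))) (.node (.node (.leaf 9) (.leaf 14)) (.node (.leaf 11) (.leaf 15)))) (.node (.node (.node (.leaf 15) (.leaf 12)) (.node (.leaf 13) (.leaf 12))) (.node (.node (.leaf 11) (.leaf 10)) (.node (.leaf 11) (.leaf 11)))))))) (.node (.node (.node (.node (.node (.node (.node (.node (.leaf 13) (.leaf 9)) (.leaf 13)) (.node (.leaf 14) (.leaf 12))) (.node (.node (.leaf 15) (.leaf 9)) (.node (.leaf 6) (.leaf 8)))) (.node (.node (.node (.leaf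 10) (.leaf 10)) (.node (.leaf 8) (.leaf 9))) (.node (.node (.leaf 7) (.leaf 13)) (.node (.leaf 13) (.leaf 10))))) (.node (.node (.node (.node (.leaf 12) (.leaf 14)) (.node (.leaf 10) (.leaf 14))) (.node (.node (.leaf 12) (.leaf 10)) (.node (.leaf 10) (.leaf 13)))) (.node (.node (.node (.leaf 6) (.leaf 15)) (.node (.leaf 15) (.leaf 11))) (.node (.node (.leaf 13) (.leaf 11)) (.node (.leaf 12) (.leaf 9)))))) (.node (.node (.node (.node (.node (.leaf 14) (.leaf 8)) (.node (.leaf 11) (.leaf 14))) (.node (.node (.leaf 13) (.leaf 9)) (.node (.leaf 8) (.leaf 14)))) (.node (.node (.node (.leaf 12) (.leaf 12)) (.node (.leaf 11) (.leaf 13))) (.node (.node (.leaf 12) (.leaf 12)) (.node (.leaf 13) (.leaf 12))))) (.node (.node (.node (.node (.leaf 12) (.leaf 13)) (.node (.leaf 13) (.leaf 14))) (.node (.node (.leaf 11) (.leaf 13)) (.node (.leaf 14) (.leaf 15)))) (.node (.node (.node (.leaf 14) (.leaf 12)) (.node (.leaf 13) (.leaf 11))) (.node (.node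 (.leaf 9) (.leaf 11)) (.node (.leaf 13) (.leaf 13))))))) (.node (.node (.node (.node (.node (.node (.leaf 13) (.leaf 13)) (.node (.leaf 13) (.leaf 10))) (.node (.node (.leaf 10) (.leaf 8)) (.node (.leaf 14) (.leaf 14)))) (.node (.node (.node (.leaf 15) (.leaf 10)) (.node (.leaf 9) (.leaf 14))) (.node (.node (.leaf 12) (.leaf 11)) (.node (.leaf 14) (.leaf 12))))) (.node (.node (.node (.node (.leaf 13) (.leaf 9)) (.node (.leaf 14) (.leaf 13))) (.node (.node (.leaf 14) (.leaf 15)) (.node (.leaf 13) (.leaf 9)))) (.node (.node (.node (.leaf 11) (.leaf 12)) (.node (.leaf 11) (.leaf 12))) (.node (.node (.leaf 14) (.leaf 13)) (.node (.leaf 7) (.leaf 12)))))) (.node (.node (.node (.node (.node (.leaf 10) (.leaf 12)) (.node (.leaf 14) (.leaf 13))) (.node (.node (.leaf 10) (.leaf 11)) (.node (.leaf 14) (.leaf 8)))) (.node (.node (.node (.leaf 13) (.leaf 12)) (.node (.leaf 12) (.leaf 10))) (.node (.node (.leaf 14) (.leaf 13)) (.node (.leaf 15)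 (.leaf 12))))) (.node (.node (.node (.node (.leaf 14) (.leaf 13)) (.node (.leaf 13) (.leaf 14))) (.node (.node (.leaf 12) (.leaf 14)) (.node (.leaf 11) (.leaf 15)))) (.node (.node (.node (.leaf 11) (.leaf 6)) (.node (.leaf 12) (.leaf 11))) (.node (.node (.leaf 12) (.leaf 12)) (.node (.leaf 12) (.leaf 10)))))))))

/-- Part of `ptDep`. -/
def ptDep1 : Tr := (.node (.node (.node (.node (.node (.node (.node (.node (.node (.leaf 11) (.leaf 13)) (.leaf 10)) (.node (.leaf 10) (.leaf 7))) (.node (.node (.leaf 13) (.leaf 6)) (.node (.leaf 6) (.leaf 13)))) (.node (.node (.node (.leaf 11) (.leaf 8)) (.node (.leaf 13) (.leaf 10))) (.node (.node (.leaf 14) (.leaf 13)) (.node (.leaf 10) (.leaf 14))))) (.node (.node (.node (.node (.leaf 10) (.leaf 8)) (.node (.leaf 10) (.leaf 14))) (.node (.node (.leaf 13) (.leaf 13)) (.node (.leaf 11) (.leaf 14)))) (.node (.node (.node (.leaf 14) (.leaf 11)) (.node (.leaf 6) (.leaf 2))) (.node (.node (.leaf 13) (.leaf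 11)) (.node (.leaf 12) (.leaf 14)))))) (.node (.node (.node (.node (.node (.leaf 15) (.leaf 12)) (.node (.leaf 13) (.leaf 12))) (.node (.node (.leaf 12) (.leaf 11)) (.node (.leaf 12) (.leaf 12)))) (.node (.node (.node (.leaf 4) (.leaf 10)) (.node (.leaf 12) (.leaf 12))) (.node (.node (.leaf 10) (.leaf 14)) (.node (.leaf 11) (.leaf 7))))) (.node (.node (.node (.node (.leaf 15) (.leaf 9)) (.node (.leaf 10) (.leaf 11))) (.node (.node (.leaf 10) (.leaf 15)) (.node (.leaf 12) (.leaf 13)))) (.node (.node (.node (.leaf 12) (.leaf 14)) (.node (.leaf 13) (.leaf 13))) (.node (.node (.leaf 13) (.leaf 6)) (.node (.leaf 4) (.leaf 11))))))) (.node (.node (.node (.node (.node (.node (.leaf 12) (.leaf 5)) (.node (.leaf 10) (.leaf 13))) (.node (.node (.leaf 14) (.leaf 14)) (.node (.leaf 12) (.leaf 8)))) (.node (.node (.node (.leaf 11) (.leaf 13)) (.node (.leaf 8) (.leaf 12))) (.node (.node (.leaf 14) (.leaf 15)) (.node (.leaf 15) (.leaf 13))))) (.node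 (.node (.node (.node (.leaf 7) (.leaf 14)) (.node (.leaf 9) (.leaf 11))) (.node (.node (.leaf 13) (.leaf 8)) (.node (.leaf 13) (.leaf 14)))) (.node (.node (.node (.leaf 14) (.leaf 12)) (.node (.leaf 11) (.leaf 15))) (.node (.node (.leaf 14) (.leaf 8)) (.node (.leaf 12) (.leaf 12)))))) (.node (.node (.node (.node (.node (.leaf 14) (.leaf 15)) (.node (.leaf 9) (.leaf 11))) (.node (.node (.leaf 12) (.leaf 12)) (.node (.leaf 11) (.leaf 11)))) (.node (.node (.node (.leaf 12) (.leaf 13)) (.node (.leaf 7) (.leaf 15))) (.node (.node (.leaf 13) (.leaf 12)) (.node (.leaf 11) (.leaf 13))))) (.node (.node (.node (.node (.leaf 10) (.leaf 14)) (.node (.leaf 12) (.leaf 10))) (.node (.node (.leaf 14) (.leaf 13)) (.node (.leaf 13) (.leaf 14)))) (.node (.node (.node (.leaf 11) (.leaf 12)) (.node (.leaf 15) (.leaf 13))) (.node (.node (.leaf 13) (.leaf 11)) (.node (.leaf 12) (.leaf 11)))))))) (.node (.node (.node (.node (.node (.node (.node (.node (.leaf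 14) (.leaf 8)) (.leaf 12)) (.node (.leaf 14) (.leaf 15))) (.node (.node (.leaf 13) (.leaf 15)) (.node (.leaf 14) (.leaf 15)))) (.node (.node (.node (.leaf 12) (.leaf 14)) (.node (.leaf 13) (.leaf 13))) (.node (.node (.leaf 15) (.leaf 14)) (.node (.leaf 11) (.leaf 7))))) (.node (.node (.node (.node (.leaf 12) (.leaf 13)) (.node (.leaf 6) (.leaf 13))) (.node (.node (.leaf 13) (.leaf 15)) (.node (.leaf 14) (.leaf 5)))) (.node (.node (.node (.leaf 8) (.leaf 13)) (.node (.leaf 6) (.leaf 14))) (.node (.node (.leaf 14) (.leaf 9)) (.node (.leaf 7) (.leaf 9)))))) (.node (.node (.node (.node (.node (.leaf 8) (.leaf 14)) (.node (.leaf 8) (.leaf 11))) (.node (.node (.leaf 14) (.leaf 12)) (.node (.leaf 13) (.leaf 11)))) (.node (.node (.node (.leaf 12) (.leaf 9)) (.node (.leaf 13) (.leaf 13))) (.node (.node (.leaf 6) (.leaf 13)) (.node (.leaf 11) (.leaf 11))))) (.node (.node (.node (.node (.leaf 14) (.leaf 11)) (.node (.leaf 13) (.leaf 15))) (.node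 (.node (.leaf 15) (.leaf 9)) (.node (.leaf 11) (.leaf 14)))) (.node (.node (.node (.leaf 13) (.leaf 13)) (.node (.leaf 11) (.leaf 10))) (.node (.node (.leaf 11) (.leaf 12)) (.node (.leaf 15) (.leaf 11))))))) (.node (.node (.node (.node (.node (.node (.leaf 11) (.leaf 13)) (.node (.leaf 11) (.leaf 10))) (.node (.node (.leaf 11) (.leaf 10)) (.node (.leaf 7) (.leaf 13)))) (.node (.node (.node (.leaf 14) (.leaf 11)) (.node (.leaf 12) (.leaf 13))) (.node (.node (.leaf 11) (.leaf 7)) (.node (.leaf 11) (.leaf 15))))) (.node (.node (.node (.node (.leaf 12) (.leaf 14)) (.node (.leaf 14) (.leaf 13))) (.node (.node (.leaf 12) (.leaf 9)) (.node (.leaf 14) (.leaf 13)))) (.node (.node (.node (.leaf 13) (.leaf 12)) (.node (.leaf 15) (.leaf 15))) (.node (.node (.leaf 13) (.leaf 11)) (.node (.leaf 9) (.leaf 11)))))) (.node (.node (.node (.node (.node (.leaf 14) (.leaf 13)) (.node (.leaf 12) (.leaf 15))) (.node (.node (.leaf 13) (.leaf 14)) (.node (.leaf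 10) (.leaf 10)))) (.node (.node (.node (.leaf 13) (.leaf 14)) (.node (.leaf 7) (.leaf 11))) (.node (.node (.leaf 13) (.leaf 15)) (.node (.leaf 15) (.leaf 12))))) (.node (.node (.node (.node (.leaf 13) (.leaf 13)) (.node (.leaf 13) (.leaf 8))) (.node (.node (.leaf 14) (.leaf 10)) (.node (.leaf 14) (.leaf 12)))) (.node (.node (.node (.leaf 12) (.leaf 13)) (.node (.leaf 15) (.leaf 10))) (.node (.node (.leaf 10) (.leaf 12)) (.node (.leaf 13) (.leaf 11)))))))))

/-- Part of `ptDep`. -/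
def ptDep2 : Tr := (.node (.node (.node (.node (.node (.node (.node (.node (.node (.leaf 16) (.leaf 14)) (.leaf 14)) (.node (.leaf 11) (.leaf 11))) (.node (.node (.leaf 12) (.leaf 14)) (.node (.leaf 8) (.leaf 12)))) (.node (.node (.node (.leaf 5) (.leaf 12)) (.node (.leaf 13) (.leaf 4))) (.node (.node (.leaf 10) (.leaf 13)) (.node (.leaf 10) (.leaf 12))))) (.node (.node (.node (.node (.leaf 12) (.leaf 12)) (.node (.leaf 14) (.leaf 9))) (.node (.node (.leaf 11) (.leaf 14)) (.node (.leaf 11) (.leaf 14)))) (.node (.node (.node (.leaf 11) (.leaf 13)) (.node (.leaf 12) (.leaf 6))) (.node (.node (.leaf 12) (.leaf 10)) (.node (.leaf 15) (.leaf 14)))))) (.node (.node (.node (.node (.node (.leaf 13) (.leaf 15)) (.node (.leaf 15) (.leaf 11))) (.node (.node (.leaf 12) (.leaf 11)) (.node (.leaf 13) (.leaf 13)))) (.node (.node (.node (.leaf 13) (.leaf 13)) (.node (.leaf 11) (.leaf 12))) (.node (.node (.leaf 12) (.leaf 13)) (.node (.leaf 10) (.leaf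 11))))) (.node (.node (.node (.node (.leaf 13) (.leaf 11)) (.node (.leaf 13) (.leaf 10))) (.node (.node (.leaf 15) (.leaf 12)) (.node (.leaf 8) (.leaf 13)))) (.node (.node (.node (.leaf 16) (.leaf 8)) (.node (.leaf 12) (.leaf 12))) (.node (.node (.leaf 12) (.leaf 14)) (.node (.leaf 11) (.leaf 14))))))) (.node (.node (.node (.node (.node (.node (.leaf 10) (.leaf 14)) (.node (.leaf 6) (.leaf 13))) (.node (.node (.leaf 13) (.leaf 13)) (.node (.leaf 15) (.leaf 9)))) (.node (.node (.node (.leaf 13) (.leaf 14)) (.node (.leaf 12) (.leaf 15))) (.node (.node (.leaf 10) (.leaf 9)) (.node (.leaf 13) (.leaf 14))))) (.node (.node (.node (.node (.leaf 9) (.leaf 13)) (.node (.leaf 12) (.leaf 11))) (.node (.node (.leaf 13) (.leaf 10)) (.node (.leaf 12) (.leaf 11)))) (.node (.node (.node (.leaf 13) (.leaf 7)) (.node (.leaf 11) (.leaf 15))) (.node (.node (.leaf 12) (.leaf 7)) (.node (.leaf 11) (.leaf 12)))))) (.node (.node (.node (.node (.node (.leaf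 9) (.leaf 13)) (.node (.leaf 12) (.leaf 12))) (.node (.node (.leaf 11) (.leaf 11)) (.node (.leaf 13) (.leaf 13)))) (.node (.node (.node (.leaf 11) (.leaf 13)) (.node (.leaf 12) (.leaf 13))) (.node (.node (.leaf 11) (.leaf 7)) (.node (.leaf 12) (.leaf 15))))) (.node (.node (.node (.node (.leaf 10) (.leaf 13)) (.node (.leaf 12) (.leaf 12))) (.node (.node (.leaf 11) (.leaf 10)) (.node (.leaf 11) (.leaf 14)))) (.node (.node (.node (.leaf 10) (.leaf 14)) (.node (.leaf 9) (.leaf 12))) (.node (.node (.leaf 12) (.leaf 12)) (.node (.leaf 11) (.leaf 12)))))))) (.node (.node (.node (.node (.node (.node (.node (.leaf 12) (.leaf 9)) (.node (.leaf 14) (.leaf 6))) (.node (.node (.leaf 11) (.leaf 11)) (.node (.leaf 13) (.leaf 11)))) (.node (.node (.node (.leaf 12) (.leaf 14)) (.node (.leaf 15) (.leaf 12))) (.node (.node (.leaf 14) (.leaf 15)) (.node (.leaf 9) (.leaf 13))))) (.node (.node (.node (.node (.leaf 14) (.leaf 11)) (.node (.leaf 12) (.leaf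 8))) (.node (.node (.leaf 15) (.leaf 13)) (.node (.leaf 13) (.leaf 13)))) (.node (.node (.node (.leaf 14) (.leaf 12)) (.node (.leaf 13) (.leaf 9))) (.node (.node (.leaf 14) (.leaf 15)) (.node (.leaf 10) (.leaf 14)))))) (.node (.node (.node (.node (.node (.leaf 15) (.leaf 13)) (.node (.leaf 14) (.leaf 12))) (.node (.node (.leaf 14) (.leaf 8)) (.node (.leaf 15) (.leaf 16)))) (.node (.node (.node (.leaf 15) (.leaf 13)) (.node (.leaf 13) (.leaf 14))) (.node (.node (.leaf 10) (.leaf 11)) (.node (.leaf 11) (.leaf 9))))) (.node (.node (.node (.node (.leaf 12) (.leaf 15)) (.node (.leaf 11) (.leaf 14))) (.node (.node (.leaf 10) (.leaf 10)) (.node (.leaf 8) (.leaf 13)))) (.node (.node (.node (.leaf 14) (.leaf 14)) (.node (.leaf 11) (.leaf 14))) (.node (.node (.leaf 7) (.leaf 14)) (.node (.leaf 11) (.leaf 14))))))) (.node (.node (.node (.node (.node (.node (.leaf 13) (.leaf 14)) (.node (.leaf 11) (.leaf 12))) (.node (.node (.leaf 13) (.leaf 13))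 (.node (.leaf 11) (.leaf 12)))) (.node (.node (.node (.leaf 13) (.leaf 11)) (.node (.leaf 10) (.leaf 11))) (.node (.node (.leaf 12) (.leaf 13)) (.node (.leaf 12) (.leaf 9))))) (.node (.node (.node (.node (.leaf 5) (.leaf 13)) (.node (.leaf 14) (.leaf 9))) (.node (.node (.leaf 11) (.leaf 6)) (.node (.leaf 13) (.leaf 12)))) (.node (.node (.node (.leaf 7) (.leaf 9)) (.node (.leaf 12) (.leaf 8))) (.node (.node (.leaf 13) (.leaf 13)) (.node (.leaf 14) (.leaf 13)))))) (.node (.node (.node (.node (.node (.leaf 13) (.leaf 12)) (.node (.leaf 13) (.leaf 14))) (.node (.node (.leaf 12) (.leaf 5)) (.node (.leaf 10) (.leaf 10)))) (.node (.node (.node (.leaf 11) (.leaf 14)) (.node (.leaf 12) (.leaf 14))) (.node (.node (.leaf 11) (.leaf 13)) (.node (.leaf 15) (.leaf 5))))) (.node (.node (.node (.node (.leaf 15) (.leaf 8)) (.node (.leaf 13) (.leaf 13))) (.node (.node (.leaf 12) (.leaf 11)) (.node (.leaf 13) (.leaf 4)))) (.node (.node (.node (.leaf 13)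 (.leaf 9)) (.node (.leaf 15) (.leaf 15))) (.node (.node (.leaf 15) (.leaf 13)) (.node (.leaf 12) (.leaf 12)))))))))

/-- Part of `ptDep`. -/
def ptDep3 : Tr := (.node (.node (.node (.node (.node (.node (.node (.node (.node (.leaf 12) (.leaf 14)) (.leaf 14)) (.node (.leaf 9) (.leaf 15))) (.node (.node (.leaf 12) (.leaf 7)) (.node (.leaf 7) (.leaf 11)))) (.node (.node (.node (.leaf 11) (.leaf 11)) (.node (.leaf 12) (.leaf 13))) (.node (.node (.leaf 13) (.leaf 13)) (.node (.leaf 12) (.leaf 14))))) (.node (.node (.node (.node (.leaf 14) (.leaf 8)) (.node (.leaf 13) (.leaf 15))) (.node (.node (.leaf 11) (.leaf 11)) (.node (.leaf 11) (.leaf 13)))) (.node (.node (.node (.leaf 13) (.leaf 13)) (.node (.leaf 14) (.leaf 8))) (.node (.node (.leaf 13) (.leaf 12)) (.node (.leaf 14) (.leaf 13)))))) (.node (.node (.node (.node (.node (.leaf 12) (.leaf 13)) (.node (.leaf 12) (.leaf 14))) (.node (.node (.leaf 12) (.leaf 14)) (.node (.leaf 4) (.leaf 12))))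 (.node (.node (.node (.leaf 12) (.leaf 11)) (.node (.leaf 13) (.leaf 11))) (.node (.node (.leaf 10) (.leaf 15)) (.node (.leaf 13) (.leaf 13))))) (.node (.node (.node (.node (.leaf 10) (.leaf 15)) (.node (.leaf 11) (.leaf 15))) (.node (.node (.leaf 12) (.leaf 12)) (.node (.leaf 15) (.leaf 14)))) (.node (.node (.node (.leaf 14) (.leaf 12)) (.node (.leaf 6) (.leaf 9))) (.node (.node (.leaf 12) (.leaf 11)) (.node (.leaf 14) (.leaf 13))))))) (.node (.node (.node (.node (.node (.node (.leaf 7) (.leaf 12)) (.node (.leaf 13) (.leaf 13))) (.node (.node (.leaf 12) (.leaf 12)) (.node (.leaf 9) (.leaf 11)))) (.node (.node (.node (.leaf 14) (.leaf 11)) (.node (.leaf 13) (.leaf 8))) (.node (.node (.leaf 13) (.leaf 13)) (.node (.leaf 13) (.leaf 5))))) (.node (.node (.node (.node (.leaf 16) (.leaf 13)) (.node (.leaf 13) (.leaf 14))) (.node (.node (.leaf 12) (.leaf 12)) (.node (.leaf 8) (.leaf 13)))) (.node (.node (.node (.leaf 13) (.leaf 13)) (.node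 (.leaf 9) (.leaf 15))) (.node (.node (.leaf 12) (.leaf 11)) (.node (.leaf 10) (.leaf 11)))))) (.node (.node (.node (.node (.node (.leaf 15) (.leaf 14)) (.node (.leaf 13) (.leaf 14))) (.node (.node (.leaf 6) (.leaf 12)) (.node (.leaf 8) (.leaf 14)))) (.node (.node (.node (.leaf 14) (.leaf 12)) (.node (.leaf 14) (.leaf 12))) (.node (.node (.leaf 14) (.leaf 14)) (.node (.leaf 12) (.leaf 13))))) (.node (.node (.node (.node (.leaf 13) (.leaf 11)) (.node (.leaf 10) (.leaf 15))) (.node (.node (.leaf 11) (.leaf 11)) (.node (.leaf 12) (.leaf 9)))) (.node (.node (.node (.leaf 13) (.leaf 10)) (.node (.leaf 11) (.leaf 9))) (.node (.node (.leaf 13) (.leaf 13)) (.node (.leaf 12) (.leaf 13)))))))) (.node (.node (.node (.node (.node (.node (.node (.leaf 9) (.leaf 14)) (.node (.leaf 15) (.leaf 15))) (.node (.node (.leaf 12) (.leaf 8)) (.node (.leaf 14) (.leaf 12)))) (.node (.node (.node (.leaf 8) (.leaf 11)) (.node (.leaf 12) (.leaf 8))) (.node (.node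 (.leaf 11) (.leaf 11)) (.node (.leaf 12) (.leaf 12))))) (.node (.node (.node (.node (.leaf 12) (.leaf 10)) (.node (.leaf 13) (.leaf 11))) (.node (.node (.leaf 14) (.leaf 14)) (.node (.leaf 10) (.leaf 11)))) (.node (.node (.node (.leaf 10) (.leaf 11)) (.node (.leaf 15) (.leaf 11))) (.node (.node (.leaf 10) (.leaf 10)) (.node (.leaf 6) (.leaf 14)))))) (.node (.node (.node (.node (.node (.leaf 15) (.leaf 13)) (.node (.leaf 13) (.leaf 10))) (.node (.node (.leaf 10) (.leaf 11)) (.node (.leaf 11) (.leaf 13)))) (.node (.node (.node (.leaf 13) (.leaf 9)) (.node (.leaf 13) (.leaf 13))) (.node (.node (.leaf 11) (.leaf 12)) (.node (.leaf 13) (.leaf 12))))) (.node (.node (.node (.node (.leaf 13) (.leaf 12)) (.node (.leaf 12) (.leaf 14))) (.node (.node (.leaf 13) (.leaf 12)) (.node (.leaf 12) (.leaf 12)))) (.node (.node (.node (.leaf 14) (.leaf 14)) (.node (.leaf 15) (.leaf 11))) (.node (.node (.leaf 14) (.leaf 2)) (.node (.leaf 13) (.leaf 12)))))))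 (.node (.node (.node (.node (.node (.node (.leaf 9) (.leaf 14)) (.node (.leaf 13) (.leaf 13))) (.node (.node (.leaf 5) (.leaf 11)) (.node (.leaf 3) (.leaf 12)))) (.node (.node (.node (.leaf 12) (.leaf 11)) (.node (.leaf 13) (.leaf 12))) (.node (.node (.leaf 13) (.leaf 13)) (.node (.leaf 12) (.leaf 13))))) (.node (.node (.node (.node (.leaf 11) (.leaf 13)) (.node (.leaf 11) (.leaf 15))) (.node (.node (.leaf 13) (.leaf 5)) (.node (.leaf 12) (.leaf 12)))) (.node (.node (.node (.leaf 13) (.leaf 9)) (.node (.leaf 13) (.leaf 9))) (.node (.node (.leaf 8) (.leaf 11)) (.node (.leaf 3) (.leaf 11)))))) (.node (.node (.node (.node (.node (.leaf 11) (.leaf 14)) (.node (.leaf 12) (.leaf 7))) (.node (.node (.leaf 8) (.leaf 15)) (.node (.leaf 11) (.leaf 14)))) (.node (.node (.node (.leaf 15) (.leaf 12)) (.node (.leaf 12) (.leaf 12))) (.node (.node (.leaf 14) (.leaf 16)) (.node (.leaf 12) (.leaf 15))))) (.node (.node (.node (.node (.leaf 13) (.leaf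 10)) (.node (.leaf 12) (.leaf 13))) (.node (.node (.leaf 14) (.leaf 9)) (.node (.leaf 13) (.leaf 14)))) (.node (.node (.node (.leaf 14) (.leaf 13)) (.node (.leaf 8) (.leaf 11))) (.node (.node (.leaf 11) (.leaf 10)) (.node (.leaf 8) (.leaf 12)))))))))

/-- Part of `ptDep`. -/
def ptDep4 : Tr := (.node (.node (.node (.node (.node (.node (.node (.node (.node (.leaf 13) (.leaf 0)) (.leaf 9)) (.node (.leaf 15) (.leaf 11))) (.node (.node (.leaf 15) (.leaf 15)) (.node (.leaf 10) (.leaf 13)))) (.node (.node (.node (.leaf 13) (.leaf 12)) (.node (.leaf 11) (.leaf 11))) (.node (.node (.leaf 13) (.leaf 15)) (.node (.leaf 12) (.leaf 10))))) (.node (.node (.node (.node (.leaf 13) (.leaf 10)) (.node (.leaf 11) (.leaf 15))) (.node (.node (.leaf 12) (.leaf 15)) (.node (.leaf 12) (.leaf 10)))) (.node (.node (.node (.leaf 14) (.leaf 12)) (.node (.leaf 10) (.leaf 12))) (.node (.node (.leaf 12) (.leaf 13)) (.node (.leaf 12) (.leaf 9)))))) (.node (.node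 (.node (.node (.node (.leaf 14) (.leaf 11)) (.node (.leaf 9) (.leaf 14))) (.node (.node (.leaf 8) (.leaf 15)) (.node (.leaf 12) (.leaf 13)))) (.node (.node (.node (.leaf 9) (.leaf 12)) (.node (.leaf 13) (.leaf 14))) (.node (.node (.leaf 11) (.leaf 15)) (.node (.leaf 12) (.leaf 11))))) (.node (.node (.node (.node (.leaf 13) (.leaf 13)) (.node (.leaf 9) (.leaf 12))) (.node (.node (.leaf 13) (.leaf 13)) (.node (.leaf 12) (.leaf 14)))) (.node (.node (.node (.leaf 11) (.leaf 13)) (.node (.leaf 14) (.leaf 12))) (.node (.node (.leaf 13) (.leaf 13)) (.node (.leaf 14) (.leaf 16))))))) (.node (.node (.node (.node (.node (.node (.leaf 11) (.leaf 12)) (.node (.leaf 11) (.leaf 11))) (.node (.node (.leaf 11) (.leaf 14)) (.node (.leaf 10) (.leaf 7)))) (.node (.node (.node (.leaf 12) (.leaf 14)) (.node (.leaf 10) (.leaf 15))) (.node (.node (.leaf 14) (.leaf 13)) (.node (.leaf 11) (.leaf 12))))) (.node (.node (.node (.node (.leaf 14) (.leaf 15)) (.node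 (.leaf 13) (.leaf 12))) (.node (.node (.leaf 12) (.leaf 13)) (.node (.leaf 12) (.leaf 14)))) (.node (.node (.node (.leaf 8) (.leaf 4)) (.node (.leaf 11) (.leaf 14))) (.node (.node (.leaf 12) (.leaf 10)) (.node (.leaf 12) (.leaf 12)))))) (.node (.node (.node (.node (.node (.leaf 12) (.leaf 13)) (.node (.leaf 11) (.leaf 8))) (.node (.node (.leaf 12) (.leaf 11)) (.node (.leaf 11) (.leaf 12)))) (.node (.node (.node (.leaf 9) (.leaf 13)) (.node (.leaf 15) (.leaf 8))) (.node (.node (.leaf 13) (.leaf 13)) (.node (.leaf 15) (.leaf 10))))) (.node (.node (.node (.node (.leaf 14) (.leaf 13)) (.node (.leaf 13) (.leaf 14))) (.node (.node (.leaf 15) (.leaf 15)) (.node (.leaf 14) (.leaf 12)))) (.node (.node (.node (.leaf 11) (.leaf 15)) (.node (.leaf 13) (.leaf 7))) (.node (.node (.leaf 12) (.leaf 13)) (.node (.leaf 12) (.leaf 11)))))))) (.node (.node (.node (.node (.node (.node (.node (.leaf 7) (.leaf 7)) (.node (.leaf 14) (.leaf 11))) (.node (.node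 (.leaf 9) (.leaf 8)) (.node (.leaf 16) (.leaf 13)))) (.node (.node (.node (.leaf 12) (.leaf 10)) (.node (.leaf 13) (.leaf 11))) (.node (.node (.leaf 13) (.leaf 13)) (.node (.leaf 14) (.leaf 10))))) (.node (.node (.node (.node (.leaf 14) (.leaf 14)) (.node (.leaf 13) (.leaf 14))) (.node (.node (.leaf 6) (.leaf 12)) (.node (.leaf 11) (.leaf 14)))) (.node (.node (.node (.leaf 12) (.leaf 12)) (.node (.leaf 13) (.leaf 15))) (.node (.node (.leaf 12) (.leaf 13)) (.node (.leaf 16) (.leaf 12)))))) (.node (.node (.node (.node (.node (.leaf 15) (.leaf 14)) (.node (.leaf 13) (.leaf 10))) (.node (.node (.leaf 11) (.leaf 14)) (.node (.leaf 10) (.leaf 14)))) (.node (.node (.node (.leaf 14) (.leaf 12)) (.node (.leaf 10) (.leaf 12))) (.node (.node (.leaf 11) (.leaf 12)) (.node (.leaf 14) (.leaf 14))))) (.node (.node (.node (.node (.leaf 13) (.leaf 14)) (.node (.leaf 15) (.leaf 7))) (.node (.node (.leaf 13) (.leaf 14)) (.node (.leaf 14) (.leaf 14))))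 (.node (.node (.node (.leaf 8) (.leaf 14)) (.node (.leaf 13) (.leaf 7))) (.node (.node (.leaf 13) (.leaf 15)) (.node (.leaf 9) (.leaf 12))))))) (.node (.node (.node (.node (.node (.node (.leaf 12) (.leaf 12)) (.node (.leaf 12) (.leaf 12))) (.node (.node (.leaf 13) (.leaf 10)) (.node (.leaf 8) (.leaf 10)))) (.node (.node (.node (.leaf 11) (.leaf 10)) (.node (.leaf 12) (.leaf 8))) (.node (.node (.leaf 15) (.leaf 9)) (.node (.leaf 11) (.leaf 15))))) (.node (.node (.node (.node (.leaf 13) (.leaf 11)) (.node (.leaf 12) (.leaf 13))) (.node (.node (.leaf 13) (.leaf 15)) (.node (.leaf 10) (.leaf 10)))) (.node (.node (.node (.leaf 12) (.leaf 14)) (.node (.leaf 14) (.leaf 15))) (.node (.node (.leaf 15) (.leaf 16)) (.node (.leaf 12) (.leaf 12)))))) (.node (.node (.node (.node (.node (.leaf 9) (.leaf 12)) (.node (.leaf 10) (.leaf 10))) (.node (.node (.leaf 13) (.leaf 13)) (.node (.leaf 12) (.leaf 12)))) (.node (.node (.node (.leaf 3) (.leaf 12))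 (.node (.leaf 11) (.leaf 12))) (.node (.node (.leaf 14) (.leaf 14)) (.node (.leaf 13) (.leaf 15))))) (.node (.node (.node (.node (.leaf 13) (.leaf 9)) (.node (.leaf 12) (.leaf 12))) (.node (.node (.leaf 13) (.leaf 15)) (.node (.leaf 10) (.leaf 14)))) (.node (.node (.node (.leaf 10) (.leaf 13)) (.node (.leaf 9) (.leaf 13))) (.node (.node (.leaf 7) (.leaf 13)) (.node (.leaf 14) (.leaf 12)))))))))

/-- Part of `ptDep`. -/
def ptDep5 : Tr := (.node (.node (.node (.node (.node (.node (.node (.node (.node (.leaf 9) (.leaf 9)) (.leaf 12)) (.node (.leaf 6) (.leaf 14))) (.node (.node (.leaf 11) (.leaf 14)) (.node (.leaf 13) (.leaf 12)))) (.node (.node (.node (.leaf 10) (.leaf 10)) (.node (.leaf 16) (.leaf 13))) (.node (.node (.leaf 10) (.leaf 13)) (.node (.leaf 11) (.leaf 12))))) (.node (.node (.node (.node (.leaf 13) (.leaf 12)) (.node (.leaf 12) (.leaf 14))) (.node (.node (.leaf 10) (.leaf 13)) (.node (.leaf 14) (.leaf 13)))) (.node (.node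 (.node (.leaf 9) (.leaf 13)) (.node (.leaf 13) (.leaf 15))) (.node (.node (.leaf 9) (.leaf 13)) (.node (.leaf 15) (.leaf 11)))))) (.node (.node (.node (.node (.node (.leaf 10) (.leaf 11)) (.node (.leaf 14) (.leaf 12))) (.node (.node (.leaf 14) (.leaf 12)) (.node (.leaf 11) (.leaf 13)))) (.node (.node (.node (.leaf 14) (.leaf 10)) (.node (.leaf 9) (.leaf 13))) (.node (.node (.leaf 13) (.leaf 9)) (.node (.leaf 14) (.leaf 14))))) (.node (.node (.node (.node (.leaf 12) (.leaf 12)) (.node (.leaf 14) (.leaf 12))) (.node (.node (.leaf 11) (.leaf 7)) (.node (.leaf 12) (.leaf 16)))) (.node (.node (.node (.leaf 10) (.leaf 12)) (.node (.leaf 14) (.leaf 15))) (.node (.node (.leaf 9) (.leaf 12)) (.node (.leaf 13) (.leaf 14))))))) (.node (.node (.node (.node (.node (.node (.leaf 15) (.leaf 10)) (.node (.leaf 14) (.leaf 11))) (.node (.node (.leaf 11) (.leaf 14)) (.node (.leaf 12) (.leaf 15)))) (.node (.node (.node (.leaf 14) (.leaf 14)) (.node (.leaf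 13) (.leaf 16))) (.node (.node (.leaf 15) (.leaf 13)) (.node (.leaf 10) (.leaf 12))))) (.node (.node (.node (.node (.leaf 11) (.leaf 14)) (.node (.leaf 13) (.leaf 13))) (.node (.node (.leaf 8) (.leaf 14)) (.node (.leaf 14) (.leaf 11)))) (.node (.node (.node (.leaf 11) (.leaf 14)) (.node (.leaf 14) (.leaf 15))) (.node (.node (.leaf 14) (.leaf 12)) (.node (.leaf 10) (.leaf 12)))))) (.node (.node (.node (.node (.node (.leaf 8) (.leaf 1)) (.node (.leaf 15) (.leaf 8))) (.node (.node (.leaf 12) (.leaf 12)) (.node (.leaf 15) (.leaf 14)))) (.node (.node (.node (.leaf 13) (.leaf 12)) (.node (.leaf 13) (.leaf 5))) (.node (.node (.leaf 13) (.leaf 10)) (.node (.leaf 12) (.leaf 10))))) (.node (.node (.node (.node (.leaf 12) (.leaf 14)) (.node (.leaf 11) (.leaf 13))) (.node (.node (.leaf 7) (.leaf 12)) (.node (.leaf 13) (.leaf 13)))) (.node (.node (.node (.leaf 13) (.leaf 7)) (.node (.leaf 9) (.leaf 12))) (.node (.node (.leaf 12) (.leaf 13)) (.node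 (.leaf 14) (.leaf 12)))))))) (.node (.node (.node (.node (.node (.node (.node (.leaf 11) (.leaf 14)) (.node (.leaf 13) (.leaf 13))) (.node (.node (.leaf 11) (.leaf 14)) (.node (.leaf 14) (.leaf 12)))) (.node (.node (.node (.leaf 14) (.leaf 15)) (.node (.leaf 11) (.leaf 15))) (.node (.node (.leaf 11) (.leaf 14)) (.node (.leaf 12) (.leaf 11))))) (.node (.node (.node (.node (.leaf 8) (.leaf 15)) (.node (.leaf 12) (.leaf 12))) (.node (.node (.leaf 15) (.leaf 12)) (.node (.leaf 12) (.leaf 12)))) (.node (.node (.node (.leaf 15) (.leaf 10)) (.node (.leaf 11) (.leaf 14))) (.node (.node (.leaf 12) (.leaf 10)) (.node (.leaf 13) (.leaf 14)))))) (.node (.node (.node (.node (.node (.leaf 9) (.leaf 6)) (.node (.leaf 11) (.leaf 13))) (.node (.node (.leaf 11) (.leaf 11)) (.node (.leaf 12) (.leaf 12)))) (.node (.node (.node (.leaf 14) (.leaf 9)) (.node (.leaf 14) (.leaf 6))) (.node (.node (.leaf 9) (.leaf 14)) (.node (.leaf 11) (.leaf 12))))) (.node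 (.node (.node (.node (.leaf 13) (.leaf 11)) (.node (.leaf 10) (.leaf 13))) (.node (.node (.leaf 7) (.leaf 14)) (.node (.leaf 8) (.leaf 12)))) (.node (.node (.node (.leaf 8) (.leaf 13)) (.node (.leaf 14) (.leaf 10))) (.node (.node (.leaf 13) (.leaf 11)) (.node (.leaf 13) (.leaf 11))))))) (.node (.node (.node (.node (.node (.node (.leaf 11) (.leaf 14)) (.node (.leaf 12) (.leaf 11))) (.node (.node (.leaf 14) (.leaf 14)) (.node (.leaf 15) (.leaf 12)))) (.node (.node (.node (.leaf 13) (.leaf 10)) (.node (.leaf 13) (.leaf 15))) (.node (.node (.leaf 12) (.leaf 11)) (.node (.leaf 14) (.leaf 13))))) (.node (.node (.node (.node (.leaf 13) (.leaf 12)) (.node (.leaf 11) (.leaf 11))) (.node (.node (.leaf 11) (.leaf 13)) (.node (.leaf 12) (.leaf 12)))) (.node (.node (.node (.leaf 12) (.leaf 5)) (.node (.leaf 10) (.leaf 4))) (.node (.node (.leaf 12) (.leaf 12)) (.node (.leaf 14) (.leaf 9)))))) (.node (.node (.node (.node (.node (.leaf 15) (.leaf 14))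 (.node (.leaf 11) (.leaf 13))) (.node (.node (.leaf 15) (.leaf 14)) (.node (.leaf 10) (.leaf 11)))) (.node (.node (.node (.leaf 11) (.leaf 12)) (.node (.leaf 11) (.leaf 13))) (.node (.node (.leaf 15) (.leaf 9)) (.node (.leaf 13) (.leaf 14))))) (.node (.node (.node (.node (.leaf 13) (.leaf 12)) (.node (.leaf 11) (.leaf 13))) (.node (.node (.leaf 15) (.leaf 13)) (.node (.leaf 13) (.leaf 12)))) (.node (.node (.node (.leaf 13) (.leaf 12)) (.node (.leaf 13) (.leaf 12))) (.node (.node (.leaf 15) (.leaf 13)) (.node (.leaf 12) (.leaf 11)))))))))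

/-- Part of `ptDep`. -/
def ptDep6 : Tr := (.node (.node (.node (.node (.node (.node (.node (.node (.node (.leaf 13) (.leaf 7)) (.leaf 11)) (.node (.leaf 14) (.leaf 11))) (.node (.node (.leaf 12) (.leaf 14)) (.node (.leaf 10) (.leaf 10)))) (.node (.node (.node (.leaf 13) (.leaf 12)) (.node (.leaf 6) (.leaf 12))) (.node (.node (.leaf 10) (.leaf 12)) (.node (.leaf 8) (.leaf 14))))) (.node (.node (.node (.node (.leaf 15) (.leaf 14)) (.node (.leaf 3) (.leaf 7))) (.node (.node (.leaf 14) (.leaf 14)) (.node (.leaf 12) (.leaf 11)))) (.node (.node (.node (.leaf 11) (.leaf 14)) (.node (.leaf 12) (.leaf 13))) (.node (.node (.leaf 15) (.leaf 12)) (.node (.leaf 14) (.leaf 16)))))) (.node (.node (.node (.node (.node (.leaf 13) (.leaf 11)) (.node (.leaf 15) (.leaf 11))) (.node (.node (.leaf 14) (.leaf 13)) (.node (.leaf 11) (.leaf 12)))) (.node (.node (.node (.leaf 14) (.leaf 10)) (.node (.leaf 8) (.leaf 11))) (.node (.node (.leaf 12) (.leaf 4))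 (.node (.leaf 13) (.leaf 13))))) (.node (.node (.node (.node (.leaf 14) (.leaf 15)) (.node (.leaf 11) (.leaf 14))) (.node (.node (.leaf 14) (.leaf 12)) (.node (.leaf 10) (.leaf 14)))) (.node (.node (.node (.leaf 12) (.leaf 10)) (.node (.leaf 15) (.leaf 12))) (.node (.node (.leaf 13) (.leaf 9)) (.node (.leaf 3) (.leaf 13))))))) (.node (.node (.node (.node (.node (.node (.leaf 13) (.leaf 14)) (.node (.leaf 10) (.leaf 12))) (.node (.node (.leaf 13) (.leaf 14)) (.node (.leaf 11) (.leaf 13)))) (.node (.node (.node (.leaf 13) (.leaf 14)) (.node (.leaf 12) (.leaf 13))) (.node (.node (.leaf 11) (.leaf 11)) (.node (.leaf 10) (.leaf 14))))) (.node (.node (.node (.node (.leaf 15) (.leaf 10)) (.node (.leaf 12) (.leaf 13))) (.node (.node (.leaf 15) (.leaf 14)) (.node (.leaf 14) (.leaf 15)))) (.node (.node (.node (.leaf 10) (.leaf 13)) (.node (.leaf 12) (.leaf 8))) (.node (.node (.leaf 10) (.leaf 9)) (.node (.leaf 14) (.leaf 13)))))) (.node (.node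 (.node (.node (.node (.leaf 11) (.leaf 6)) (.node (.leaf 13) (.leaf 12))) (.node (.node (.leaf 13) (.leaf 13)) (.node (.leaf 12) (.leaf 14)))) (.node (.node (.node (.leaf 14) (.leaf 14)) (.node (.leaf 15) (.leaf 14))) (.node (.node (.leaf 16) (.leaf 11)) (.node (.leaf 12) (.leaf 7))))) (.node (.node (.node (.node (.leaf 11) (.leaf 9)) (.node (.leaf 12) (.leaf 14))) (.node (.node (.leaf 8) (.leaf 15)) (.node (.leaf 13) (.leaf 15)))) (.node (.node (.node (.leaf 13) (.leaf 13)) (.node (.leaf 12) (.leaf 10))) (.node (.node (.leaf 11) (.leaf 12)) (.node (.leaf 14) (.leaf 13)))))))) (.node (.node (.node (.node (.node (.node (.node (.leaf 14) (.leaf 11)) (.node (.leaf 7) (.leaf 14))) (.node (.node (.leaf 13) (.leaf 13)) (.node (.leaf 10) (.leaf 8)))) (.node (.node (.node (.leaf 10) (.leaf 10)) (.node (.leaf 4) (.leaf 13))) (.node (.node (.leaf 13) (.leaf 13)) (.node (.leaf 9) (.leaf 12))))) (.node (.node (.node (.node (.leaf 12) (.leaf 13))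 (.node (.leaf 14) (.leaf 10))) (.node (.node (.leaf 15) (.leaf 13)) (.node (.leaf 13) (.leaf 11)))) (.node (.node (.node (.leaf 10) (.leaf 13)) (.node (.leaf 7) (.leaf 10))) (.node (.node (.leaf 14) (.leaf 13)) (.node (.leaf 14) (.leaf 9)))))) (.node (.node (.node (.node (.node (.leaf 13) (.leaf 13)) (.node (.leaf 11) (.leaf 12))) (.node (.node (.leaf 14) (.leaf 11)) (.node (.leaf 14) (.leaf 14)))) (.node (.node (.node (.leaf 11) (.leaf 13)) (.node (.leaf 9) (.leaf 10))) (.node (.node (.leaf 13) (.leaf 12)) (.node (.leaf 7) (.leaf 14))))) (.node (.node (.node (.node (.leaf 11) (.leaf 15)) (.node (.leaf 10) (.leaf 14))) (.node (.node (.leaf 10) (.leaf 7)) (.node (.leaf 11) (.leaf 11)))) (.node (.node (.node (.leaf 14) (.leaf 13)) (.node (.leaf 12) (.leaf 11))) (.node (.node (.leaf 8) (.leaf 13)) (.node (.leaf 10) (.leaf 12))))))) (.node (.node (.node (.node (.node (.node (.leaf 15) (.leaf 10)) (.node (.leaf 12) (.leaf 12))) (.node (.node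 (.leaf 11) (.leaf 11)) (.node (.leaf 14) (.leaf 12)))) (.node (.node (.node (.leaf 11) (.leaf 12)) (.node (.leaf 2) (.leaf 10))) (.node (.node (.leaf 13) (.leaf 6)) (.node (.leaf 14) (.leaf 5))))) (.node (.node (.node (.node (.leaf 9) (.leaf 15)) (.node (.leaf 12) (.leaf 13))) (.node (.node (.leaf 11) (.leaf 13)) (.node (.leaf 11) (.leaf 15)))) (.node (.node (.node (.leaf 15) (.leaf 11)) (.node (.leaf 11) (.leaf 11))) (.node (.node (.leaf 13) (.leaf 13)) (.node (.leaf 14) (.leaf 13)))))) (.node (.node (.node (.node (.node (.leaf 13) (.leaf 7)) (.node (.leaf 16) (.leaf 7))) (.node (.node (.leaf 12) (.leaf 10)) (.node (.leaf 14) (.leaf 11)))) (.node (.node (.node (.leaf 13) (.leaf 12)) (.node (.leaf 13) (.leaf 14))) (.node (.node (.leaf 13) (.leaf 12)) (.node (.leaf 10) (.leaf 13))))) (.node (.node (.node (.node (.leaf 12) (.leaf 14)) (.node (.leaf 12) (.leaf 13))) (.node (.node (.leaf 10) (.leaf 13)) (.node (.leaf 13) (.leaf 13)))) (.node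 (.node (.node (.leaf 10) (.leaf 13)) (.node (.leaf 14) (.leaf 12))) (.node (.node (.leaf 15) (.leaf 13)) (.node (.leaf 9) (.leaf 13)))))))))

/-- Part of `ptDep`. -/
def ptDep7 : Tr := (.node (.node (.node (.node (.node (.node (.node (.node (.node (.leaf 13) (.leaf 9)) (.leaf 15)) (.node (.leaf 12) (.leaf 12))) (.node (.node (.leaf 9) (.leaf 10)) (.node (.leaf 8) (.leaf 11)))) (.node (.node (.node (.leaf 14) (.leaf 13)) (.node (.leaf 15) (.leaf 10))) (.node (.node (.leaf 13) (.leaf 11)) (.node (.leaf 13) (.leaf 8))))) (.node (.node (.node (.node (.leaf 10) (.leaf 12)) (.node (.leaf 14) (.leaf 7))) (.node (.node (.leaf 11) (.leaf 9)) (.node (.leaf 12) (.leaf 13)))) (.node (.node (.node (.leaf 7) (.leaf 14)) (.node (.leaf 14) (.leaf 11))) (.node (.node (.leaf 14) (.leaf 13)) (.node (.leaf 12) (.leaf 5)))))) (.node (.node (.node (.node (.node (.leaf 13) (.leaf 14)) (.node (.leaf 11) (.leaf 12))) (.node (.node (.leaf 10) (.leaf 9)) (.node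 (.leaf 10) (.leaf 14)))) (.node (.node (.node (.leaf 13) (.leaf 9)) (.node (.leaf 5) (.leaf 11))) (.node (.node (.leaf 14) (.leaf 11)) (.node (.leaf 10) (.leaf 13))))) (.node (.node (.node (.node (.leaf 13) (.leaf 12)) (.node (.leaf 8) (.leaf 5))) (.node (.node (.leaf 11) (.leaf 13)) (.node (.leaf 11) (.leaf 12)))) (.node (.node (.node (.leaf 12) (.leaf 7)) (.node (.leaf 12) (.leaf 12))) (.node (.node (.leaf 12) (.leaf 8)) (.node (.leaf 16) (.leaf 14))))))) (.node (.node (.node (.node (.node (.node (.leaf 9) (.leaf 13)) (.node (.leaf 11) (.leaf 12))) (.node (.node (.leaf 14) (.leaf 14)) (.node (.leaf 14) (.leaf 7)))) (.node (.node (.node (.leaf 7) (.leaf 12)) (.node (.leaf 13) (.leaf 13))) (.node (.node (.leaf 12) (.leaf 7)) (.node (.leaf 12) (.leaf 14))))) (.node (.node (.node (.node (.leaf 10) (.leaf 14)) (.node (.leaf 12) (.leaf 13))) (.node (.node (.leaf 8) (.leaf 12)) (.node (.leaf 16) (.leaf 9)))) (.node (.node (.node (.leaf 12)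 (.leaf 13)) (.node (.leaf 14) (.leaf 13))) (.node (.node (.leaf 14) (.leaf 11)) (.node (.leaf 14) (.leaf 4)))))) (.node (.node (.node (.node (.node (.leaf 12) (.leaf 15)) (.node (.leaf 14) (.leaf 14))) (.node (.node (.leaf 13) (.leaf 11)) (.node (.leaf 15) (.leaf 3)))) (.node (.node (.node (.leaf 13) (.leaf 12)) (.node (.leaf 14) (.leaf 15))) (.node (.node (.leaf 14) (.leaf 14)) (.node (.leaf 12) (.leaf 6))))) (.node (.node (.node (.node (.leaf 13) (.leaf 6)) (.node (.leaf 14) (.leaf 12))) (.node (.node (.leaf 15) (.leaf 8)) (.node (.leaf 15) (.leaf 12)))) (.node (.node (.node (.leaf 12) (.leaf 14)) (.node (.leaf 11) (.leaf 8))) (.node (.node (.leaf 10) (.leaf 12)) (.node (.leaf 14) (.leaf 12)))))))) (.node (.node (.node (.node (.node (.node (.node (.leaf 14) (.leaf 15)) (.node (.leaf 12) (.leaf 9))) (.node (.node (.leaf 14) (.leaf 14)) (.node (.leaf 9) (.leaf 15)))) (.node (.node (.node (.leaf 11) (.leaf 5)) (.node (.leaf 12) (.leaf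 15))) (.node (.node (.leaf 13) (.leaf 13)) (.node (.leaf 14) (.leaf 12))))) (.node (.node (.node (.node (.leaf 12) (.leaf 8)) (.node (.leaf 14) (.leaf 9))) (.node (.node (.leaf 11) (.leaf 13)) (.node (.leaf 15) (.leaf 11)))) (.node (.node (.node (.leaf 10) (.leaf 16)) (.node (.leaf 13) (.leaf 13))) (.node (.node (.leaf 9) (.leaf 13)) (.node (.leaf 15) (.leaf 12)))))) (.node (.node (.node (.node (.node (.leaf 13) (.leaf 14)) (.node (.leaf 9) (.leaf 14))) (.node (.node (.leaf 15) (.leaf 8)) (.node (.leaf 11) (.leaf 13)))) (.node (.node (.node (.leaf 14) (.leaf 11)) (.node (.leaf 15) (.leaf 15))) (.node (.node (.leaf 12) (.leaf 10)) (.node (.leaf 11) (.leaf 12))))) (.node (.node (.node (.node (.leaf 12) (.leaf 13)) (.node (.leaf 12) (.leaf 14))) (.node (.node (.leaf 11) (.leaf 11)) (.node (.leaf 16) (.leaf 11)))) (.node (.node (.node (.leaf 10) (.leaf 14)) (.node (.leaf 12) (.leaf 12))) (.node (.node (.leaf 13) (.leaf 12)) (.node (.leaf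 12) (.leaf 14))))))) (.node (.node (.node (.node (.node (.node (.leaf 10) (.leaf 14)) (.node (.leaf 1) (.leaf 11))) (.node (.node (.leaf 11) (.leaf 10)) (.node (.leaf 8) (.leaf 14)))) (.node (.node (.node (.leaf 12) (.leaf 9)) (.node (.leaf 11) (.leaf 12))) (.node (.node (.leaf 14) (.leaf 15)) (.node (.leaf 12) (.leaf 15))))) (.node (.node (.node (.node (.leaf 11) (.leaf 13)) (.node (.leaf 5) (.leaf 11))) (.node (.node (.leaf 13) (.leaf 9)) (.node (.leaf 9) (.leaf 13)))) (.node (.node (.node (.leaf 9) (.leaf 9)) (.node (.leaf 11) (.leaf 12))) (.node (.node (.leaf 11) (.leaf 11)) (.node (.leaf 14) (.leaf 11)))))) (.node (.node (.node (.node (.node (.leaf 16) (.leaf 12)) (.node (.leaf 14) (.leaf 6))) (.node (.node (.leaf 7) (.leaf 11)) (.node (.leaf 9) (.leaf 14)))) (.node (.node (.node (.leaf 16) (.leaf 8)) (.node (.leaf 13) (.leaf 13))) (.node (.node (.leaf 14) (.leaf 14)) (.node (.leaf 12) (.leaf 11))))) (.node (.node (.node (.node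 (.leaf 11) (.leaf 11)) (.node (.leaf 14) (.leaf 14))) (.node (.node (.leaf 12) (.leaf 14)) (.node (.leaf 13) (.leaf 14)))) (.node (.node (.node (.leaf 9) (.leaf 13)) (.node (.leaf 12) (.leaf 11))) (.node (.node (.leaf 14) (.leaf 12)) (.node (.leaf 12) (.leaf 15)))))))))

/-- Distances. -/
def ptDep : Tr := (.node (.node (.node ptDep0 ptDep4) (.node ptDep2 ptDep6)) (.node (.node ptDep1 ptDep5) (.node ptDep3 ptDep7)))

/-- Part of `ptImg`. -/
def ptImg0 : Tr := (.node (.node (.node (.node (.node (.node (.node (.node (.node (.node (.node (.leaf 198) (.leaf 1170)) (.node (.leaf 718) (.leaf 114))) (.node (.node (.leaf 718) (.leaf 1474)) (.node (.leaf 1644) (.leaf 445)))) (.node (.node (.node (.leaf 1127) (.leaf 222)) (.node (.leaf 364) (.leaf 944))) (.node (.node (.leaf 1685) (.leaf 116)) (.leaf 105)))) (.node (.node (.node (.node (.leaf 1573) (.leaf 553)) (.node (.leaf 2009) (.leaf 1131))) (.node (.node (.leaf 1730) (.leaf 116)) (.leaf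 427))) (.node (.node (.node (.leaf 632) (.leaf 1900)) (.node (.leaf 507) (.leaf 1772))) (.node (.node (.leaf 1792) (.leaf 1039)) (.leaf 1113))))) (.node (.node (.node (.node (.node (.leaf 1813) (.leaf 649)) (.node (.leaf 23) (.leaf 512))) (.node (.node (.leaf 2019) (.leaf 1742)) (.leaf 451))) (.node (.node (.node (.leaf 509) (.leaf 1170)) (.node (.leaf 937) (.leaf 1073))) (.node (.node (.leaf 1988) (.leaf 1109)) (.leaf 1527)))) (.node (.node (.node (.node (.leaf 2004) (.leaf 649)) (.node (.leaf 1165) (.leaf 530))) (.node (.node (.leaf 1193) (.leaf 1904)) (.leaf 987))) (.node (.node (.node (.leaf 1859) (.leaf 113)) (.node (.leaf 1428) (.leaf 483))) (.node (.node (.leaf 1034) (.leaf 1547)) (.leaf 958)))))) (.node (.node (.node (.node (.node (.node (.leaf 2053) (.leaf 1790)) (.node (.leaf 1732) (.leaf 1870))) (.node (.node (.leaf 1911) (.leaf 1671)) (.leaf 2046))) (.node (.node (.node (.leaf 1880) (.leaf 951)) (.node (.leaf 954) (.leaf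 1014))) (.node (.node (.leaf 152) (.leaf 725)) (.leaf 887)))) (.node (.node (.node (.node (.leaf 1691) (.leaf 1857)) (.node (.leaf 74) (.leaf 1625))) (.node (.node (.leaf 845) (.leaf 49)) (.leaf 799))) (.node (.node (.node (.leaf 237) (.leaf 627)) (.node (.leaf 1861) (.leaf 1993))) (.node (.node (.leaf 530) (.leaf 234)) (.leaf 416))))) (.node (.node (.node (.node (.node (.leaf 2009) (.leaf 1706)) (.node (.leaf 1775) (.leaf 1147))) (.node (.node (.leaf 1172) (.leaf 1575)) (.leaf 943))) (.node (.node (.node (.leaf 1510) (.leaf 585)) (.node (.leaf 786) (.leaf 1314))) (.node (.node (.leaf 1967) (.leaf 1505)) (.leaf 1458)))) (.node (.node (.node (.node (.leaf 37) (.leaf 1298)) (.node (.leaf 1371) (.leaf 1883))) (.node (.node (.leaf 1819) (.leaf 1473)) (.leaf 555))) (.node (.node (.node (.leaf 2037) (.leaf 480)) (.node (.leaf 1686) (.leaf 1008))) (.node (.node (.leaf 482) (.leaf 659)) (.leaf 893))))))) (.node (.node (.node (.node (.node (.node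 (.node (.leaf 1980) (.leaf 1932)) (.node (.leaf 1777) (.leaf 1331))) (.node (.node (.leaf 1333) (.leaf 1190)) (.node (.leaf 1057) (.leaf 1606)))) (.node (.node (.node (.leaf 1325) (.leaf 460)) (.node (.leaf 546) (.leaf 302))) (.node (.node (.leaf 716) (.leaf 1620)) (.leaf 1867)))) (.node (.node (.node (.node (.leaf 1692) (.leaf 1072)) (.node (.leaf 273) (.leaf 1947))) (.node (.node (.leaf 1064) (.leaf 1545)) (.leaf 228))) (.node (.node (.node (.leaf 1577) (.leaf 550)) (.node (.leaf 1451) (.leaf 1638))) (.node (.node (.leaf 449) (.leaf 91)) (.leaf 1053))))) (.node (.node (.node (.node (.node (.leaf 1242) (.leaf 357)) (.node (.leaf 1179) (.leaf 480))) (.node (.node (.leaf 1427) (.leaf 1643)) (.leaf 321))) (.node (.node (.node (.leaf 683) (.leaf 815)) (.node (.leaf 1745) (.leaf 579))) (.node (.node (.leaf 1383) (.leaf 761)) (.leaf 283)))) (.node (.node (.node (.node (.leaf 304) (.leaf 691)) (.node (.leaf 1047) (.leaf 1520))) (.node (.node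 (.leaf 1571) (.leaf 103)) (.leaf 523))) (.node (.node (.node (.leaf 1852) (.leaf 659)) (.node (.leaf 427) (.leaf 855))) (.node (.node (.leaf 470) (.leaf 1728)) (.leaf 1352)))))) (.node (.node (.node (.node (.node (.node (.leaf 1520) (.leaf 1147)) (.node (.leaf 1483) (.leaf 1763))) (.node (.node (.leaf 1784) (.leaf 1490)) (.leaf 905))) (.node (.node (.node (.leaf 303) (.leaf 1808)) (.node (.leaf 939) (.leaf 1731))) (.node (.node (.leaf 1131) (.leaf 1349)) (.leaf 436)))) (.node (.node (.node (.node (.leaf 166) (.leaf 1922)) (.node (.leaf 152) (.leaf 1340))) (.node (.node (.leaf 1748) (.leaf 1563)) (.leaf 156))) (.node (.node (.node (.leaf 1901) (.leaf 209)) (.node (.leaf 755) (.leaf 1002))) (.node (.node (.leaf 968) (.leaf 1709)) (.leaf 1680))))) (.node (.node (.node (.node (.node (.leaf 1346) (.leaf 77)) (.node (.leaf 1892) (.leaf 380))) (.node (.node (.leaf 47) (.leaf 66)) (.leaf 577))) (.node (.node (.node (.leaf 699) (.leaf 1751))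 (.node (.leaf 1729) (.leaf 1018))) (.node (.node (.leaf 228) (.leaf 662)) (.leaf 304)))) (.node (.node (.node (.node (.leaf 137) (.leaf 1)) (.node (.leaf 1837) (.leaf 1232))) (.node (.node (.leaf 2057) (.leaf 1017)) (.leaf 1377))) (.node (.node (.node (.leaf 1236) (.leaf 1340)) (.node (.leaf 85) (.leaf 1653))) (.node (.node (.leaf 591) (.leaf 67)) (.leaf 21)))))))) (.node (.node (.node (.node (.node (.node (.node (.node (.leaf 661) (.leaf 687)) (.node (.leaf 134) (.leaf 523))) (.node (.node (.leaf 170) (.leaf 694)) (.node (.leaf 1155) (.leaf 2052)))) (.node (.node (.node (.leaf 1090) (.leaf 1925)) (.node (.leaf 1936) (.leaf 647))) (.node (.node (.leaf 361) (.leaf 1611)) (.leaf 860)))) (.node (.node (.node (.node (.leaf 319) (.leaf 1037)) (.node (.leaf 181) (.leaf 2039))) (.node (.node (.leaf 370) (.leaf 1901)) (.leaf 1334))) (.node (.node (.node (.leaf 1125) (.leaf 327)) (.node (.leaf 1529) (.leaf 574))) (.node (.node (.leaf 725) (.leaf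 900)) (.leaf 432))))) (.node (.node (.node (.node (.node (.leaf 1992) (.leaf 1144)) (.node (.leaf 1402) (.leaf 1534))) (.node (.node (.leaf 1042) (.leaf 1849)) (.leaf 1699))) (.node (.node (.node (.leaf 2) (.leaf 924)) (.node (.leaf 485) (.leaf 1828))) (.node (.node (.leaf 1001) (.leaf 1354)) (.leaf 1165)))) (.node (.node (.node (.node (.leaf 1151) (.leaf 1943)) (.node (.leaf 1899) (.leaf 894))) (.node (.node (.leaf 267) (.leaf 1560)) (.leaf 205))) (.node (.node (.node (.leaf 1635) (.leaf 1791)) (.node (.leaf 1569) (.leaf 2016))) (.node (.node (.leaf 429) (.leaf 1826)) (.leaf 934)))))) (.node (.node (.node (.node (.node (.node (.leaf 2006) (.leaf 1809)) (.node (.leaf 1119) (.leaf 1585))) (.node (.node (.leaf 2056) (.leaf 960)) (.leaf 2022))) (.node (.node (.node (.leaf 287) (.leaf 153)) (.node (.leaf 1092) (.leaf 479))) (.node (.node (.leaf 296) (.leaf 214)) (.leaf 973)))) (.node (.node (.node (.node (.leaf 311) (.leaf 695)) (.node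 (.leaf 555) (.leaf 448))) (.node (.node (.leaf 814) (.leaf 85)) (.leaf 1597))) (.node (.node (.node (.leaf 241) (.leaf 1467)) (.node (.leaf 1057) (.leaf 1619))) (.node (.node (.leaf 534) (.leaf 1700)) (.leaf 1743))))) (.node (.node (.node (.node (.node (.leaf 1192) (.leaf 252)) (.node (.leaf 459) (.leaf 1955))) (.node (.node (.leaf 1156) (.leaf 1522)) (.leaf 815))) (.node (.node (.node (.leaf 1638) (.leaf 1794)) (.node (.leaf 2041) (.leaf 1394))) (.node (.node (.leaf 507) (.leaf 825)) (.leaf 576)))) (.node (.node (.node (.node (.leaf 583) (.leaf 1713)) (.node (.leaf 1016) (.leaf 122))) (.node (.node (.leaf 984) (.leaf 1488)) (.leaf 1117))) (.node (.node (.node (.leaf 868) (.leaf 225)) (.node (.leaf 20) (.leaf 2034))) (.node (.node (.leaf 773) (.leaf 1257)) (.leaf 493))))))) (.node (.node (.node (.node (.node (.node (.node (.leaf 552) (.leaf 851)) (.node (.leaf 1512) (.leaf 25))) (.node (.node (.leaf 505) (.leaf 328)) (.leaf 1836)))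 (.node (.node (.node (.leaf 1994) (.leaf 1139)) (.node (.leaf 2041) (.leaf 1915))) (.node (.node (.leaf 1519) (.leaf 504)) (.leaf 1667)))) (.node (.node (.node (.node (.leaf 238) (.leaf 631)) (.node (.leaf 1448) (.leaf 75))) (.node (.node (.leaf 1065) (.leaf 1263)) (.leaf 359))) (.node (.node (.node (.leaf 2035) (.leaf 648)) (.node (.leaf 1762) (.leaf 1110))) (.node (.node (.leaf 668) (.leaf 1973)) (.leaf 1385))))) (.node (.node (.node (.node (.node (.leaf 1665) (.leaf 335)) (.node (.leaf 1217) (.leaf 346))) (.node (.node (.leaf 1711) (.leaf 1496)) (.leaf 581))) (.node (.node (.node (.leaf 210) (.leaf 1434)) (.node (.leaf 597) (.leaf 1665))) (.node (.node (.leaf 1634) (.leaf 720)) (.leaf 1080)))) (.node (.node (.node (.node (.leaf 1957) (.leaf 881)) (.node (.leaf 1006) (.leaf 1878))) (.node (.node (.leaf 418) (.leaf 1811)) (.leaf 590))) (.node (.node (.node (.leaf 114) (.leaf 1414)) (.node (.leaf 2023) (.leaf 249))) (.node (.node (.leaf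 1003) (.leaf 1830)) (.leaf 352)))))) (.node (.node (.node (.node (.node (.node (.leaf 860) (.leaf 1526)) (.node (.leaf 635) (.leaf 229))) (.node (.node (.leaf 1479) (.leaf 1112)) (.leaf 370))) (.node (.node (.node (.leaf 930) (.leaf 1948)) (.node (.leaf 2055) (.leaf 1560))) (.node (.node (.leaf 1197) (.leaf 1641)) (.leaf 1528)))) (.node (.node (.node (.node (.leaf 1836) (.leaf 1421)) (.node (.leaf 1984) (.leaf 1758))) (.node (.node (.leaf 1565) (.leaf 1227)) (.leaf 384))) (.node (.node (.node (.leaf 1425) (.leaf 575)) (.node (.leaf 755) (.leaf 22))) (.node (.node (.leaf 120) (.leaf 798)) (.leaf 1129))))) (.node (.node (.node (.node (.node (.leaf 1125) (.leaf 881)) (.node (.leaf 1795) (.leaf 1362))) (.node (.node (.leaf 1886) (.leaf 110)) (.leaf 1702))) (.node (.node (.node (.leaf 806) (.leaf 1292)) (.node (.leaf 898) (.leaf 1587))) (.node (.node (.leaf 1092) (.leaf 1679)) (.leaf 701)))) (.node (.node (.node (.node (.leaf 1239) (.leaf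 1345)) (.node (.leaf 1542) (.leaf 464))) (.node (.node (.leaf 2041) (.leaf 1896)) (.leaf 1812))) (.node (.node (.node (.leaf 999) (.leaf 1872)) (.node (.leaf 529) (.leaf 959))) (.node (.node (.leaf 1357) (.leaf 615)) (.leaf 884))))))))) (.node (.node (.node (.node (.node (.node (.node (.node (.node (.leaf 867) (.leaf 824)) (.node (.leaf 291) (.leaf 1371))) (.node (.node (.leaf 120) (.leaf 444)) (.node (.leaf 1016) (.leaf 895)))) (.node (.node (.node (.leaf 599) (.leaf 865)) (.node (.leaf 677) (.leaf 1572))) (.node (.node (.leaf 296) (.leaf 668)) (.leaf 742)))) (.node (.node (.node (.node (.leaf 1158) (.leaf 530)) (.node (.leaf 660) (.leaf 1060))) (.node (.node (.leaf 1998) (.leaf 1190)) (.leaf 1647))) (.node (.node (.node (.leaf 364) (.leaf 1070)) (.node (.leaf 214) (.leaf 956))) (.node (.node (.leaf 514) (.leaf 116)) (.leaf 1983))))) (.node (.node (.node (.node (.node (.leaf 1583) (.leaf 317)) (.node (.leaf 799) (.leaf 1225))) (.node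 (.node (.leaf 47) (.leaf 467)) (.leaf 80))) (.node (.node (.node (.leaf 1708) (.leaf 108)) (.node (.leaf 27) (.leaf 1312))) (.node (.node (.leaf 1764) (.leaf 1648)) (.leaf 1767)))) (.node (.node (.node (.node (.leaf 815) (.leaf 334)) (.node (.leaf 1488) (.leaf 0))) (.node (.node (.leaf 1364) (.leaf 919)) (.leaf 44))) (.node (.node (.node (.leaf 1814) (.leaf 291)) (.node (.leaf 194) (.leaf 2013))) (.node (.node (.leaf 1398) (.leaf 1440)) (.leaf 675)))))) (.node (.node (.node (.node (.node (.node (.leaf 20) (.leaf 1139)) (.node (.leaf 1149) (.leaf 1866))) (.node (.node (.leaf 35) (.leaf 1148)) (.leaf 994))) (.node (.node (.node (.leaf 1751) (.leaf 1584)) (.node (.leaf 1209) (.leaf 1804))) (.node (.node (.leaf 1507) (.leaf 1363)) (.leaf 1449)))) (.node (.node (.node (.node (.leaf 925) (.leaf 1023)) (.node (.leaf 984) (.leaf 1849))) (.node (.node (.leaf 1187) (.leaf 888)) (.leaf 1041))) (.node (.node (.node (.leaf 1284) (.leaf 865)) (.node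 (.leaf 928) (.leaf 68))) (.node (.node (.leaf 1333) (.leaf 643)) (.leaf 852))))) (.node (.node (.node (.node (.node (.leaf 849) (.leaf 1188)) (.node (.leaf 1422) (.leaf 1974))) (.node (.node (.leaf 2028) (.leaf 1002)) (.leaf 1387))) (.node (.node (.node (.leaf 910) (.leaf 1555)) (.node (.leaf 1791) (.leaf 1159))) (.node (.node (.leaf 325) (.leaf 1041)) (.leaf 1906)))) (.node (.node (.node (.node (.leaf 803) (.leaf 1275)) (.node (.leaf 1130) (.leaf 541))) (.node (.node (.leaf 92) (.leaf 1831)) (.leaf 31))) (.node (.node (.node (.leaf 529) (.leaf 90)) (.node (.leaf 1062) (.leaf 979))) (.node (.node (.leaf 431) (.leaf 1011)) (.leaf 1961))))))) (.node (.node (.node (.node (.node (.node (.node (.leaf 252) (.leaf 1824)) (.node (.leaf 407) (.leaf 628))) (.node (.node (.leaf 1088) (.leaf 945)) (.leaf 903))) (.node (.node (.node (.leaf 569) (.leaf 403)) (.node (.leaf 2047) (.leaf 845))) (.node (.node (.leaf 1307) (.leaf 1270)) (.leaf 1652))))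 (.node (.node (.node (.node (.leaf 1244) (.leaf 312)) (.node (.leaf 2037) (.leaf 358))) (.node (.node (.leaf 1651) (.leaf 810)) (.leaf 602))) (.node (.node (.node (.leaf 809) (.leaf 637)) (.node (.leaf 2005) (.leaf 889))) (.node (.node (.leaf 375) (.leaf 887)) (.leaf 1679))))) (.node (.node (.node (.node (.node (.leaf 88) (.leaf 1317)) (.node (.leaf 896) (.leaf 228))) (.node (.node (.leaf 1797) (.leaf 1308)) (.leaf 93))) (.node (.node (.node (.leaf 1205) (.leaf 404)) (.node (.leaf 1777) (.leaf 1252))) (.node (.node (.leaf 1563) (.leaf 81)) (.leaf 1707)))) (.node (.node (.node (.node (.leaf 883) (.leaf 1490)) (.node (.leaf 706) (.leaf 64))) (.node (.node (.leaf 760) (.leaf 1279)) (.leaf 998))) (.node (.node (.node (.leaf 1116) (.leaf 1849)) (.node (.leaf 614) (.leaf 369))) (.node (.node (.leaf 1850) (.leaf 1390)) (.leaf 1145)))))) (.node (.node (.node (.node (.node (.node (.leaf 2016) (.leaf 1187)) (.node (.leaf 112) (.leaf 1022))) (.node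 (.node (.leaf 208) (.leaf 754)) (.leaf 492))) (.node (.node (.node (.leaf 650) (.leaf 694)) (.node (.leaf 476) (.leaf 630))) (.node (.node (.leaf 1033) (.leaf 847)) (.leaf 224)))) (.node (.node (.node (.node (.leaf 885) (.leaf 1830)) (.node (.leaf 930) (.leaf 69))) (.node (.node (.leaf 733) (.leaf 397)) (.leaf 436))) (.node (.node (.node (.leaf 2025) (.leaf 1394)) (.node (.leaf 1782) (.leaf 284))) (.node (.node (.leaf 1885) (.leaf 761)) (.leaf 1284))))) (.node (.node (.node (.node (.node (.leaf 414) (.leaf 130)) (.node (.leaf 410) (.leaf 1093))) (.node (.node (.leaf 372) (.leaf 809)) (.leaf 1917))) (.node (.node (.node (.leaf 50) (.leaf 10)) (.node (.leaf 1748) (.leaf 290))) (.node (.node (.leaf 56) (.leaf 1626)) (.leaf 1420)))) (.node (.node (.node (.node (.leaf 942) (.leaf 610)) (.node (.leaf 1578) (.leaf 736))) (.node (.node (.leaf 196) (.leaf 2013)) (.leaf 1074))) (.node (.node (.node (.leaf 720) (.leaf 1179)) (.node (.leaf 272)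 (.leaf 745))) (.node (.node (.leaf 1484) (.leaf 33)) (.leaf 710)))))))) (.node (.node (.node (.node (.node (.node (.node (.node (.leaf 567) (.leaf 487)) (.node (.leaf 1098) (.leaf 818))) (.node (.node (.leaf 945) (.leaf 1561)) (.node (.leaf 1026) (.leaf 648)))) (.node (.node (.node (.leaf 153) (.leaf 1668)) (.node (.leaf 157) (.leaf 108))) (.node (.node (.leaf 33) (.leaf 775)) (.leaf 1759)))) (.node (.node (.node (.node (.leaf 2022) (.leaf 771)) (.node (.leaf 1275) (.leaf 1280))) (.node (.node (.leaf 1846) (.leaf 726)) (.leaf 738))) (.node (.node (.node (.leaf 122) (.leaf 940)) (.node (.leaf 835) (.leaf 544))) (.node (.node (.leaf 1124) (.leaf 865)) (.leaf 974))))) (.node (.node (.node (.node (.node (.leaf 509) (.leaf 1499)) (.node (.leaf 401) (.leaf 1394))) (.node (.node (.leaf 1207) (.leaf 1593)) (.leaf 921))) (.node (.node (.node (.leaf 1052) (.leaf 386)) (.node (.leaf 1556) (.leaf 966))) (.node (.node (.leaf 482) (.leaf 264)) (.leaf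 1624)))) (.node (.node (.node (.node (.leaf 1684) (.leaf 1295)) (.node (.leaf 1577) (.leaf 1907))) (.node (.node (.leaf 409) (.leaf 1779)) (.leaf 898))) (.node (.node (.node (.leaf 760) (.leaf 1069)) (.node (.leaf 1995) (.leaf 1339))) (.node (.node (.leaf 1823) (.leaf 1344)) (.leaf 781)))))) (.node (.node (.node (.node (.node (.node (.leaf 1769) (.leaf 788)) (.node (.leaf 1638) (.leaf 877))) (.node (.node (.leaf 1813) (.leaf 1488)) (.leaf 485))) (.node (.node (.node (.leaf 471) (.leaf 810)) (.node (.leaf 1070) (.leaf 568))) (.node (.node (.leaf 399) (.leaf 1763)) (.leaf 1722)))) (.node (.node (.node (.node (.leaf 966) (.leaf 1545)) (.node (.leaf 1943) (.leaf 898))) (.node (.node (.leaf 1874) (.leaf 174)) (.leaf 1934))) (.node (.node (.node (.leaf 56) (.leaf 699)) (.node (.leaf 772) (.leaf 611))) (.node (.node (.leaf 0) (.leaf 157)) (.leaf 1805))))) (.node (.node (.node (.node (.node (.leaf 565) (.leaf 1912)) (.node (.leaf 646) (.leaf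 613))) (.node (.node (.leaf 884) (.leaf 7)) (.leaf 144))) (.node (.node (.node (.leaf 154) (.leaf 1332)) (.node (.leaf 971) (.leaf 938))) (.node (.node (.leaf 1582) (.leaf 305)) (.leaf 1348)))) (.node (.node (.node (.node (.leaf 665) (.leaf 577)) (.node (.leaf 989) (.leaf 1890))) (.node (.node (.leaf 745) (.leaf 973)) (.leaf 1391))) (.node (.node (.node (.leaf 1540) (.leaf 1246)) (.node (.leaf 1242) (.leaf 1884))) (.node (.node (.leaf 206) (.leaf 603)) (.leaf 1570))))))) (.node (.node (.node (.node (.node (.node (.node (.leaf 895) (.leaf 643)) (.node (.leaf 773) (.leaf 1462))) (.node (.node (.leaf 1332) (.leaf 16)) (.leaf 464))) (.node (.node (.node (.leaf 464) (.leaf 308)) (.node (.leaf 342) (.leaf 143))) (.node (.node (.leaf 1571) (.leaf 544)) (.leaf 1541)))) (.node (.node (.node (.node (.leaf 2008) (.leaf 1997)) (.node (.leaf 1577) (.leaf 1528))) (.node (.node (.leaf 1980) (.leaf 1964)) (.leaf 1096))) (.node (.node (.node (.leaf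 1042) (.leaf 265)) (.node (.leaf 759) (.leaf 1500))) (.node (.node (.leaf 231) (.leaf 1219)) (.leaf 1097))))) (.node (.node (.node (.node (.node (.leaf 1002) (.leaf 1306)) (.node (.leaf 836) (.leaf 1344))) (.node (.node (.leaf 321) (.leaf 188)) (.leaf 178))) (.node (.node (.node (.leaf 529) (.leaf 1361)) (.node (.leaf 86) (.leaf 408))) (.node (.node (.leaf 30) (.leaf 1420)) (.leaf 1887)))) (.node (.node (.node (.node (.leaf 900) (.leaf 2056)) (.node (.leaf 668) (.leaf 58))) (.node (.node (.leaf 861) (.leaf 315)) (.leaf 232))) (.node (.node (.node (.leaf 142) (.leaf 1406)) (.node (.leaf 926) (.leaf 286))) (.node (.node (.leaf 1461) (.leaf 1345)) (.leaf 605)))))) (.node (.node (.node (.node (.node (.node (.leaf 120) (.leaf 1328)) (.node (.leaf 211) (.leaf 108))) (.node (.node (.leaf 1839) (.leaf 772)) (.leaf 1303))) (.node (.node (.node (.leaf 1401) (.leaf 1261)) (.node (.leaf 149) (.leaf 736))) (.node (.node (.leaf 842) (.leaf 1603))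 (.leaf 1646)))) (.node (.node (.node (.node (.leaf 202) (.leaf 927)) (.node (.leaf 330) (.leaf 2028))) (.node (.node (.leaf 1434) (.leaf 1568)) (.leaf 1665))) (.node (.node (.node (.leaf 1312) (.leaf 1516)) (.node (.leaf 735) (.leaf 2009))) (.node (.node (.leaf 712) (.leaf 1952)) (.leaf 618))))) (.node (.node (.node (.node (.node (.leaf 1587) (.leaf 653)) (.node (.leaf 656) (.leaf 15))) (.node (.node (.leaf 1856) (.leaf 1621)) (.leaf 1605))) (.node (.node (.node (.leaf 1559) (.leaf 1008)) (.node (.leaf 1297) (.leaf 1038))) (.node (.node (.leaf 14) (.leaf 1582)) (.leaf 444)))) (.node (.node (.node (.node (.leaf 939) (.leaf 309)) (.node (.leaf 179) (.leaf 699))) (.node (.node (.leaf 980) (.leaf 971)) (.leaf 1253))) (.node (.node (.node (.leaf 1971) (.leaf 2010)) (.node (.leaf 873) (.leaf 1902))) (.node (.node (.leaf 1729) (.leaf 443)) (.leaf 1787)))))))))) (.node (.node (.node (.node (.node (.node (.node (.node (.node (.node (.leaf 959)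 (.leaf 1203)) (.node (.leaf 1318) (.leaf 86))) (.node (.node (.leaf 195) (.leaf 658)) (.node (.leaf 1758) (.leaf 40)))) (.node (.node (.node (.leaf 1861) (.leaf 1226)) (.node (.leaf 1059) (.leaf 1849))) (.node (.node (.leaf 193) (.leaf 60)) (.leaf 759)))) (.node (.node (.node (.node (.leaf 1864) (.leaf 84)) (.node (.leaf 1435) (.leaf 1345))) (.node (.node (.leaf 688) (.leaf 517)) (.leaf 1421))) (.node (.node (.node (.leaf 571) (.leaf 1304)) (.node (.leaf 1154) (.leaf 886))) (.node (.node (.leaf 2017) (.leaf 223)) (.leaf 1419))))) (.node (.node (.node (.node (.node (.leaf 1993) (.leaf 891)) (.node (.leaf 320) (.leaf 398))) (.node (.node (.leaf 1421) (.leaf 187)) (.leaf 1170))) (.node (.node (.node (.leaf 435) (.leaf 1650)) (.node (.leaf 526) (.leaf 1914))) (.node (.node (.leaf 1719) (.leaf 1058)) (.leaf 207)))) (.node (.node (.node (.node (.leaf 1531) (.leaf 2054)) (.node (.leaf 338) (.leaf 1981))) (.node (.node (.leaf 76) (.leaf 746))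 (.leaf 1456))) (.node (.node (.node (.leaf 1816) (.leaf 691)) (.node (.leaf 1463) (.leaf 1175))) (.node (.node (.leaf 714) (.leaf 1542)) (.leaf 791)))))) (.node (.node (.node (.node (.node (.node (.leaf 808) (.leaf 1155)) (.node (.leaf 1864) (.leaf 503))) (.node (.node (.leaf 1254) (.leaf 940)) (.leaf 1290))) (.node (.node (.node (.leaf 1971) (.leaf 71)) (.node (.leaf 1842) (.leaf 62))) (.node (.node (.leaf 282) (.leaf 1855)) (.leaf 746)))) (.node (.node (.node (.node (.leaf 1238) (.leaf 767)) (.node (.leaf 733) (.leaf 1953))) (.node (.node (.leaf 694) (.leaf 1052)) (.leaf 1517))) (.node (.node (.node (.leaf 86) (.leaf 1869)) (.node (.leaf 1172) (.leaf 1174))) (.node (.node (.leaf 106) (.leaf 1358)) (.leaf 1308))))) (.node (.node (.node (.node (.node (.leaf 1988) (.leaf 46)) (.node (.leaf 1478) (.leaf 378))) (.node (.node (.leaf 1909) (.leaf 2037)) (.leaf 9))) (.node (.node (.node (.leaf 858) (.leaf 1627)) (.node (.leaf 1229) (.leaf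 2018))) (.node (.node (.leaf 1953) (.leaf 985)) (.leaf 1437)))) (.node (.node (.node (.node (.leaf 267) (.leaf 706)) (.node (.leaf 1271) (.leaf 2036))) (.node (.node (.leaf 3) (.leaf 961)) (.leaf 419))) (.node (.node (.node (.leaf 596) (.leaf 1351)) (.node (.leaf 1028) (.leaf 748))) (.node (.node (.leaf 1926) (.leaf 1215)) (.leaf 82))))))) (.node (.node (.node (.node (.node (.node (.node (.leaf 68) (.leaf 1879)) (.node (.leaf 1744) (.leaf 1765))) (.node (.node (.leaf 1910) (.leaf 1670)) (.leaf 1977))) (.node (.node (.node (.leaf 721) (.leaf 1557)) (.node (.leaf 747) (.leaf 1232))) (.node (.node (.leaf 521) (.leaf 1239)) (.leaf 236)))) (.node (.node (.node (.node (.leaf 226) (.leaf 1021)) (.node (.leaf 1127) (.leaf 469))) (.node (.node (.leaf 287) (.leaf 200)) (.leaf 1611))) (.node (.node (.node (.leaf 1907) (.leaf 1486)) (.node (.leaf 681) (.leaf 61))) (.node (.node (.leaf 1279) (.leaf 793)) (.leaf 1087))))) (.node (.node (.node (.node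 (.node (.leaf 1555) (.leaf 208)) (.node (.leaf 1708) (.leaf 442))) (.node (.node (.leaf 1982) (.leaf 949)) (.leaf 208))) (.node (.node (.node (.leaf 1912) (.leaf 100)) (.node (.leaf 1726) (.leaf 1348))) (.node (.node (.leaf 426) (.leaf 520)) (.leaf 1207)))) (.node (.node (.node (.node (.leaf 544) (.leaf 843)) (.node (.leaf 705) (.leaf 1125))) (.node (.node (.leaf 412) (.leaf 1114)) (.leaf 1959))) (.node (.node (.node (.leaf 1860) (.leaf 1773)) (.node (.leaf 1390) (.leaf 379))) (.node (.node (.leaf 1229) (.leaf 1729)) (.leaf 583)))))) (.node (.node (.node (.node (.node (.node (.leaf 1261) (.leaf 1887)) (.node (.leaf 1858) (.leaf 320))) (.node (.node (.leaf 345) (.leaf 622)) (.leaf 917))) (.node (.node (.node (.leaf 1246) (.leaf 1894)) (.node (.leaf 2012) (.leaf 777))) (.node (.node (.leaf 1149) (.leaf 1909)) (.leaf 1343)))) (.node (.node (.node (.node (.leaf 790) (.leaf 1272)) (.node (.leaf 513) (.leaf 243))) (.node (.node (.leaf 1013)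 (.leaf 1473)) (.leaf 1332))) (.node (.node (.node (.leaf 390) (.leaf 762)) (.node (.leaf 1854) (.leaf 1681))) (.node (.node (.leaf 376) (.leaf 1993)) (.leaf 446))))) (.node (.node (.node (.node (.node (.leaf 790) (.leaf 1135)) (.node (.leaf 650) (.leaf 31))) (.node (.node (.leaf 1228) (.leaf 1056)) (.leaf 942))) (.node (.node (.node (.leaf 619) (.leaf 776)) (.node (.leaf 561) (.leaf 583))) (.node (.node (.leaf 1922) (.leaf 1497)) (.leaf 1234)))) (.node (.node (.node (.node (.leaf 599) (.leaf 1116)) (.node (.leaf 1461) (.leaf 1284))) (.node (.node (.leaf 1452) (.leaf 948)) (.leaf 880))) (.node (.node (.node (.leaf 2004) (.leaf 1354)) (.node (.leaf 311) (.leaf 1932))) (.node (.node (.leaf 1305) (.leaf 444)) (.leaf 965)))))))) (.node (.node (.node (.node (.node (.node (.node (.node (.leaf 1614) (.leaf 1142)) (.node (.leaf 260) (.leaf 1669))) (.node (.node (.leaf 1409) (.leaf 712)) (.node (.leaf 464) (.leaf 664)))) (.node (.node (.node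 (.leaf 685) (.leaf 1953)) (.node (.leaf 737) (.leaf 1185))) (.node (.node (.leaf 1206) (.leaf 1288)) (.leaf 1464)))) (.node (.node (.node (.node (.leaf 700) (.leaf 1140)) (.node (.leaf 1399) (.leaf 821))) (.node (.node (.leaf 1798) (.leaf 1906)) (.leaf 270))) (.node (.node (.node (.leaf 1449) (.leaf 1352)) (.node (.leaf 1286) (.leaf 1443))) (.node (.node (.leaf 12) (.leaf 814)) (.leaf 1204))))) (.node (.node (.node (.node (.node (.leaf 40) (.leaf 496)) (.node (.leaf 94) (.leaf 137))) (.node (.node (.leaf 1282) (.leaf 1939)) (.leaf 1271))) (.node (.node (.node (.leaf 1666) (.leaf 1941)) (.node (.leaf 635) (.leaf 1828))) (.node (.node (.leaf 1040) (.leaf 520)) (.leaf 1416)))) (.node (.node (.node (.node (.leaf 809) (.leaf 1662)) (.node (.leaf 424) (.leaf 1155))) (.node (.node (.leaf 1655) (.leaf 1885)) (.leaf 1717))) (.node (.node (.node (.leaf 261) (.leaf 519)) (.node (.leaf 235) (.leaf 513))) (.node (.node (.leaf 544) (.leaf 632)) (.leaf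 1560)))))) (.node (.node (.node (.node (.node (.node (.leaf 751) (.leaf 267)) (.node (.leaf 1810) (.leaf 1579))) (.node (.node (.leaf 1498) (.leaf 1908)) (.leaf 1883))) (.node (.node (.node (.leaf 1770) (.leaf 302)) (.node (.leaf 1558) (.leaf 2043))) (.node (.node (.leaf 125) (.leaf 276)) (.leaf 1681)))) (.node (.node (.node (.node (.leaf 1355) (.leaf 85)) (.node (.leaf 741) (.leaf 1151))) (.node (.node (.leaf 1038) (.leaf 1462)) (.leaf 1104))) (.node (.node (.node (.leaf 1805) (.leaf 1376)) (.node (.leaf 1881) (.leaf 23))) (.node (.node (.leaf 841) (.leaf 1118)) (.leaf 2040))))) (.node (.node (.node (.node (.node (.leaf 2013) (.leaf 195)) (.node (.leaf 476) (.leaf 394))) (.node (.node (.leaf 1179) (.leaf 1523)) (.leaf 1483))) (.node (.node (.node (.leaf 442) (.leaf 1014)) (.node (.leaf 1244) (.leaf 1191))) (.node (.node (.leaf 1814) (.leaf 76)) (.leaf 1422)))) (.node (.node (.node (.node (.leaf 136) (.leaf 463)) (.node (.leaf 1089)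 (.leaf 141))) (.node (.node (.leaf 535) (.leaf 1480)) (.leaf 1739))) (.node (.node (.node (.leaf 164) (.leaf 503)) (.node (.leaf 1689) (.leaf 1479))) (.node (.node (.leaf 229) (.leaf 644)) (.leaf 1195))))))) (.node (.node (.node (.node (.node (.node (.node (.leaf 1604) (.leaf 1690)) (.node (.leaf 1718) (.leaf 170))) (.node (.node (.leaf 1865) (.leaf 318)) (.leaf 812))) (.node (.node (.node (.leaf 998) (.leaf 1434)) (.node (.leaf 577) (.leaf 1856))) (.node (.node (.leaf 164) (.leaf 869)) (.leaf 880)))) (.node (.node (.node (.node (.leaf 48) (.leaf 687)) (.node (.leaf 1024) (.leaf 1828))) (.node (.node (.leaf 314) (.leaf 1218)) (.leaf 1071))) (.node (.node (.node (.leaf 1293) (.leaf 57)) (.node (.leaf 1288) (.leaf 259))) (.node (.node (.leaf 1975) (.leaf 1007)) (.leaf 1494))))) (.node (.node (.node (.node (.node (.leaf 1964) (.leaf 1090)) (.node (.leaf 1934) (.leaf 1004))) (.node (.node (.leaf 1894) (.leaf 1514)) (.leaf 1821))) (.node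 (.node (.node (.leaf 1860) (.leaf 43)) (.node (.leaf 1369) (.leaf 307))) (.node (.node (.leaf 490) (.leaf 1958)) (.leaf 1760)))) (.node (.node (.node (.node (.leaf 235) (.leaf 1816)) (.node (.leaf 257) (.leaf 935))) (.node (.node (.leaf 1178) (.leaf 14)) (.leaf 2002))) (.node (.node (.node (.leaf 1095) (.leaf 337)) (.node (.leaf 10) (.leaf 302))) (.node (.node (.leaf 744) (.leaf 2020)) (.leaf 664)))))) (.node (.node (.node (.node (.node (.node (.leaf 2) (.leaf 1171)) (.node (.leaf 807) (.leaf 1434))) (.node (.node (.leaf 1320) (.leaf 1114)) (.leaf 343))) (.node (.node (.node (.leaf 1266) (.leaf 868)) (.node (.leaf 657) (.leaf 1592))) (.node (.node (.leaf 331) (.leaf 1642)) (.leaf 1936)))) (.node (.node (.node (.node (.leaf 1556) (.leaf 908)) (.node (.leaf 1427) (.leaf 388))) (.node (.node (.leaf 210) (.leaf 528)) (.leaf 1078))) (.node (.node (.node (.leaf 1287) (.leaf 1918)) (.node (.leaf 939) (.leaf 91))) (.node (.node (.leaf 1645)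 (.leaf 2015)) (.leaf 1441))))) (.node (.node (.node (.node (.node (.leaf 1659) (.leaf 478)) (.node (.leaf 1639) (.leaf 278))) (.node (.node (.leaf 1473) (.leaf 1200)) (.leaf 1413))) (.node (.node (.node (.leaf 981) (.leaf 276)) (.node (.leaf 1480) (.leaf 837))) (.node (.node (.leaf 319) (.leaf 1837)) (.leaf 1821)))) (.node (.node (.node (.node (.leaf 717) (.leaf 390)) (.node (.leaf 1827) (.leaf 1533))) (.node (.node (.leaf 1101) (.leaf 791)) (.leaf 991))) (.node (.node (.node (.leaf 682) (.leaf 1970)) (.node (.leaf 526) (.leaf 545))) (.node (.node (.leaf 348) (.leaf 1129)) (.leaf 306))))))))) (.node (.node (.node (.node (.node (.node (.node (.node (.node (.leaf 1380) (.leaf 411)) (.node (.leaf 167) (.leaf 878))) (.node (.node (.leaf 461) (.leaf 1466)) (.node (.leaf 1029) (.leaf 848)))) (.node (.node (.node (.leaf 765) (.leaf 1924)) (.node (.leaf 1924) (.leaf 1076))) (.node (.node (.leaf 1802) (.leaf 913)) (.leaf 1053)))) (.node (.node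 (.node (.node (.leaf 894) (.leaf 174)) (.node (.leaf 736) (.leaf 1748))) (.node (.node (.leaf 667) (.leaf 354)) (.leaf 954))) (.node (.node (.node (.leaf 1231) (.leaf 586)) (.node (.leaf 1992) (.leaf 646))) (.node (.node (.leaf 1311) (.leaf 2)) (.leaf 1463))))) (.node (.node (.node (.node (.node (.leaf 1684) (.leaf 400)) (.node (.leaf 1047) (.leaf 148))) (.node (.node (.leaf 1865) (.leaf 1687)) (.leaf 395))) (.node (.node (.node (.leaf 1241) (.leaf 1360)) (.node (.leaf 1143) (.leaf 618))) (.node (.node (.leaf 69) (.leaf 514)) (.leaf 1036)))) (.node (.node (.node (.node (.leaf 2036) (.leaf 1283)) (.node (.leaf 371) (.leaf 925))) (.node (.node (.leaf 712) (.leaf 38)) (.leaf 1162))) (.node (.node (.node (.leaf 1784) (.leaf 1831)) (.node (.leaf 1190) (.leaf 1000))) (.node (.node (.leaf 73) (.leaf 1643)) (.leaf 913)))))) (.node (.node (.node (.node (.node (.node (.leaf 1039) (.leaf 1106)) (.node (.leaf 1212) (.leaf 302))) (.node (.node (.leaf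 1835) (.leaf 1770)) (.leaf 1326))) (.node (.node (.node (.leaf 194) (.leaf 769)) (.node (.leaf 1231) (.leaf 1300))) (.node (.node (.leaf 2017) (.leaf 293)) (.leaf 0)))) (.node (.node (.node (.node (.leaf 843) (.leaf 98)) (.node (.leaf 1090) (.leaf 811))) (.node (.node (.leaf 1981) (.leaf 1342)) (.leaf 509))) (.node (.node (.node (.leaf 721) (.leaf 626)) (.node (.leaf 248) (.leaf 709))) (.node (.node (.leaf 948) (.leaf 1925)) (.leaf 187))))) (.node (.node (.node (.node (.node (.leaf 1479) (.leaf 17)) (.node (.leaf 580) (.leaf 317))) (.node (.node (.leaf 1267) (.leaf 1695)) (.leaf 693))) (.node (.node (.node (.leaf 95) (.leaf 1413)) (.node (.leaf 1194) (.leaf 842))) (.node (.node (.leaf 1422) (.leaf 1378)) (.leaf 1955)))) (.node (.node (.node (.node (.leaf 2004) (.leaf 1873)) (.node (.leaf 1837) (.leaf 30))) (.node (.node (.leaf 1493) (.leaf 601)) (.leaf 1519))) (.node (.node (.node (.leaf 666) (.leaf 672)) (.node (.leaf 1632) (.leaf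 917))) (.node (.node (.leaf 704) (.leaf 747)) (.leaf 1117))))))) (.node (.node (.node (.node (.node (.node (.node (.leaf 490) (.leaf 861)) (.node (.leaf 781) (.leaf 1694))) (.node (.node (.leaf 1590) (.leaf 1874)) (.leaf 1925))) (.node (.node (.node (.leaf 1437) (.leaf 220)) (.node (.leaf 115) (.leaf 987))) (.node (.node (.leaf 1575) (.leaf 1533)) (.leaf 1143)))) (.node (.node (.node (.node (.leaf 1636) (.leaf 246)) (.node (.leaf 670) (.leaf 452))) (.node (.node (.leaf 495) (.leaf 1430)) (.leaf 1289))) (.node (.node (.node (.leaf 1380) (.leaf 626)) (.node (.leaf 817) (.leaf 989))) (.node (.node (.leaf 1344) (.leaf 420)) (.leaf 1645))))) (.node (.node (.node (.node (.node (.leaf 915) (.leaf 134)) (.node (.leaf 1995) (.leaf 1698))) (.node (.node (.leaf 341) (.leaf 1122)) (.leaf 400))) (.node (.node (.node (.leaf 294) (.leaf 1145)) (.node (.leaf 1001) (.leaf 1950))) (.node (.node (.leaf 829) (.leaf 1011)) (.leaf 1896)))) (.node (.node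 (.node (.node (.leaf 226) (.leaf 771)) (.node (.leaf 472) (.leaf 534))) (.node (.node (.leaf 1202) (.leaf 1596)) (.leaf 245))) (.node (.node (.node (.leaf 1352) (.leaf 1717)) (.node (.leaf 385) (.leaf 1636))) (.node (.node (.leaf 1489) (.leaf 373)) (.leaf 1998)))))) (.node (.node (.node (.node (.node (.node (.leaf 1886) (.leaf 1861)) (.node (.leaf 1935) (.leaf 620))) (.node (.node (.leaf 1869) (.leaf 693)) (.leaf 1276))) (.node (.node (.node (.leaf 1212) (.leaf 1157)) (.node (.leaf 1418) (.leaf 723))) (.node (.node (.leaf 908) (.leaf 1066)) (.leaf 2056)))) (.node (.node (.node (.node (.leaf 542) (.leaf 470)) (.node (.leaf 1143) (.leaf 1366))) (.node (.node (.leaf 1027) (.leaf 1499)) (.leaf 1343))) (.node (.node (.node (.leaf 1748) (.leaf 2000)) (.node (.leaf 811) (.leaf 1442))) (.node (.node (.leaf 127) (.leaf 1150)) (.leaf 1466))))) (.node (.node (.node (.node (.node (.leaf 1765) (.leaf 1079)) (.node (.leaf 1935) (.leaf 637))) (.node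 (.node (.leaf 1578) (.leaf 1895)) (.leaf 376))) (.node (.node (.node (.leaf 1540) (.leaf 1459)) (.node (.leaf 227) (.leaf 634))) (.node (.node (.leaf 876) (.leaf 967)) (.leaf 1022)))) (.node (.node (.node (.node (.leaf 1818) (.leaf 169)) (.node (.leaf 1612) (.leaf 1604))) (.node (.node (.leaf 1944) (.leaf 1643)) (.leaf 659))) (.node (.node (.node (.leaf 1264) (.leaf 1556)) (.node (.leaf 1101) (.leaf 724))) (.node (.node (.leaf 1947) (.leaf 1224)) (.leaf 1551)))))))) (.node (.node (.node (.node (.node (.node (.node (.node (.leaf 545) (.leaf 1790)) (.node (.leaf 1291) (.leaf 1872))) (.node (.node (.leaf 1708) (.leaf 1447)) (.node (.leaf 456) (.leaf 1296)))) (.node (.node (.node (.leaf 730) (.leaf 1552)) (.node (.leaf 1269) (.leaf 1637))) (.node (.node (.leaf 399) (.leaf 1485)) (.leaf 1558)))) (.node (.node (.node (.node (.leaf 1657) (.leaf 1662)) (.node (.leaf 614) (.leaf 1889))) (.node (.node (.leaf 646) (.leaf 1067)) (.leaf 1577)))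 (.node (.node (.node (.leaf 33) (.leaf 305)) (.node (.leaf 892) (.leaf 243))) (.node (.node (.leaf 1656) (.leaf 1697)) (.leaf 610))))) (.node (.node (.node (.node (.node (.leaf 554) (.leaf 947)) (.node (.leaf 17) (.leaf 237))) (.node (.node (.leaf 1441) (.leaf 459)) (.leaf 1294))) (.node (.node (.node (.leaf 1226) (.leaf 1369)) (.node (.leaf 1245) (.leaf 292))) (.node (.node (.leaf 2011) (.leaf 1930)) (.leaf 1777)))) (.node (.node (.node (.node (.leaf 1617) (.leaf 1288)) (.node (.leaf 1594) (.leaf 1875))) (.node (.node (.leaf 1005) (.leaf 463)) (.leaf 278))) (.node (.node (.node (.leaf 1301) (.leaf 1204)) (.node (.leaf 57) (.leaf 932))) (.node (.node (.leaf 842) (.leaf 933)) (.leaf 1396)))))) (.node (.node (.node (.node (.node (.node (.leaf 1071) (.leaf 127)) (.node (.leaf 977) (.leaf 1382))) (.node (.node (.leaf 801) (.leaf 561)) (.leaf 1260))) (.node (.node (.node (.leaf 779) (.leaf 261)) (.node (.leaf 488) (.leaf 970))) (.node (.node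 (.leaf 1876) (.leaf 1740)) (.leaf 4)))) (.node (.node (.node (.node (.leaf 1142) (.leaf 1269)) (.node (.leaf 94) (.leaf 852))) (.node (.node (.leaf 392) (.leaf 1705)) (.leaf 1501))) (.node (.node (.node (.leaf 1441) (.leaf 779)) (.node (.leaf 1463) (.leaf 2003))) (.node (.node (.leaf 547) (.leaf 300)) (.leaf 445))))) (.node (.node (.node (.node (.node (.leaf 740) (.leaf 1098)) (.node (.leaf 2053) (.leaf 1818))) (.node (.node (.leaf 4) (.leaf 1899)) (.leaf 1396))) (.node (.node (.node (.leaf 1417) (.leaf 1687)) (.node (.leaf 318) (.leaf 1793))) (.node (.node (.leaf 1956) (.leaf 1474)) (.leaf 1281)))) (.node (.node (.node (.node (.leaf 136) (.leaf 1299)) (.node (.leaf 241) (.leaf 1337))) (.node (.node (.leaf 178) (.leaf 1589)) (.leaf 1384))) (.node (.node (.node (.leaf 458) (.leaf 69)) (.node (.leaf 550) (.leaf 669))) (.node (.node (.leaf 288) (.leaf 777)) (.leaf 1402))))))) (.node (.node (.node (.node (.node (.node (.node (.leaf 834)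 (.leaf 1228)) (.node (.leaf 962) (.leaf 1069))) (.node (.node (.leaf 73) (.leaf 706)) (.leaf 1128))) (.node (.node (.node (.leaf 997) (.leaf 301)) (.node (.leaf 601) (.leaf 1422))) (.node (.node (.leaf 345) (.leaf 136)) (.leaf 646)))) (.node (.node (.node (.node (.leaf 1370) (.leaf 2046)) (.node (.leaf 638) (.leaf 1123))) (.node (.node (.leaf 754) (.leaf 196)) (.leaf 598))) (.node (.node (.node (.leaf 1243) (.leaf 1442)) (.node (.leaf 1302) (.leaf 808))) (.node (.node (.leaf 873) (.leaf 758)) (.leaf 1797))))) (.node (.node (.node (.node (.node (.leaf 1648) (.leaf 326)) (.node (.leaf 728) (.leaf 1193))) (.node (.node (.leaf 1928) (.leaf 1718)) (.leaf 246))) (.node (.node (.node (.leaf 200) (.leaf 90)) (.node (.leaf 2024) (.leaf 1124))) (.node (.node (.leaf 1640) (.leaf 914)) (.leaf 1077)))) (.node (.node (.node (.node (.leaf 599) (.leaf 579)) (.node (.leaf 732) (.leaf 801))) (.node (.node (.leaf 419) (.leaf 1927)) (.leaf 1004))) (.node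 (.node (.node (.leaf 824) (.leaf 727)) (.node (.leaf 202) (.leaf 1382))) (.node (.node (.leaf 61) (.leaf 431)) (.leaf 1276)))))) (.node (.node (.node (.node (.node (.node (.leaf 886) (.leaf 1201)) (.node (.leaf 1289) (.leaf 815))) (.node (.node (.leaf 483) (.leaf 1150)) (.leaf 1137))) (.node (.node (.node (.leaf 68) (.leaf 2029)) (.node (.leaf 1109) (.leaf 589))) (.node (.node (.leaf 1015) (.leaf 585)) (.leaf 1132)))) (.node (.node (.node (.node (.leaf 1908) (.leaf 234)) (.node (.leaf 1493) (.leaf 1262))) (.node (.node (.leaf 1550) (.leaf 411)) (.leaf 1275))) (.node (.node (.node (.leaf 928) (.leaf 1346)) (.node (.leaf 938) (.leaf 443))) (.node (.node (.leaf 198) (.leaf 161)) (.leaf 1947))))) (.node (.node (.node (.node (.node (.leaf 1825) (.leaf 866)) (.node (.leaf 1780) (.leaf 610))) (.node (.node (.leaf 1315) (.leaf 111)) (.leaf 1509))) (.node (.node (.node (.leaf 374) (.leaf 953)) (.node (.leaf 803) (.leaf 2009))) (.node (.node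 (.leaf 1656) (.leaf 1581)) (.leaf 227)))) (.node (.node (.node (.node (.leaf 145) (.leaf 522)) (.node (.leaf 154) (.leaf 685))) (.node (.node (.leaf 184) (.leaf 691)) (.leaf 829))) (.node (.node (.node (.leaf 587) (.leaf 95)) (.node (.leaf 98) (.leaf 435))) (.node (.node (.leaf 724) (.leaf 1792)) (.leaf 1530)))))))))))

/-- Part of `ptImg`. -/
def ptImg1 : Tr := (.node (.node (.node (.node (.node (.node (.node (.node (.node (.node (.node (.leaf 537) (.leaf 915)) (.node (.leaf 1607) (.leaf 488))) (.node (.node (.leaf 764) (.leaf 217)) (.node (.leaf 819) (.leaf 1677)))) (.node (.node (.node (.leaf 493) (.leaf 30)) (.node (.leaf 195) (.leaf 246))) (.node (.node (.leaf 183) (.leaf 2014)) (.leaf 673)))) (.node (.node (.node (.node (.leaf 907) (.leaf 236)) (.node (.leaf 1844) (.leaf 175))) (.node (.node (.leaf 1588) (.leaf 1471)) (.leaf 163))) (.node (.node (.node (.leaf 635) (.leaf 1868)) (.node (.leaf 1219) (.leaf 151))) (.node (.node (.leaf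 1639) (.leaf 1693)) (.leaf 232))))) (.node (.node (.node (.node (.node (.leaf 1651) (.leaf 336)) (.node (.leaf 723) (.leaf 200))) (.node (.node (.leaf 473) (.leaf 353)) (.leaf 1220))) (.node (.node (.node (.leaf 439) (.leaf 574)) (.node (.leaf 1773) (.leaf 1878))) (.node (.node (.leaf 757) (.leaf 2044)) (.leaf 1649)))) (.node (.node (.node (.node (.leaf 497) (.leaf 1807)) (.node (.leaf 1235) (.leaf 1728))) (.node (.node (.leaf 1565) (.leaf 682)) (.leaf 670))) (.node (.node (.node (.leaf 1407) (.leaf 1305)) (.node (.leaf 823) (.leaf 1799))) (.node (.node (.leaf 548) (.leaf 1547)) (.leaf 1092)))))) (.node (.node (.node (.node (.node (.node (.leaf 1690) (.leaf 599)) (.node (.leaf 638) (.leaf 1323))) (.node (.node (.leaf 96) (.leaf 239)) (.leaf 633))) (.node (.node (.node (.leaf 453) (.leaf 1155)) (.node (.leaf 786) (.leaf 740))) (.node (.node (.leaf 253) (.leaf 1372)) (.leaf 235)))) (.node (.node (.node (.node (.leaf 54) (.leaf 1350))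 (.node (.leaf 966) (.leaf 1847))) (.node (.node (.leaf 231) (.leaf 581)) (.leaf 969))) (.node (.node (.node (.leaf 1800) (.leaf 1983)) (.node (.leaf 14) (.leaf 1649))) (.node (.node (.leaf 1953) (.leaf 92)) (.leaf 1366))))) (.node (.node (.node (.node (.node (.leaf 1194) (.leaf 1794)) (.node (.leaf 1548) (.leaf 1860))) (.node (.node (.leaf 859) (.leaf 547)) (.leaf 123))) (.node (.node (.node (.leaf 1197) (.leaf 1370)) (.node (.leaf 1284) (.leaf 501))) (.node (.node (.leaf 421) (.leaf 654)) (.leaf 135)))) (.node (.node (.node (.node (.leaf 807) (.leaf 7)) (.node (.leaf 1717) (.leaf 1883))) (.node (.node (.leaf 1367) (.leaf 491)) (.leaf 1201))) (.node (.node (.node (.leaf 1864) (.leaf 727)) (.node (.leaf 347) (.leaf 1176))) (.node (.node (.leaf 1678) (.leaf 1737)) (.leaf 1259))))))) (.node (.node (.node (.node (.node (.node (.node (.leaf 765) (.leaf 738)) (.node (.leaf 1330) (.leaf 477))) (.node (.node (.leaf 1098) (.leaf 178)) (.node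 (.leaf 63) (.leaf 463)))) (.node (.node (.node (.leaf 441) (.leaf 873)) (.node (.leaf 1635) (.leaf 497))) (.node (.node (.leaf 823) (.leaf 1632)) (.leaf 1033)))) (.node (.node (.node (.node (.leaf 1362) (.leaf 1949)) (.node (.leaf 144) (.leaf 1678))) (.node (.node (.leaf 1075) (.leaf 84)) (.leaf 117))) (.node (.node (.node (.leaf 1092) (.leaf 664)) (.node (.leaf 2005) (.leaf 727))) (.node (.node (.leaf 516) (.leaf 1192)) (.leaf 861))))) (.node (.node (.node (.node (.node (.leaf 236) (.leaf 1450)) (.node (.leaf 1628) (.leaf 193))) (.node (.node (.leaf 1519) (.leaf 704)) (.leaf 265))) (.node (.node (.node (.leaf 1827) (.leaf 82)) (.node (.leaf 1930) (.leaf 1132))) (.node (.node (.leaf 828) (.leaf 408)) (.leaf 1812)))) (.node (.node (.node (.node (.leaf 837) (.leaf 1713)) (.node (.leaf 1735) (.leaf 1475))) (.node (.node (.leaf 1065) (.leaf 940)) (.leaf 209))) (.node (.node (.node (.leaf 1405) (.leaf 1858)) (.node (.leaf 1734) (.leaf 1733)))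 (.node (.node (.leaf 327) (.leaf 1728)) (.leaf 1815)))))) (.node (.node (.node (.node (.node (.node (.leaf 1783) (.leaf 470)) (.node (.leaf 612) (.leaf 1879))) (.node (.node (.leaf 1755) (.leaf 1291)) (.leaf 1867))) (.node (.node (.node (.leaf 1257) (.leaf 1421)) (.node (.leaf 2011) (.leaf 1675))) (.node (.node (.leaf 1871) (.leaf 85)) (.leaf 975)))) (.node (.node (.node (.node (.leaf 634) (.leaf 920)) (.node (.leaf 521) (.leaf 437))) (.node (.node (.leaf 1302) (.leaf 271)) (.leaf 1999))) (.node (.node (.node (.leaf 1734) (.leaf 430)) (.node (.leaf 416) (.leaf 662))) (.node (.node (.leaf 737) (.leaf 1709)) (.leaf 324))))) (.node (.node (.node (.node (.node (.leaf 741) (.leaf 1644)) (.node (.leaf 1263) (.leaf 420))) (.node (.node (.leaf 449) (.leaf 1074)) (.leaf 1784))) (.node (.node (.node (.leaf 1916) (.leaf 474)) (.node (.leaf 803) (.leaf 1145))) (.node (.node (.leaf 1739) (.leaf 1673)) (.leaf 1288)))) (.node (.node (.node (.node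 (.leaf 483) (.leaf 1925)) (.node (.leaf 918) (.leaf 1826))) (.node (.node (.leaf 561) (.leaf 618)) (.leaf 1027))) (.node (.node (.node (.leaf 1281) (.leaf 415)) (.node (.leaf 1349) (.leaf 564))) (.node (.node (.leaf 1083) (.leaf 1468)) (.leaf 1859)))))))) (.node (.node (.node (.node (.node (.node (.node (.node (.leaf 384) (.leaf 1814)) (.node (.leaf 1708) (.leaf 195))) (.node (.node (.leaf 2022) (.leaf 1412)) (.node (.leaf 828) (.leaf 2052)))) (.node (.node (.node (.leaf 1975) (.leaf 1887)) (.node (.leaf 1734) (.leaf 1524))) (.node (.node (.leaf 1875) (.leaf 1052)) (.leaf 851)))) (.node (.node (.node (.node (.leaf 1607) (.leaf 591)) (.node (.leaf 1107) (.leaf 353))) (.node (.node (.leaf 829) (.leaf 213)) (.leaf 1522))) (.node (.node (.node (.leaf 940) (.leaf 1419)) (.node (.leaf 1996) (.leaf 574))) (.node (.node (.leaf 913) (.leaf 1788)) (.leaf 1741))))) (.node (.node (.node (.node (.node (.leaf 984) (.leaf 921)) (.node (.leaf 1411)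 (.leaf 162))) (.node (.node (.leaf 1039) (.leaf 1080)) (.leaf 1354))) (.node (.node (.node (.leaf 1500) (.leaf 564)) (.node (.leaf 829) (.leaf 1105))) (.node (.node (.leaf 1801) (.leaf 348)) (.leaf 1107)))) (.node (.node (.node (.node (.leaf 1755) (.leaf 1893)) (.node (.leaf 185) (.leaf 1803))) (.node (.node (.leaf 1395) (.leaf 674)) (.leaf 1444))) (.node (.node (.node (.leaf 546) (.leaf 1431)) (.node (.leaf 1930) (.leaf 901))) (.node (.node (.leaf 1589) (.leaf 949)) (.leaf 1996)))))) (.node (.node (.node (.node (.node (.node (.leaf 1322) (.leaf 402)) (.node (.leaf 647) (.leaf 277))) (.node (.node (.leaf 1588) (.leaf 397)) (.leaf 125))) (.node (.node (.node (.leaf 844) (.leaf 1339)) (.node (.leaf 374) (.leaf 496))) (.node (.node (.leaf 1575) (.leaf 755)) (.leaf 704)))) (.node (.node (.node (.node (.leaf 1517) (.leaf 179)) (.node (.leaf 655) (.leaf 447))) (.node (.node (.leaf 1861) (.leaf 363)) (.leaf 1046))) (.node (.node (.node (.leaf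 129) (.leaf 273)) (.node (.leaf 325) (.leaf 1404))) (.node (.node (.leaf 1561) (.leaf 1562)) (.leaf 1826))))) (.node (.node (.node (.node (.node (.leaf 1181) (.leaf 558)) (.node (.leaf 1567) (.leaf 1143))) (.node (.node (.leaf 527) (.leaf 350)) (.leaf 627))) (.node (.node (.node (.leaf 1001) (.leaf 997)) (.node (.leaf 533) (.leaf 1154))) (.node (.node (.leaf 1517) (.leaf 862)) (.leaf 659)))) (.node (.node (.node (.node (.leaf 1364) (.leaf 912)) (.node (.leaf 142) (.leaf 848))) (.node (.node (.leaf 81) (.leaf 971)) (.leaf 1382))) (.node (.node (.node (.leaf 1026) (.leaf 1915)) (.node (.leaf 1699) (.leaf 1582))) (.node (.node (.leaf 220) (.leaf 1101)) (.leaf 1187))))))) (.node (.node (.node (.node (.node (.node (.node (.leaf 584) (.leaf 1362)) (.node (.leaf 1117) (.leaf 214))) (.node (.node (.leaf 470) (.leaf 518)) (.leaf 2002))) (.node (.node (.node (.leaf 837) (.leaf 594)) (.node (.leaf 1110) (.leaf 171))) (.node (.node (.leaf 1009)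 (.leaf 1258)) (.leaf 1948)))) (.node (.node (.node (.node (.leaf 1054) (.leaf 1440)) (.node (.leaf 672) (.leaf 511))) (.node (.node (.leaf 385) (.leaf 455)) (.leaf 1676))) (.node (.node (.node (.leaf 456) (.leaf 1403)) (.node (.leaf 1066) (.leaf 320))) (.node (.node (.leaf 1328) (.leaf 52)) (.leaf 202))))) (.node (.node (.node (.node (.node (.leaf 1287) (.leaf 1163)) (.node (.leaf 219) (.leaf 296))) (.node (.node (.leaf 1121) (.leaf 693)) (.leaf 825))) (.node (.node (.node (.leaf 872) (.leaf 157)) (.node (.leaf 175) (.leaf 1952))) (.node (.node (.leaf 489) (.leaf 1766)) (.leaf 597)))) (.node (.node (.node (.node (.leaf 1960) (.leaf 1700)) (.node (.leaf 708) (.leaf 1783))) (.node (.node (.leaf 832) (.leaf 1345)) (.leaf 1224))) (.node (.node (.node (.leaf 2043) (.leaf 1721)) (.node (.leaf 83) (.leaf 1287))) (.node (.node (.leaf 1495) (.leaf 603)) (.leaf 327)))))) (.node (.node (.node (.node (.node (.node (.leaf 861) (.leaf 377)) (.node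 (.leaf 748) (.leaf 730))) (.node (.node (.leaf 1124) (.leaf 242)) (.leaf 2034))) (.node (.node (.node (.leaf 1254) (.leaf 1085)) (.node (.leaf 1433) (.leaf 360))) (.node (.node (.leaf 1339) (.leaf 792)) (.leaf 234)))) (.node (.node (.node (.node (.leaf 1619) (.leaf 1300)) (.node (.leaf 728) (.leaf 197))) (.node (.node (.leaf 1485) (.leaf 1554)) (.leaf 682))) (.node (.node (.node (.leaf 387) (.leaf 1572)) (.node (.leaf 637) (.leaf 2007))) (.node (.node (.leaf 1625) (.leaf 836)) (.leaf 1917))))) (.node (.node (.node (.node (.node (.leaf 181) (.leaf 1619)) (.node (.leaf 249) (.leaf 1824))) (.node (.node (.leaf 256) (.leaf 1763)) (.leaf 2044))) (.node (.node (.node (.leaf 502) (.leaf 65)) (.node (.leaf 136) (.leaf 1459))) (.node (.node (.leaf 804) (.leaf 913)) (.leaf 228)))) (.node (.node (.node (.node (.leaf 1753) (.leaf 1653)) (.node (.leaf 847) (.leaf 1581))) (.node (.node (.leaf 460) (.leaf 647)) (.leaf 615))) (.node (.node (.node (.leaf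 288) (.leaf 1458)) (.node (.leaf 552) (.leaf 1321))) (.node (.node (.leaf 208) (.leaf 1413)) (.leaf 694))))))))) (.node (.node (.node (.node (.node (.node (.node (.node (.node (.leaf 187) (.leaf 454)) (.node (.leaf 457) (.leaf 1757))) (.node (.node (.leaf 1492) (.leaf 1892)) (.node (.leaf 880) (.leaf 1111)))) (.node (.node (.node (.leaf 1790) (.leaf 1305)) (.node (.leaf 178) (.leaf 1891))) (.node (.node (.leaf 441) (.leaf 467)) (.leaf 1486)))) (.node (.node (.node (.node (.leaf 1704) (.leaf 1245)) (.node (.leaf 1403) (.leaf 1410))) (.node (.node (.leaf 402) (.leaf 468)) (.leaf 972))) (.node (.node (.node (.leaf 1793) (.leaf 821)) (.node (.leaf 1993) (.leaf 888))) (.node (.node (.leaf 704) (.leaf 1990)) (.leaf 1197))))) (.node (.node (.node (.node (.node (.leaf 1159) (.leaf 1686)) (.node (.leaf 1927) (.leaf 1903))) (.node (.node (.leaf 1097) (.leaf 1343)) (.leaf 865))) (.node (.node (.node (.leaf 196) (.leaf 1765)) (.node (.leaf 593)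 (.leaf 886))) (.node (.node (.leaf 1432) (.leaf 1287)) (.leaf 1063)))) (.node (.node (.node (.node (.leaf 2015) (.leaf 570)) (.node (.leaf 1327) (.leaf 461))) (.node (.node (.leaf 583) (.leaf 1805)) (.leaf 2026))) (.node (.node (.node (.leaf 1432) (.leaf 1647)) (.node (.leaf 434) (.leaf 139))) (.node (.node (.leaf 1045) (.leaf 785)) (.leaf 182)))))) (.node (.node (.node (.node (.node (.node (.leaf 864) (.leaf 1191)) (.node (.leaf 353) (.leaf 507))) (.node (.node (.leaf 2030) (.leaf 612)) (.leaf 1054))) (.node (.node (.node (.leaf 185) (.leaf 926)) (.node (.leaf 1541) (.leaf 1466))) (.node (.node (.leaf 644) (.leaf 629)) (.leaf 282)))) (.node (.node (.node (.node (.leaf 1900) (.leaf 1542)) (.node (.leaf 679) (.leaf 728))) (.node (.node (.leaf 757) (.leaf 1977)) (.leaf 1595))) (.node (.node (.node (.leaf 1843) (.leaf 1647)) (.node (.leaf 268) (.leaf 361))) (.node (.node (.leaf 362) (.leaf 1299)) (.leaf 1521))))) (.node (.node (.node (.node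 (.node (.leaf 1301) (.leaf 1568)) (.node (.leaf 220) (.leaf 1086))) (.node (.node (.leaf 1691) (.leaf 1520)) (.leaf 1880))) (.node (.node (.node (.leaf 1833) (.leaf 1317)) (.node (.leaf 281) (.leaf 767))) (.node (.node (.leaf 1999) (.leaf 1666)) (.leaf 160)))) (.node (.node (.node (.node (.leaf 425) (.leaf 185)) (.node (.leaf 405) (.leaf 1956))) (.node (.node (.leaf 1897) (.leaf 1506)) (.leaf 138))) (.node (.node (.node (.leaf 113) (.leaf 1099)) (.node (.leaf 1182) (.leaf 805))) (.node (.node (.leaf 957) (.leaf 1752)) (.leaf 1577))))))) (.node (.node (.node (.node (.node (.node (.node (.leaf 1616) (.leaf 1010)) (.node (.leaf 351) (.leaf 145))) (.node (.node (.leaf 1615) (.leaf 23)) (.leaf 1986))) (.node (.node (.node (.leaf 1221) (.leaf 88)) (.node (.leaf 1674) (.leaf 47))) (.node (.node (.leaf 1097) (.leaf 1724)) (.leaf 1398)))) (.node (.node (.node (.node (.leaf 1761) (.leaf 1255)) (.node (.leaf 1762) (.leaf 911))) (.node (.node (.leaf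 369) (.leaf 645)) (.leaf 1910))) (.node (.node (.node (.leaf 528) (.leaf 1142)) (.node (.leaf 1003) (.leaf 285))) (.node (.node (.leaf 996) (.leaf 1682)) (.leaf 1745))))) (.node (.node (.node (.node (.node (.leaf 504) (.leaf 804)) (.node (.leaf 285) (.leaf 225))) (.node (.node (.leaf 794) (.leaf 906)) (.leaf 152))) (.node (.node (.node (.leaf 843) (.leaf 132)) (.node (.leaf 172) (.leaf 380))) (.node (.node (.leaf 1524) (.leaf 1992)) (.leaf 1072)))) (.node (.node (.node (.node (.leaf 923) (.leaf 1615)) (.node (.leaf 1299) (.leaf 354))) (.node (.node (.leaf 1356) (.leaf 1337)) (.leaf 288))) (.node (.node (.node (.leaf 129) (.leaf 158)) (.node (.leaf 1117) (.leaf 97))) (.node (.node (.leaf 515) (.leaf 1167)) (.leaf 179)))))) (.node (.node (.node (.node (.node (.node (.leaf 29) (.leaf 671)) (.node (.leaf 615) (.leaf 228))) (.node (.node (.leaf 680) (.leaf 674)) (.leaf 501))) (.node (.node (.node (.leaf 1835) (.leaf 1628)) (.node (.leaf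 1966) (.leaf 1525))) (.node (.node (.leaf 441) (.leaf 1639)) (.leaf 464)))) (.node (.node (.node (.node (.leaf 1581) (.leaf 1273)) (.node (.leaf 1199) (.leaf 1737))) (.node (.node (.leaf 1573) (.leaf 1154)) (.leaf 1735))) (.node (.node (.node (.leaf 1853) (.leaf 1590)) (.node (.leaf 604) (.leaf 109))) (.node (.node (.leaf 907) (.leaf 1443)) (.leaf 642))))) (.node (.node (.node (.node (.node (.leaf 1473) (.leaf 1865)) (.node (.leaf 408) (.leaf 929))) (.node (.node (.leaf 178) (.leaf 257)) (.leaf 1791))) (.node (.node (.node (.leaf 984) (.leaf 1797)) (.node (.leaf 1051) (.leaf 1333))) (.node (.node (.leaf 306) (.leaf 77)) (.leaf 730)))) (.node (.node (.node (.node (.leaf 1962) (.leaf 1224)) (.node (.leaf 1474) (.leaf 410))) (.node (.node (.leaf 172) (.leaf 615)) (.leaf 192))) (.node (.node (.node (.leaf 1279) (.leaf 1924)) (.node (.leaf 262) (.leaf 434))) (.node (.node (.leaf 1302) (.leaf 797)) (.leaf 774)))))))) (.node (.node (.node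 (.node (.node (.node (.node (.node (.leaf 1298) (.leaf 1160)) (.node (.leaf 1895) (.leaf 1633))) (.node (.node (.leaf 1325) (.leaf 1250)) (.node (.leaf 1165) (.leaf 1287)))) (.node (.node (.node (.leaf 1761) (.leaf 1189)) (.node (.leaf 564) (.leaf 722))) (.node (.node (.leaf 975) (.leaf 77)) (.leaf 30)))) (.node (.node (.node (.node (.leaf 1523) (.leaf 1436)) (.node (.leaf 573) (.leaf 175))) (.node (.node (.leaf 1068) (.leaf 95)) (.leaf 2000))) (.node (.node (.node (.leaf 83) (.leaf 1141)) (.node (.leaf 835) (.leaf 1340))) (.node (.node (.leaf 1432) (.leaf 711)) (.leaf 1131))))) (.node (.node (.node (.node (.node (.leaf 1733) (.leaf 1149)) (.node (.leaf 478) (.leaf 820))) (.node (.node (.leaf 1035) (.leaf 1297)) (.leaf 1357))) (.node (.node (.node (.leaf 467) (.leaf 413)) (.node (.leaf 1616) (.leaf 1888))) (.node (.node (.leaf 1653) (.leaf 1404)) (.leaf 109)))) (.node (.node (.node (.node (.leaf 1118) (.leaf 2055)) (.node (.leaf 1674)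 (.leaf 1872))) (.node (.node (.leaf 1501) (.leaf 1570)) (.leaf 1698))) (.node (.node (.node (.leaf 263) (.leaf 1716)) (.node (.leaf 1888) (.leaf 556))) (.node (.node (.leaf 1530) (.leaf 1107)) (.leaf 1942)))))) (.node (.node (.node (.node (.node (.node (.leaf 126) (.leaf 1250)) (.node (.leaf 1827) (.leaf 585))) (.node (.node (.leaf 578) (.leaf 697)) (.leaf 1625))) (.node (.node (.node (.leaf 1915) (.leaf 432)) (.node (.leaf 457) (.leaf 1927))) (.node (.node (.leaf 1897) (.leaf 671)) (.leaf 1109)))) (.node (.node (.node (.node (.leaf 1695) (.leaf 298)) (.node (.leaf 1017) (.leaf 1088))) (.node (.node (.leaf 765) (.leaf 1755)) (.leaf 981))) (.node (.node (.node (.leaf 688) (.leaf 594)) (.node (.leaf 1022) (.leaf 1149))) (.node (.node (.leaf 1472) (.leaf 1645)) (.leaf 1122))))) (.node (.node (.node (.node (.node (.leaf 1985) (.leaf 1094)) (.node (.leaf 182) (.leaf 1766))) (.node (.node (.leaf 1539) (.leaf 1818)) (.leaf 1938))) (.node (.node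 (.node (.leaf 1217) (.leaf 1667)) (.node (.leaf 1153) (.leaf 2019))) (.node (.node (.leaf 1585) (.leaf 593)) (.leaf 1667)))) (.node (.node (.node (.node (.leaf 1079) (.leaf 1447)) (.node (.leaf 804) (.leaf 533))) (.node (.node (.leaf 1213) (.leaf 777)) (.leaf 345))) (.node (.node (.node (.leaf 1007) (.leaf 1406)) (.node (.leaf 1431) (.leaf 1633))) (.node (.node (.leaf 1764) (.leaf 714)) (.leaf 39))))))) (.node (.node (.node (.node (.node (.node (.node (.leaf 39) (.leaf 583)) (.node (.leaf 1594) (.leaf 101))) (.node (.node (.leaf 1987) (.leaf 801)) (.leaf 2051))) (.node (.node (.node (.leaf 1881) (.leaf 1095)) (.node (.leaf 1740) (.leaf 1715))) (.node (.node (.leaf 740) (.leaf 2004)) (.leaf 481)))) (.node (.node (.node (.node (.leaf 1464) (.leaf 1583)) (.node (.leaf 1397) (.leaf 1874))) (.node (.node (.leaf 1514) (.leaf 1981)) (.leaf 745))) (.node (.node (.node (.leaf 124) (.leaf 1013)) (.node (.leaf 1308) (.leaf 1991))) (.node (.node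 (.leaf 1569) (.leaf 994)) (.leaf 70))))) (.node (.node (.node (.node (.node (.leaf 2008) (.leaf 753)) (.node (.leaf 1822) (.leaf 1572))) (.node (.node (.leaf 1478) (.leaf 1515)) (.leaf 1585))) (.node (.node (.node (.leaf 199) (.leaf 864)) (.node (.leaf 1206) (.leaf 1895))) (.node (.node (.leaf 1576) (.leaf 738)) (.leaf 890)))) (.node (.node (.node (.node (.leaf 462) (.leaf 1243)) (.node (.leaf 1947) (.leaf 328))) (.node (.node (.leaf 1502) (.leaf 799)) (.leaf 55))) (.node (.node (.node (.leaf 272) (.leaf 497)) (.node (.leaf 372) (.leaf 22))) (.node (.node (.leaf 204) (.leaf 1131)) (.leaf 1213)))))) (.node (.node (.node (.node (.node (.node (.leaf 282) (.leaf 710)) (.node (.leaf 1890) (.leaf 667))) (.node (.node (.leaf 339) (.leaf 1674)) (.leaf 1285))) (.node (.node (.node (.leaf 1632) (.leaf 18)) (.node (.leaf 1018) (.leaf 1057))) (.node (.node (.leaf 329) (.leaf 1508)) (.leaf 334)))) (.node (.node (.node (.node (.leaf 257) (.leaf 921))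 (.node (.leaf 962) (.leaf 1863))) (.node (.node (.leaf 284) (.leaf 1386)) (.leaf 212))) (.node (.node (.node (.leaf 1913) (.leaf 1654)) (.node (.leaf 2035) (.leaf 658))) (.node (.node (.leaf 476) (.leaf 19)) (.leaf 1828))))) (.node (.node (.node (.node (.node (.leaf 1336) (.leaf 186)) (.node (.leaf 1963) (.leaf 1723))) (.node (.node (.leaf 439) (.leaf 730)) (.leaf 533))) (.node (.node (.node (.leaf 1960) (.leaf 162)) (.node (.leaf 1509) (.leaf 272))) (.node (.node (.leaf 182) (.leaf 693)) (.leaf 1766)))) (.node (.node (.node (.node (.leaf 1686) (.leaf 833)) (.node (.leaf 729) (.leaf 611))) (.node (.node (.leaf 1944) (.leaf 1607)) (.leaf 496))) (.node (.node (.node (.leaf 2017) (.leaf 75)) (.node (.leaf 1066) (.leaf 37))) (.node (.node (.leaf 1144) (.leaf 1652)) (.leaf 1168)))))))))) (.node (.node (.node (.node (.node (.node (.node (.node (.node (.node (.leaf 532) (.leaf 870)) (.node (.leaf 1177) (.leaf 1297))) (.node (.node (.leaf 1630)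 (.leaf 1293)) (.node (.leaf 1593) (.leaf 767)))) (.node (.node (.node (.leaf 1173) (.leaf 1373)) (.node (.leaf 1206) (.leaf 1870))) (.node (.node (.leaf 1627) (.leaf 1974)) (.leaf 287)))) (.node (.node (.node (.node (.leaf 447) (.leaf 1409)) (.node (.leaf 1083) (.leaf 316))) (.node (.node (.leaf 844) (.leaf 1304)) (.leaf 524))) (.node (.node (.node (.leaf 1087) (.leaf 673)) (.node (.leaf 743) (.leaf 250))) (.node (.node (.leaf 485) (.leaf 1607)) (.leaf 825))))) (.node (.node (.node (.node (.node (.leaf 2045) (.leaf 1818)) (.node (.leaf 1955) (.leaf 1544))) (.node (.node (.leaf 1001) (.leaf 1536)) (.leaf 822))) (.node (.node (.node (.leaf 522) (.leaf 1023)) (.node (.leaf 1338) (.leaf 1546))) (.node (.node (.leaf 645) (.leaf 687)) (.leaf 252)))) (.node (.node (.node (.node (.leaf 1862) (.leaf 1281)) (.node (.leaf 696) (.leaf 309))) (.node (.node (.leaf 1210) (.leaf 964)) (.leaf 177))) (.node (.node (.node (.leaf 1529) (.leaf 1049)) (.node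 (.leaf 842) (.leaf 267))) (.node (.node (.leaf 1017) (.leaf 350)) (.leaf 1942)))))) (.node (.node (.node (.node (.node (.node (.leaf 808) (.leaf 1436)) (.node (.leaf 98) (.leaf 640))) (.node (.node (.leaf 23) (.leaf 122)) (.leaf 1988))) (.node (.node (.node (.leaf 49) (.leaf 964)) (.node (.leaf 24) (.leaf 1749))) (.node (.node (.leaf 1545) (.leaf 896)) (.leaf 914)))) (.node (.node (.node (.node (.leaf 1700) (.leaf 590)) (.node (.leaf 897) (.leaf 319))) (.node (.node (.leaf 1725) (.leaf 190)) (.leaf 1112))) (.node (.node (.node (.leaf 239) (.leaf 298)) (.node (.leaf 273) (.leaf 1688))) (.node (.node (.leaf 1345) (.leaf 1827)) (.leaf 759))))) (.node (.node (.node (.node (.node (.leaf 505) (.leaf 805)) (.node (.leaf 1012) (.leaf 142))) (.node (.node (.leaf 581) (.leaf 158)) (.leaf 1726))) (.node (.node (.node (.leaf 107) (.leaf 1105)) (.node (.leaf 775) (.leaf 1957))) (.node (.node (.leaf 1052) (.leaf 50)) (.leaf 1504)))) (.node (.node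 (.node (.node (.leaf 3) (.leaf 1989)) (.node (.leaf 549) (.leaf 873))) (.node (.node (.leaf 493) (.leaf 1613)) (.leaf 947))) (.node (.node (.node (.leaf 717) (.leaf 1716)) (.node (.leaf 1142) (.leaf 703))) (.node (.node (.leaf 568) (.leaf 1168)) (.leaf 793))))))) (.node (.node (.node (.node (.node (.node (.node (.leaf 2009) (.leaf 82)) (.node (.leaf 1358) (.leaf 1823))) (.node (.node (.leaf 986) (.leaf 362)) (.leaf 1240))) (.node (.node (.node (.leaf 1538) (.leaf 82)) (.node (.leaf 962) (.leaf 193))) (.node (.node (.leaf 247) (.leaf 520)) (.leaf 534)))) (.node (.node (.node (.node (.leaf 191) (.leaf 479)) (.node (.leaf 525) (.leaf 1309))) (.node (.node (.leaf 945) (.leaf 1338)) (.leaf 961))) (.node (.node (.node (.leaf 1665) (.leaf 1318)) (.node (.leaf 112) (.leaf 1235))) (.node (.node (.leaf 1315) (.leaf 561)) (.leaf 289))))) (.node (.node (.node (.node (.node (.leaf 707) (.leaf 1217)) (.node (.leaf 652) (.leaf 1485))) (.node (.node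 (.leaf 266) (.leaf 1890)) (.leaf 1357))) (.node (.node (.node (.leaf 1801) (.leaf 489)) (.node (.leaf 1196) (.leaf 761))) (.node (.node (.leaf 902) (.leaf 1306)) (.leaf 354)))) (.node (.node (.node (.node (.leaf 904) (.leaf 1569)) (.node (.leaf 942) (.leaf 443))) (.node (.node (.leaf 1063) (.leaf 1673)) (.leaf 98))) (.node (.node (.node (.leaf 1156) (.leaf 214)) (.node (.leaf 1142) (.leaf 147))) (.node (.node (.leaf 764) (.leaf 543)) (.leaf 1144)))))) (.node (.node (.node (.node (.node (.node (.leaf 2024) (.leaf 1025)) (.node (.leaf 523) (.leaf 878))) (.node (.node (.leaf 846) (.leaf 1397)) (.leaf 1754))) (.node (.node (.node (.leaf 436) (.leaf 469)) (.node (.leaf 262) (.leaf 628))) (.node (.node (.leaf 1611) (.leaf 2015)) (.leaf 189)))) (.node (.node (.node (.node (.leaf 367) (.leaf 1458)) (.node (.leaf 1647) (.leaf 51))) (.node (.node (.leaf 1868) (.leaf 1158)) (.leaf 790))) (.node (.node (.node (.leaf 422) (.leaf 1137)) (.node (.leaf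 833) (.leaf 390))) (.node (.node (.leaf 306) (.leaf 762)) (.leaf 1048))))) (.node (.node (.node (.node (.node (.leaf 1385) (.leaf 1120)) (.node (.leaf 1372) (.leaf 268))) (.node (.node (.leaf 1216) (.leaf 1524)) (.leaf 1963))) (.node (.node (.node (.leaf 1273) (.leaf 530)) (.node (.leaf 793) (.leaf 1532))) (.node (.node (.leaf 48) (.leaf 1913)) (.leaf 910)))) (.node (.node (.node (.node (.leaf 1796) (.leaf 820)) (.node (.leaf 1932) (.leaf 83))) (.node (.node (.leaf 1736) (.leaf 667)) (.leaf 275))) (.node (.node (.node (.leaf 1067) (.leaf 1330)) (.node (.leaf 1033) (.leaf 1121))) (.node (.node (.leaf 746) (.leaf 227)) (.leaf 1165)))))))) (.node (.node (.node (.node (.node (.node (.node (.node (.leaf 1291) (.leaf 1062)) (.node (.leaf 576) (.leaf 153))) (.node (.node (.leaf 298) (.leaf 715)) (.node (.leaf 1198) (.leaf 1657)))) (.node (.node (.node (.leaf 457) (.leaf 1672)) (.node (.leaf 824) (.leaf 18))) (.node (.node (.leaf 1059) (.leaf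 1615)) (.leaf 891)))) (.node (.node (.node (.node (.leaf 1715) (.leaf 1249)) (.node (.leaf 1019) (.leaf 86))) (.node (.node (.leaf 1478) (.leaf 536)) (.leaf 1457))) (.node (.node (.node (.leaf 225) (.leaf 1203)) (.node (.leaf 1547) (.leaf 381))) (.node (.node (.leaf 607) (.leaf 165)) (.leaf 1103))))) (.node (.node (.node (.node (.node (.leaf 264) (.leaf 479)) (.node (.leaf 768) (.leaf 1395))) (.node (.node (.leaf 774) (.leaf 1815)) (.leaf 1701))) (.node (.node (.node (.leaf 1446) (.leaf 1843)) (.node (.leaf 1586) (.leaf 433))) (.node (.node (.leaf 347) (.leaf 317)) (.leaf 818)))) (.node (.node (.node (.node (.leaf 1670) (.leaf 403)) (.node (.leaf 1513) (.leaf 946))) (.node (.node (.leaf 1790) (.leaf 384)) (.leaf 1847))) (.node (.node (.node (.leaf 1342) (.leaf 1911)) (.node (.leaf 727) (.leaf 584))) (.node (.node (.leaf 84) (.leaf 1620)) (.leaf 117)))))) (.node (.node (.node (.node (.node (.node (.leaf 1502) (.leaf 1214)) (.node (.leaf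 960) (.leaf 1091))) (.node (.node (.leaf 231) (.leaf 313)) (.leaf 901))) (.node (.node (.node (.leaf 821) (.leaf 1453)) (.node (.leaf 836) (.leaf 1703))) (.node (.node (.leaf 1304) (.leaf 1560)) (.leaf 1583)))) (.node (.node (.node (.node (.leaf 97) (.leaf 131)) (.node (.leaf 1357) (.leaf 1198))) (.node (.node (.leaf 1171) (.leaf 1577)) (.leaf 1137))) (.node (.node (.node (.leaf 785) (.leaf 1374)) (.node (.leaf 484) (.leaf 383))) (.node (.node (.leaf 291) (.leaf 1404)) (.leaf 1731))))) (.node (.node (.node (.node (.node (.leaf 60) (.leaf 222)) (.node (.leaf 1516) (.leaf 257))) (.node (.node (.leaf 1833) (.leaf 758)) (.leaf 1963))) (.node (.node (.node (.leaf 186) (.leaf 1055)) (.node (.leaf 1128) (.leaf 1962))) (.node (.node (.leaf 693) (.leaf 225)) (.leaf 1502)))) (.node (.node (.node (.node (.leaf 1615) (.leaf 1304)) (.node (.leaf 1937) (.leaf 259))) (.node (.node (.leaf 1989) (.leaf 735)) (.leaf 1186))) (.node (.node (.node (.leaf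 935) (.leaf 812)) (.node (.leaf 1410) (.leaf 259))) (.node (.node (.leaf 18) (.leaf 1120)) (.leaf 1561))))))) (.node (.node (.node (.node (.node (.node (.node (.leaf 1297) (.leaf 1540)) (.node (.leaf 1667) (.leaf 1536))) (.node (.node (.leaf 1255) (.leaf 500)) (.leaf 1330))) (.node (.node (.node (.leaf 1167) (.leaf 1764)) (.node (.leaf 1043) (.leaf 294))) (.node (.node (.leaf 1327) (.leaf 1575)) (.leaf 333)))) (.node (.node (.node (.node (.leaf 1328) (.leaf 97)) (.node (.leaf 1660) (.leaf 610))) (.node (.node (.leaf 8) (.leaf 1551)) (.leaf 64))) (.node (.node (.node (.leaf 1813) (.leaf 1652)) (.node (.leaf 1809) (.leaf 75))) (.node (.node (.leaf 1451) (.leaf 1690)) (.leaf 1112))))) (.node (.node (.node (.node (.node (.leaf 631) (.leaf 157)) (.node (.leaf 976) (.leaf 1372))) (.node (.node (.leaf 886) (.leaf 1230)) (.leaf 1901))) (.node (.node (.node (.leaf 505) (.leaf 1468)) (.node (.leaf 1588) (.leaf 1322))) (.node (.node (.leaf 1589)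 (.leaf 1526)) (.leaf 184)))) (.node (.node (.node (.node (.leaf 1459) (.leaf 1275)) (.node (.leaf 1012) (.leaf 1880))) (.node (.node (.leaf 1189) (.leaf 1682)) (.leaf 1180))) (.node (.node (.node (.leaf 271) (.leaf 1130)) (.node (.leaf 934) (.leaf 748))) (.node (.node (.leaf 1159) (.leaf 240)) (.leaf 678)))))) (.node (.node (.node (.node (.node (.node (.leaf 2031) (.leaf 1395)) (.node (.leaf 1131) (.leaf 785))) (.node (.node (.leaf 1567) (.leaf 1513)) (.leaf 1741))) (.node (.node (.node (.leaf 933) (.leaf 875)) (.node (.leaf 292) (.leaf 616))) (.node (.node (.leaf 222) (.leaf 141)) (.leaf 356)))) (.node (.node (.node (.node (.leaf 531) (.leaf 1392)) (.node (.leaf 1050) (.leaf 822))) (.node (.node (.leaf 464) (.leaf 973)) (.leaf 425))) (.node (.node (.node (.leaf 1229) (.leaf 477)) (.node (.leaf 67) (.leaf 89))) (.node (.node (.leaf 1944) (.leaf 1775)) (.leaf 715))))) (.node (.node (.node (.node (.node (.leaf 478) (.leaf 888)) (.node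 (.leaf 1397) (.leaf 1270))) (.node (.node (.leaf 1469) (.leaf 1082)) (.leaf 281))) (.node (.node (.node (.leaf 2030) (.leaf 1570)) (.node (.leaf 1882) (.leaf 1205))) (.node (.node (.leaf 1675) (.leaf 1677)) (.leaf 1739)))) (.node (.node (.node (.node (.leaf 1901) (.leaf 1313)) (.node (.leaf 1509) (.leaf 736))) (.node (.node (.leaf 375) (.leaf 1484)) (.leaf 391))) (.node (.node (.node (.leaf 411) (.leaf 1816)) (.node (.leaf 1510) (.leaf 1727))) (.node (.node (.leaf 833) (.leaf 1093)) (.leaf 646))))))))) (.node (.node (.node (.node (.node (.node (.node (.node (.node (.leaf 1194) (.leaf 853)) (.node (.leaf 1295) (.leaf 409))) (.node (.node (.leaf 441) (.leaf 1922)) (.node (.leaf 1238) (.leaf 224)))) (.node (.node (.node (.leaf 778) (.leaf 1461)) (.node (.leaf 909) (.leaf 1384))) (.node (.node (.leaf 346) (.leaf 725)) (.leaf 396)))) (.node (.node (.node (.node (.leaf 1669) (.leaf 529)) (.node (.leaf 250) (.leaf 1108))) (.node (.node (.leaf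 377) (.leaf 205)) (.leaf 1612))) (.node (.node (.node (.leaf 223) (.leaf 182)) (.node (.leaf 808) (.leaf 1505))) (.node (.node (.leaf 1191) (.leaf 438)) (.leaf 439))))) (.node (.node (.node (.node (.node (.leaf 2049) (.leaf 1204)) (.node (.leaf 1645) (.leaf 1720))) (.node (.node (.leaf 130) (.leaf 206)) (.leaf 1676))) (.node (.node (.node (.leaf 560) (.leaf 1955)) (.node (.leaf 1292) (.leaf 1358))) (.node (.node (.leaf 1742) (.leaf 1993)) (.leaf 1754)))) (.node (.node (.node (.node (.leaf 1426) (.leaf 1103)) (.node (.leaf 481) (.leaf 521))) (.node (.node (.leaf 1280) (.leaf 181)) (.leaf 1145))) (.node (.node (.node (.leaf 2035) (.leaf 1209)) (.node (.leaf 355) (.leaf 637))) (.node (.node (.leaf 228) (.leaf 238)) (.leaf 1936)))))) (.node (.node (.node (.node (.node (.node (.leaf 122) (.leaf 1192)) (.node (.leaf 607) (.leaf 594))) (.node (.node (.leaf 1902) (.leaf 1506)) (.leaf 1863))) (.node (.node (.node (.leaf 532) (.leaf 1546)) (.node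 (.leaf 166) (.leaf 1295))) (.node (.node (.leaf 1325) (.leaf 427)) (.leaf 1195)))) (.node (.node (.node (.node (.leaf 1543) (.leaf 848)) (.node (.leaf 680) (.leaf 207))) (.node (.node (.leaf 251) (.leaf 1326)) (.leaf 823))) (.node (.node (.node (.leaf 242) (.leaf 1174)) (.node (.leaf 1879) (.leaf 107))) (.node (.node (.leaf 1506) (.leaf 1159)) (.leaf 608))))) (.node (.node (.node (.node (.node (.leaf 1534) (.leaf 357)) (.node (.leaf 1658) (.leaf 879))) (.node (.node (.leaf 1778) (.leaf 1181)) (.leaf 518))) (.node (.node (.node (.leaf 564) (.leaf 1375)) (.node (.leaf 1156) (.leaf 1563))) (.node (.node (.leaf 1068) (.leaf 1654)) (.leaf 1422)))) (.node (.node (.node (.node (.leaf 1267) (.leaf 1239)) (.node (.leaf 1132) (.leaf 1875))) (.node (.node (.leaf 1476) (.leaf 652)) (.leaf 1701))) (.node (.node (.node (.leaf 59) (.leaf 1739)) (.node (.leaf 863) (.leaf 1956))) (.node (.node (.leaf 1282) (.leaf 465)) (.leaf 806))))))) (.node (.node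 (.node (.node (.node (.node (.node (.leaf 517) (.leaf 826)) (.node (.leaf 1131) (.leaf 1787))) (.node (.node (.leaf 1169) (.leaf 464)) (.leaf 356))) (.node (.node (.node (.leaf 148) (.leaf 1787)) (.node (.leaf 1158) (.leaf 1939))) (.node (.node (.leaf 1918) (.leaf 1011)) (.leaf 1064)))) (.node (.node (.node (.node (.leaf 1558) (.leaf 1228)) (.node (.leaf 813) (.leaf 1744))) (.node (.node (.leaf 1811) (.leaf 1214)) (.leaf 1722))) (.node (.node (.node (.leaf 245) (.leaf 1769)) (.node (.leaf 1208) (.leaf 1095))) (.node (.node (.leaf 663) (.leaf 836)) (.leaf 766))))) (.node (.node (.node (.node (.node (.leaf 1554) (.leaf 1922)) (.node (.leaf 126) (.leaf 498))) (.node (.node (.leaf 341) (.leaf 1512)) (.leaf 1533))) (.node (.node (.node (.leaf 731) (.leaf 1144)) (.node (.leaf 847) (.leaf 294))) (.node (.node (.leaf 930) (.leaf 983)) (.leaf 1938)))) (.node (.node (.node (.node (.leaf 1482) (.leaf 1779)) (.node (.leaf 1150) (.leaf 1877))) (.node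 (.node (.leaf 633) (.leaf 1778)) (.leaf 166))) (.node (.node (.node (.leaf 1820) (.leaf 1726)) (.node (.leaf 1173) (.leaf 785))) (.node (.node (.leaf 1180) (.leaf 1089)) (.leaf 494)))))) (.node (.node (.node (.node (.node (.node (.leaf 1008) (.leaf 168)) (.node (.leaf 642) (.leaf 222))) (.node (.node (.leaf 733) (.leaf 424)) (.leaf 469))) (.node (.node (.node (.leaf 420) (.leaf 258)) (.node (.leaf 992) (.leaf 1998))) (.node (.node (.leaf 1838) (.leaf 146)) (.leaf 1749)))) (.node (.node (.node (.node (.leaf 1621) (.leaf 1308)) (.node (.leaf 512) (.leaf 1265))) (.node (.node (.leaf 331) (.leaf 1021)) (.leaf 1611))) (.node (.node (.node (.leaf 636) (.leaf 1661)) (.node (.leaf 811) (.leaf 813))) (.node (.node (.leaf 543) (.leaf 1289)) (.leaf 792))))) (.node (.node (.node (.node (.node (.leaf 1689) (.leaf 610)) (.node (.leaf 1303) (.leaf 1353))) (.node (.node (.leaf 1674) (.leaf 1005)) (.leaf 1474))) (.node (.node (.node (.leaf 640) (.leaf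 450)) (.node (.leaf 624) (.leaf 227))) (.node (.node (.leaf 2048) (.leaf 964)) (.leaf 1779)))) (.node (.node (.node (.node (.leaf 7) (.leaf 1311)) (.node (.leaf 1679) (.leaf 1073))) (.node (.node (.leaf 1047) (.leaf 438)) (.leaf 1129))) (.node (.node (.node (.leaf 376) (.leaf 731)) (.node (.leaf 1315) (.leaf 1968))) (.node (.node (.leaf 1055) (.leaf 1843)) (.leaf 1311)))))))) (.node (.node (.node (.node (.node (.node (.node (.node (.leaf 8) (.leaf 1759)) (.node (.leaf 1720) (.leaf 1531))) (.node (.node (.leaf 665) (.leaf 1851)) (.node (.leaf 102) (.leaf 236)))) (.node (.node (.node (.leaf 601) (.leaf 358)) (.node (.leaf 200) (.leaf 832))) (.node (.node (.leaf 2049) (.leaf 812)) (.leaf 1115)))) (.node (.node (.node (.node (.leaf 425) (.leaf 773)) (.node (.leaf 409) (.leaf 1306))) (.node (.node (.leaf 713) (.leaf 442)) (.leaf 1670))) (.node (.node (.node (.leaf 1747) (.leaf 744)) (.node (.leaf 1310) (.leaf 1854))) (.node (.node (.leaf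 1202) (.leaf 18)) (.leaf 1126))))) (.node (.node (.node (.node (.node (.leaf 989) (.leaf 1148)) (.node (.leaf 1629) (.leaf 1269))) (.node (.node (.leaf 1027) (.leaf 1087)) (.leaf 1313))) (.node (.node (.node (.leaf 2020) (.leaf 1004)) (.node (.leaf 130) (.leaf 353))) (.node (.node (.leaf 318) (.leaf 2038)) (.leaf 372)))) (.node (.node (.node (.node (.leaf 844) (.leaf 1088)) (.node (.leaf 2031) (.leaf 264))) (.node (.node (.leaf 651) (.leaf 280)) (.leaf 1714))) (.node (.node (.node (.leaf 2050) (.leaf 1331)) (.node (.leaf 563) (.leaf 1963))) (.node (.node (.leaf 2019) (.leaf 314)) (.leaf 103)))))) (.node (.node (.node (.node (.node (.node (.leaf 1205) (.leaf 680)) (.node (.leaf 1899) (.leaf 1192))) (.node (.node (.leaf 319) (.leaf 1598)) (.leaf 120))) (.node (.node (.node (.leaf 435) (.leaf 35)) (.node (.leaf 1292) (.leaf 1928))) (.node (.node (.leaf 983) (.leaf 260)) (.leaf 193)))) (.node (.node (.node (.node (.leaf 1824) (.leaf 199))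 (.node (.leaf 1246) (.leaf 51))) (.node (.node (.leaf 212) (.leaf 25)) (.leaf 977))) (.node (.node (.node (.leaf 604) (.leaf 1916)) (.node (.leaf 366) (.leaf 2001))) (.node (.node (.leaf 905) (.leaf 1622)) (.leaf 798))))) (.node (.node (.node (.node (.node (.leaf 887) (.leaf 555)) (.node (.leaf 1086) (.leaf 1405))) (.node (.node (.leaf 978) (.leaf 988)) (.leaf 1482))) (.node (.node (.node (.leaf 478) (.leaf 994)) (.node (.leaf 1820) (.leaf 903))) (.node (.node (.leaf 945) (.leaf 958)) (.leaf 1566)))) (.node (.node (.node (.node (.leaf 800) (.leaf 1209)) (.node (.leaf 355) (.leaf 1808))) (.node (.node (.leaf 897) (.leaf 1599)) (.leaf 1405))) (.node (.node (.node (.leaf 34) (.leaf 1766)) (.node (.leaf 1302) (.leaf 1518))) (.node (.node (.leaf 602) (.leaf 152)) (.leaf 1160))))))) (.node (.node (.node (.node (.node (.node (.node (.leaf 17) (.leaf 1967)) (.node (.leaf 1661) (.leaf 1281))) (.node (.node (.leaf 724) (.leaf 801)) (.leaf 16)))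 (.node (.node (.node (.leaf 1574) (.leaf 1568)) (.node (.leaf 1594) (.leaf 818))) (.node (.node (.leaf 1619) (.leaf 1675)) (.leaf 1666)))) (.node (.node (.node (.node (.leaf 1709) (.leaf 51)) (.node (.leaf 1119) (.leaf 2049))) (.node (.node (.leaf 1999) (.leaf 1911)) (.leaf 968))) (.node (.node (.node (.leaf 236) (.leaf 1441)) (.node (.leaf 1035) (.leaf 41))) (.node (.node (.leaf 1022) (.leaf 1699)) (.leaf 760))))) (.node (.node (.node (.node (.node (.leaf 1551) (.leaf 2020)) (.node (.leaf 613) (.leaf 508))) (.node (.node (.leaf 442) (.leaf 600)) (.leaf 1518))) (.node (.node (.node (.leaf 1792) (.leaf 1929)) (.node (.leaf 1721) (.leaf 262))) (.node (.node (.leaf 1032) (.leaf 1341)) (.leaf 2052)))) (.node (.node (.node (.node (.leaf 1535) (.leaf 802)) (.node (.leaf 1126) (.leaf 2028))) (.node (.node (.leaf 863) (.leaf 1598)) (.leaf 1806))) (.node (.node (.node (.leaf 273) (.leaf 1980)) (.node (.leaf 17) (.leaf 349))) (.node (.node (.leaf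 1263) (.leaf 1736)) (.leaf 750)))))) (.node (.node (.node (.node (.node (.node (.leaf 495) (.leaf 1530)) (.node (.leaf 1603) (.leaf 1430))) (.node (.node (.leaf 700) (.leaf 1212)) (.leaf 1868))) (.node (.node (.node (.leaf 662) (.leaf 1352)) (.node (.leaf 1959) (.leaf 1663))) (.node (.node (.leaf 1825) (.leaf 877)) (.leaf 732)))) (.node (.node (.node (.node (.leaf 1789) (.leaf 1584)) (.node (.leaf 1513) (.leaf 1374))) (.node (.node (.leaf 523) (.leaf 454)) (.leaf 293))) (.node (.node (.node (.leaf 402) (.leaf 575)) (.node (.leaf 1326) (.leaf 1670))) (.node (.node (.leaf 296) (.leaf 1438)) (.leaf 716))))) (.node (.node (.node (.node (.node (.leaf 2006) (.leaf 136)) (.node (.leaf 255) (.leaf 618))) (.node (.node (.leaf 221) (.leaf 127)) (.leaf 211))) (.node (.node (.node (.leaf 1800) (.leaf 536)) (.node (.leaf 795) (.leaf 817))) (.node (.node (.leaf 1097) (.leaf 1534)) (.leaf 887)))) (.node (.node (.node (.node (.leaf 852) (.leaf 364))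 (.node (.leaf 1090) (.leaf 1389))) (.node (.node (.leaf 1855) (.leaf 516)) (.leaf 1264))) (.node (.node (.node (.leaf 1428) (.leaf 580)) (.node (.leaf 1864) (.leaf 742))) (.node (.node (.leaf 1133) (.leaf 906)) (.leaf 305)))))))))))

/-- Part of `ptImg`. -/
def ptImg2 : Tr := (.node (.node (.node (.node (.node (.node (.node (.node (.node (.node (.node (.leaf 488) (.leaf 854)) (.node (.leaf 1371) (.leaf 475))) (.node (.node (.leaf 1731) (.leaf 439)) (.node (.leaf 1798) (.leaf 344)))) (.node (.node (.node (.leaf 1982) (.leaf 42)) (.node (.leaf 1760) (.leaf 1009))) (.node (.node (.leaf 1463) (.leaf 1837)) (.leaf 1239)))) (.node (.node (.node (.node (.leaf 1761) (.leaf 1243)) (.node (.leaf 1177) (.leaf 1942))) (.node (.node (.leaf 831) (.leaf 1231)) (.leaf 126))) (.node (.node (.node (.leaf 1251) (.leaf 1153)) (.node (.leaf 632) (.leaf 1338))) (.node (.node (.leaf 689) (.leaf 1587)) (.leaf 450))))) (.node (.node (.node (.node (.node (.leaf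 1593) (.leaf 93)) (.node (.leaf 941) (.leaf 1754))) (.node (.node (.leaf 1863) (.leaf 1213)) (.leaf 1043))) (.node (.node (.node (.leaf 830) (.leaf 49)) (.node (.leaf 1408) (.leaf 939))) (.node (.node (.leaf 1755) (.leaf 1282)) (.leaf 1830)))) (.node (.node (.node (.node (.leaf 1821) (.leaf 590)) (.node (.leaf 1284) (.leaf 307))) (.node (.node (.leaf 312) (.leaf 1421)) (.leaf 2007))) (.node (.node (.node (.leaf 361) (.leaf 902)) (.node (.leaf 1900) (.leaf 1497))) (.node (.node (.leaf 866) (.leaf 1085)) (.leaf 1506)))))) (.node (.node (.node (.node (.node (.node (.leaf 1907) (.leaf 1983)) (.node (.leaf 1732) (.leaf 1093))) (.node (.node (.leaf 1805) (.leaf 1489)) (.leaf 85))) (.node (.node (.node (.leaf 1783) (.leaf 955)) (.node (.leaf 1151) (.leaf 1843))) (.node (.node (.leaf 756) (.leaf 240)) (.leaf 122)))) (.node (.node (.node (.node (.leaf 817) (.leaf 1864)) (.node (.leaf 1851) (.leaf 1446))) (.node (.node (.leaf 1051) (.leaf 410))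 (.leaf 1361))) (.node (.node (.node (.leaf 1892) (.leaf 768)) (.node (.leaf 448) (.leaf 1716))) (.node (.node (.leaf 1381) (.leaf 1293)) (.leaf 1982))))) (.node (.node (.node (.node (.node (.leaf 813) (.leaf 102)) (.node (.leaf 1093) (.leaf 1394))) (.node (.node (.leaf 1318) (.leaf 274)) (.leaf 2019))) (.node (.node (.node (.leaf 1036) (.leaf 1757)) (.node (.leaf 974) (.leaf 1885))) (.node (.node (.leaf 1146) (.leaf 1143)) (.leaf 855)))) (.node (.node (.node (.node (.leaf 1941) (.leaf 487)) (.node (.leaf 718) (.leaf 901))) (.node (.node (.leaf 1694) (.leaf 68)) (.leaf 1006))) (.node (.node (.node (.leaf 2037) (.leaf 1801)) (.node (.leaf 160) (.leaf 702))) (.node (.node (.leaf 1604) (.leaf 1858)) (.leaf 1382))))))) (.node (.node (.node (.node (.node (.node (.node (.leaf 1625) (.leaf 383)) (.node (.leaf 497) (.leaf 573))) (.node (.node (.leaf 1916) (.leaf 537)) (.node (.leaf 1096) (.leaf 2057)))) (.node (.node (.node (.leaf 1033) (.leaf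 1326)) (.node (.leaf 62) (.leaf 1432))) (.node (.node (.leaf 1523) (.leaf 1825)) (.leaf 537)))) (.node (.node (.node (.node (.leaf 1153) (.leaf 466)) (.node (.leaf 1486) (.leaf 449))) (.node (.node (.leaf 303) (.leaf 458)) (.leaf 609))) (.node (.node (.node (.leaf 502) (.leaf 1812)) (.node (.leaf 1688) (.leaf 690))) (.node (.node (.leaf 1039) (.leaf 10)) (.leaf 934))))) (.node (.node (.node (.node (.node (.leaf 1218) (.leaf 1216)) (.node (.leaf 1257) (.leaf 1071))) (.node (.node (.leaf 1109) (.leaf 963)) (.leaf 121))) (.node (.node (.node (.leaf 1017) (.leaf 1062)) (.node (.leaf 1224) (.leaf 1837))) (.node (.node (.leaf 596) (.leaf 1323)) (.leaf 1392)))) (.node (.node (.node (.node (.leaf 1994) (.leaf 963)) (.node (.leaf 570) (.leaf 1208))) (.node (.node (.leaf 1173) (.leaf 1680)) (.leaf 1817))) (.node (.node (.node (.leaf 1541) (.leaf 1817)) (.node (.leaf 1631) (.leaf 1372))) (.node (.node (.leaf 1061) (.leaf 1865)) (.leaf 689))))))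 (.node (.node (.node (.node (.node (.node (.leaf 1327) (.leaf 1836)) (.node (.leaf 1850) (.leaf 1783))) (.node (.node (.leaf 428) (.leaf 1599)) (.leaf 538))) (.node (.node (.node (.leaf 169) (.leaf 853)) (.node (.leaf 1025) (.leaf 1370))) (.node (.node (.leaf 8) (.leaf 1066)) (.leaf 1050)))) (.node (.node (.node (.node (.leaf 1380) (.leaf 1358)) (.node (.leaf 1250) (.leaf 1935))) (.node (.node (.leaf 784) (.leaf 899)) (.leaf 355))) (.node (.node (.node (.leaf 2038) (.leaf 1846)) (.node (.leaf 832) (.leaf 891))) (.node (.node (.leaf 1926) (.leaf 1841)) (.leaf 518))))) (.node (.node (.node (.node (.node (.leaf 990) (.leaf 1929)) (.node (.leaf 980) (.leaf 542))) (.node (.node (.leaf 587) (.leaf 949)) (.leaf 942))) (.node (.node (.node (.leaf 196) (.leaf 100)) (.node (.leaf 1728) (.leaf 1365))) (.node (.node (.leaf 503) (.leaf 92)) (.leaf 653)))) (.node (.node (.node (.node (.leaf 1781) (.leaf 1321)) (.node (.leaf 1789) (.leaf 784))) (.node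 (.node (.leaf 1457) (.leaf 683)) (.leaf 30))) (.node (.node (.node (.leaf 1069) (.leaf 1574)) (.node (.leaf 278) (.leaf 1833))) (.node (.node (.leaf 576) (.leaf 711)) (.leaf 1076)))))))) (.node (.node (.node (.node (.node (.node (.node (.node (.leaf 2031) (.leaf 2012)) (.node (.leaf 1263) (.leaf 956))) (.node (.node (.leaf 1392) (.leaf 1878)) (.node (.leaf 1008) (.leaf 1077)))) (.node (.node (.node (.leaf 1546) (.leaf 1159)) (.node (.leaf 975) (.leaf 1393))) (.node (.node (.leaf 1222) (.leaf 1614)) (.leaf 31)))) (.node (.node (.node (.node (.leaf 700) (.leaf 1965)) (.node (.leaf 602) (.leaf 479))) (.node (.node (.leaf 706) (.leaf 1697)) (.leaf 928))) (.node (.node (.node (.leaf 111) (.leaf 1810)) (.node (.leaf 115) (.leaf 574))) (.node (.node (.leaf 1108) (.leaf 2004)) (.leaf 1337))))) (.node (.node (.node (.node (.node (.leaf 1992) (.leaf 322)) (.node (.leaf 1464) (.leaf 856))) (.node (.node (.leaf 1058) (.leaf 1827)) (.leaf 806)))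 (.node (.node (.node (.leaf 40) (.leaf 1830)) (.node (.leaf 1426) (.leaf 1743))) (.node (.node (.leaf 326) (.leaf 919)) (.leaf 379)))) (.node (.node (.node (.node (.leaf 1703) (.leaf 1126)) (.node (.leaf 1275) (.leaf 1903))) (.node (.node (.leaf 1383) (.leaf 1154)) (.leaf 1839))) (.node (.node (.node (.leaf 590) (.leaf 1431)) (.node (.leaf 121) (.leaf 1877))) (.node (.node (.leaf 1243) (.leaf 514)) (.leaf 1053)))))) (.node (.node (.node (.node (.node (.node (.leaf 312) (.leaf 796)) (.node (.leaf 837) (.leaf 1882))) (.node (.node (.leaf 1537) (.leaf 1400)) (.leaf 1686))) (.node (.node (.node (.leaf 174) (.leaf 471)) (.node (.leaf 1492) (.leaf 734))) (.node (.node (.leaf 1318) (.leaf 1028)) (.leaf 625)))) (.node (.node (.node (.node (.leaf 96) (.leaf 62)) (.node (.leaf 854) (.leaf 1130))) (.node (.node (.leaf 1169) (.leaf 217)) (.leaf 1104))) (.node (.node (.node (.leaf 1274) (.leaf 1467)) (.node (.leaf 1742) (.leaf 368))) (.node (.node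 (.leaf 299) (.leaf 1464)) (.leaf 1549))))) (.node (.node (.node (.node (.node (.leaf 99) (.leaf 1858)) (.node (.leaf 1742) (.leaf 374))) (.node (.node (.leaf 262) (.leaf 955)) (.leaf 1917))) (.node (.node (.node (.leaf 1503) (.leaf 396)) (.node (.leaf 1119) (.leaf 655))) (.node (.node (.leaf 1423) (.leaf 1401)) (.leaf 1726)))) (.node (.node (.node (.node (.leaf 391) (.leaf 1270)) (.node (.leaf 1731) (.leaf 1945))) (.node (.node (.leaf 130) (.leaf 1489)) (.leaf 277))) (.node (.node (.node (.leaf 853) (.leaf 117)) (.node (.leaf 1369) (.leaf 735))) (.node (.node (.leaf 1507) (.leaf 479)) (.leaf 789))))))) (.node (.node (.node (.node (.node (.node (.node (.leaf 823) (.leaf 1436)) (.node (.leaf 1334) (.leaf 1402))) (.node (.node (.leaf 1470) (.leaf 1479)) (.leaf 1056))) (.node (.node (.node (.leaf 1081) (.leaf 1310)) (.node (.leaf 427) (.leaf 1641))) (.node (.node (.leaf 128) (.leaf 67)) (.leaf 378)))) (.node (.node (.node (.node (.leaf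 1242) (.leaf 741)) (.node (.leaf 1715) (.leaf 1222))) (.node (.node (.leaf 2021) (.leaf 1555)) (.leaf 1573))) (.node (.node (.node (.leaf 1493) (.leaf 660)) (.node (.leaf 1762) (.leaf 1511))) (.node (.node (.leaf 218) (.leaf 1029)) (.leaf 42))))) (.node (.node (.node (.node (.node (.leaf 212) (.leaf 1977)) (.node (.leaf 773) (.leaf 1806))) (.node (.node (.leaf 723) (.leaf 1175)) (.leaf 928))) (.node (.node (.node (.leaf 1663) (.leaf 1367)) (.node (.leaf 1369) (.leaf 763))) (.node (.node (.leaf 1200) (.leaf 69)) (.leaf 1941)))) (.node (.node (.node (.node (.leaf 932) (.leaf 265)) (.node (.leaf 863) (.leaf 1180))) (.node (.node (.leaf 59) (.leaf 216)) (.leaf 330))) (.node (.node (.node (.leaf 628) (.leaf 1257)) (.node (.leaf 1079) (.leaf 28))) (.node (.node (.leaf 413) (.leaf 1527)) (.leaf 1197)))))) (.node (.node (.node (.node (.node (.node (.leaf 1870) (.leaf 456)) (.node (.leaf 208) (.leaf 1011))) (.node (.node (.leaf 328) (.leaf 244))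 (.leaf 1946))) (.node (.node (.node (.leaf 428) (.leaf 1439)) (.node (.leaf 2054) (.leaf 976))) (.node (.node (.leaf 471) (.leaf 288)) (.leaf 2008)))) (.node (.node (.node (.node (.leaf 1238) (.leaf 699)) (.node (.leaf 1359) (.leaf 1199))) (.node (.node (.leaf 1257) (.leaf 1570)) (.leaf 1107))) (.node (.node (.node (.leaf 633) (.leaf 146)) (.node (.leaf 955) (.leaf 90))) (.node (.node (.leaf 554) (.leaf 995)) (.leaf 1018))))) (.node (.node (.node (.node (.node (.leaf 1152) (.leaf 750)) (.node (.leaf 654) (.leaf 112))) (.node (.node (.leaf 443) (.leaf 1129)) (.leaf 1621))) (.node (.node (.node (.leaf 844) (.leaf 295)) (.node (.leaf 726) (.leaf 1039))) (.node (.node (.leaf 1922) (.leaf 567)) (.leaf 1133)))) (.node (.node (.node (.node (.leaf 272) (.leaf 756)) (.node (.leaf 1984) (.leaf 121))) (.node (.node (.leaf 843) (.leaf 14)) (.leaf 1103))) (.node (.node (.node (.leaf 1355) (.leaf 648)) (.node (.leaf 875) (.leaf 1925))) (.node (.node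 (.leaf 1461) (.leaf 2014)) (.leaf 1197))))))))) (.node (.node (.node (.node (.node (.node (.node (.node (.node (.leaf 393) (.leaf 1172)) (.node (.leaf 1070) (.leaf 1394))) (.node (.node (.leaf 1319) (.leaf 1500)) (.node (.leaf 1613) (.leaf 414)))) (.node (.node (.node (.leaf 418) (.leaf 295)) (.node (.leaf 459) (.leaf 1740))) (.node (.node (.leaf 541) (.leaf 1613)) (.leaf 884)))) (.node (.node (.node (.node (.leaf 1460) (.leaf 1310)) (.node (.leaf 1403) (.leaf 1593))) (.node (.node (.leaf 494) (.leaf 169)) (.leaf 1388))) (.node (.node (.node (.leaf 1231) (.leaf 531)) (.node (.leaf 128) (.leaf 216))) (.node (.node (.leaf 1509) (.leaf 40)) (.leaf 327))))) (.node (.node (.node (.node (.node (.leaf 16) (.leaf 1306)) (.node (.leaf 1580) (.leaf 474))) (.node (.node (.leaf 396) (.leaf 1115)) (.leaf 859))) (.node (.node (.node (.leaf 1592) (.leaf 1355)) (.node (.leaf 365) (.leaf 528))) (.node (.node (.leaf 1240) (.leaf 1614)) (.leaf 2018))))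 (.node (.node (.node (.node (.leaf 1824) (.leaf 1826)) (.node (.leaf 1692) (.leaf 547))) (.node (.node (.leaf 1020) (.leaf 1624)) (.leaf 694))) (.node (.node (.node (.leaf 1347) (.leaf 481)) (.node (.leaf 174) (.leaf 604))) (.node (.node (.leaf 460) (.leaf 65)) (.leaf 1400)))))) (.node (.node (.node (.node (.node (.node (.leaf 864) (.leaf 1850)) (.node (.leaf 1217) (.leaf 387))) (.node (.node (.leaf 344) (.leaf 1483)) (.leaf 118))) (.node (.node (.node (.leaf 668) (.leaf 1891)) (.node (.leaf 859) (.leaf 1219))) (.node (.node (.leaf 1217) (.leaf 1817)) (.leaf 1409)))) (.node (.node (.node (.node (.leaf 892) (.leaf 1061)) (.node (.leaf 1438) (.leaf 1437))) (.node (.node (.leaf 406) (.leaf 774)) (.leaf 1598))) (.node (.node (.node (.leaf 1368) (.leaf 1647)) (.node (.leaf 1098) (.leaf 1111))) (.node (.node (.leaf 1227) (.leaf 839)) (.leaf 1500))))) (.node (.node (.node (.node (.node (.leaf 1576) (.leaf 1098)) (.node (.leaf 1662) (.leaf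 1069))) (.node (.node (.leaf 1241) (.leaf 1874)) (.leaf 280))) (.node (.node (.node (.leaf 1631) (.leaf 166)) (.node (.leaf 1548) (.leaf 1413))) (.node (.node (.leaf 496) (.leaf 188)) (.leaf 1528)))) (.node (.node (.node (.node (.leaf 1236) (.leaf 48)) (.node (.leaf 1468) (.leaf 1706))) (.node (.node (.leaf 893) (.leaf 879)) (.leaf 806))) (.node (.node (.node (.leaf 535) (.leaf 1314)) (.node (.leaf 806) (.leaf 892))) (.node (.node (.leaf 1841) (.leaf 1185)) (.leaf 960))))))) (.node (.node (.node (.node (.node (.node (.node (.leaf 494) (.leaf 277)) (.node (.leaf 484) (.leaf 2029))) (.node (.node (.leaf 1795) (.leaf 1336)) (.leaf 1719))) (.node (.node (.node (.leaf 1519) (.leaf 1788)) (.node (.leaf 355) (.leaf 1674))) (.node (.node (.leaf 890) (.leaf 1219)) (.leaf 1786)))) (.node (.node (.node (.node (.leaf 282) (.leaf 1146)) (.node (.leaf 670) (.leaf 22))) (.node (.node (.leaf 1202) (.leaf 1719)) (.leaf 1425))) (.node (.node (.node (.leaf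 384) (.leaf 1430)) (.node (.leaf 2005) (.leaf 48))) (.node (.node (.leaf 1417) (.leaf 1768)) (.leaf 516))))) (.node (.node (.node (.node (.node (.leaf 911) (.leaf 1317)) (.node (.leaf 1921) (.leaf 1466))) (.node (.node (.leaf 1203) (.leaf 771)) (.leaf 1366))) (.node (.node (.node (.leaf 290) (.leaf 991)) (.node (.leaf 375) (.leaf 1950))) (.node (.node (.leaf 1177) (.leaf 2054)) (.leaf 1942)))) (.node (.node (.node (.node (.leaf 1897) (.leaf 1481)) (.node (.leaf 370) (.leaf 1346))) (.node (.node (.leaf 257) (.leaf 1453)) (.leaf 999))) (.node (.node (.node (.leaf 2012) (.leaf 1717)) (.node (.leaf 1854) (.leaf 1765))) (.node (.node (.leaf 835) (.leaf 697)) (.leaf 1277)))))) (.node (.node (.node (.node (.node (.node (.leaf 1031) (.leaf 1360)) (.node (.leaf 1148) (.leaf 831))) (.node (.node (.leaf 1168) (.leaf 1497)) (.leaf 1314))) (.node (.node (.node (.leaf 176) (.leaf 965)) (.node (.leaf 1638) (.leaf 611))) (.node (.node (.leaf 1624)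 (.leaf 512)) (.leaf 87)))) (.node (.node (.node (.node (.leaf 1475) (.leaf 791)) (.node (.leaf 359) (.leaf 1435))) (.node (.node (.leaf 917) (.leaf 1087)) (.leaf 1427))) (.node (.node (.node (.leaf 1788) (.leaf 1579)) (.node (.leaf 1256) (.leaf 24))) (.node (.node (.leaf 104) (.leaf 1365)) (.leaf 588))))) (.node (.node (.node (.node (.node (.leaf 895) (.leaf 1236)) (.node (.leaf 1334) (.leaf 1637))) (.node (.node (.leaf 1474) (.leaf 1564)) (.leaf 1752))) (.node (.node (.node (.leaf 664) (.leaf 407)) (.node (.leaf 966) (.leaf 165))) (.node (.node (.leaf 382) (.leaf 508)) (.leaf 1768)))) (.node (.node (.node (.node (.leaf 1962) (.leaf 1246)) (.node (.leaf 309) (.leaf 592))) (.node (.node (.leaf 167) (.leaf 1610)) (.leaf 974))) (.node (.node (.node (.leaf 131) (.leaf 542)) (.node (.leaf 623) (.leaf 383))) (.node (.node (.leaf 170) (.leaf 691)) (.leaf 1220)))))))) (.node (.node (.node (.node (.node (.node (.node (.node (.leaf 1844) (.leaf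 586)) (.node (.leaf 1590) (.leaf 818))) (.node (.node (.leaf 2017) (.leaf 241)) (.node (.leaf 26) (.leaf 53)))) (.node (.node (.node (.leaf 1339) (.leaf 806)) (.node (.leaf 1179) (.leaf 1486))) (.node (.node (.leaf 1053) (.leaf 621)) (.leaf 1995)))) (.node (.node (.node (.node (.leaf 1428) (.leaf 1195)) (.node (.leaf 1344) (.leaf 1131))) (.node (.node (.leaf 358) (.leaf 1631)) (.leaf 1565))) (.node (.node (.node (.leaf 887) (.leaf 423)) (.node (.leaf 835) (.leaf 1084))) (.node (.node (.leaf 1066) (.leaf 1908)) (.leaf 1104))))) (.node (.node (.node (.node (.node (.leaf 855) (.leaf 281)) (.node (.leaf 1766) (.leaf 426))) (.node (.node (.leaf 231) (.leaf 1134)) (.leaf 503))) (.node (.node (.node (.leaf 1373) (.leaf 1200)) (.node (.leaf 1607) (.leaf 855))) (.node (.node (.leaf 976) (.leaf 520)) (.leaf 284)))) (.node (.node (.node (.node (.leaf 1536) (.leaf 1648)) (.node (.leaf 2030) (.leaf 1458))) (.node (.node (.leaf 666) (.leaf 1419))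 (.leaf 1379))) (.node (.node (.node (.leaf 782) (.leaf 775)) (.node (.leaf 1265) (.leaf 2018))) (.node (.node (.leaf 1005) (.leaf 1439)) (.leaf 1835)))))) (.node (.node (.node (.node (.node (.node (.leaf 1562) (.leaf 1157)) (.node (.leaf 1843) (.leaf 1809))) (.node (.node (.leaf 1476) (.leaf 1488)) (.leaf 889))) (.node (.node (.node (.leaf 458) (.leaf 1342)) (.node (.leaf 449) (.leaf 624))) (.node (.node (.leaf 162) (.leaf 143)) (.leaf 1839)))) (.node (.node (.node (.node (.leaf 876) (.leaf 1641)) (.node (.leaf 1600) (.leaf 1983))) (.node (.node (.leaf 991) (.leaf 287)) (.leaf 976))) (.node (.node (.node (.leaf 577) (.leaf 206)) (.node (.leaf 1100) (.leaf 1768))) (.node (.node (.leaf 1033) (.leaf 338)) (.leaf 970))))) (.node (.node (.node (.node (.node (.leaf 1549) (.leaf 784)) (.node (.leaf 608) (.leaf 1718))) (.node (.node (.leaf 742) (.leaf 487)) (.leaf 837))) (.node (.node (.node (.leaf 322) (.leaf 1230)) (.node (.leaf 646) (.leaf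 842))) (.node (.node (.leaf 1477) (.leaf 1481)) (.leaf 1086)))) (.node (.node (.node (.node (.leaf 1756) (.leaf 1426)) (.node (.leaf 251) (.leaf 619))) (.node (.node (.leaf 353) (.leaf 1598)) (.leaf 709))) (.node (.node (.node (.leaf 55) (.leaf 813)) (.node (.leaf 1375) (.leaf 460))) (.node (.node (.leaf 1979) (.leaf 1841)) (.leaf 1704))))))) (.node (.node (.node (.node (.node (.node (.node (.leaf 107) (.leaf 1011)) (.node (.leaf 154) (.leaf 979))) (.node (.node (.leaf 1240) (.leaf 1493)) (.leaf 76))) (.node (.node (.node (.leaf 1387) (.leaf 1457)) (.node (.leaf 741) (.leaf 785))) (.node (.node (.leaf 1549) (.leaf 9)) (.leaf 1896)))) (.node (.node (.node (.node (.leaf 856) (.leaf 1642)) (.node (.leaf 1785) (.leaf 658))) (.node (.node (.leaf 1308) (.leaf 109)) (.leaf 724))) (.node (.node (.node (.leaf 1816) (.leaf 1442)) (.node (.leaf 1961) (.leaf 1991))) (.node (.node (.leaf 1207) (.leaf 1804)) (.leaf 1384))))) (.node (.node (.node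 (.node (.node (.leaf 1696) (.leaf 1039)) (.node (.leaf 1701) (.leaf 1173))) (.node (.node (.leaf 1151) (.leaf 1515)) (.leaf 320))) (.node (.node (.node (.leaf 237) (.leaf 799)) (.node (.leaf 1232) (.leaf 1655))) (.node (.node (.leaf 38) (.leaf 668)) (.leaf 883)))) (.node (.node (.node (.node (.leaf 1521) (.leaf 1296)) (.node (.leaf 509) (.leaf 162))) (.node (.node (.leaf 126) (.leaf 365)) (.leaf 258))) (.node (.node (.node (.leaf 981) (.leaf 527)) (.node (.leaf 1407) (.leaf 310))) (.node (.node (.leaf 1357) (.leaf 704)) (.leaf 356)))))) (.node (.node (.node (.node (.node (.node (.leaf 285) (.leaf 1102)) (.node (.leaf 211) (.leaf 614))) (.node (.node (.leaf 1330) (.leaf 413)) (.leaf 1951))) (.node (.node (.node (.leaf 825) (.leaf 1351)) (.node (.leaf 380) (.leaf 1137))) (.node (.node (.leaf 473) (.leaf 433)) (.leaf 1297)))) (.node (.node (.node (.node (.leaf 1996) (.leaf 234)) (.node (.leaf 1740) (.leaf 932))) (.node (.node (.leaf 1210)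 (.leaf 1579)) (.leaf 807))) (.node (.node (.node (.leaf 833) (.leaf 1718)) (.node (.leaf 1703) (.leaf 10))) (.node (.node (.leaf 740) (.leaf 1445)) (.leaf 1835))))) (.node (.node (.node (.node (.node (.leaf 502) (.leaf 1909)) (.node (.leaf 486) (.leaf 1282))) (.node (.node (.leaf 1463) (.leaf 2028)) (.leaf 1770))) (.node (.node (.node (.leaf 1068) (.leaf 1534)) (.node (.leaf 1646) (.leaf 409))) (.node (.node (.leaf 1652) (.leaf 407)) (.leaf 335)))) (.node (.node (.node (.node (.leaf 1678) (.leaf 1956)) (.node (.leaf 847) (.leaf 1525))) (.node (.node (.leaf 1049) (.leaf 775)) (.leaf 1091))) (.node (.node (.node (.leaf 194) (.leaf 2035)) (.node (.leaf 1558) (.leaf 896))) (.node (.node (.leaf 404) (.leaf 1886)) (.leaf 924)))))))))) (.node (.node (.node (.node (.node (.node (.node (.node (.node (.node (.leaf 1307) (.leaf 409)) (.node (.leaf 1081) (.leaf 1912))) (.node (.node (.leaf 1951) (.leaf 89)) (.node (.leaf 687) (.leaf 1845)))) (.node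 (.node (.node (.leaf 1065) (.leaf 462)) (.node (.leaf 1235) (.leaf 836))) (.node (.node (.leaf 1539) (.leaf 1602)) (.leaf 700)))) (.node (.node (.node (.node (.leaf 676) (.leaf 792)) (.node (.leaf 1248) (.leaf 1358))) (.node (.node (.leaf 428) (.leaf 1537)) (.leaf 692))) (.node (.node (.node (.leaf 1631) (.leaf 922)) (.node (.leaf 862) (.leaf 1276))) (.node (.node (.leaf 301) (.leaf 1255)) (.leaf 592))))) (.node (.node (.node (.node (.node (.leaf 1576) (.leaf 817)) (.node (.leaf 871) (.leaf 1876))) (.node (.node (.leaf 692) (.leaf 1990)) (.leaf 1169))) (.node (.node (.node (.leaf 1558) (.leaf 1334)) (.node (.leaf 199) (.leaf 654))) (.node (.node (.leaf 1424) (.leaf 953)) (.leaf 99)))) (.node (.node (.node (.node (.leaf 1106) (.leaf 81)) (.node (.leaf 1140) (.leaf 989))) (.node (.node (.leaf 1043) (.leaf 1454)) (.leaf 1525))) (.node (.node (.node (.leaf 1207) (.leaf 1135)) (.node (.leaf 556) (.leaf 871))) (.node (.node (.leaf 867) (.leaf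 593)) (.leaf 570)))))) (.node (.node (.node (.node (.node (.node (.leaf 1716) (.leaf 1472)) (.node (.leaf 245) (.leaf 357))) (.node (.node (.leaf 559) (.leaf 1141)) (.leaf 528))) (.node (.node (.node (.leaf 1374) (.leaf 541)) (.node (.leaf 573) (.leaf 633))) (.node (.node (.leaf 1641) (.leaf 1416)) (.leaf 403)))) (.node (.node (.node (.node (.leaf 422) (.leaf 342)) (.node (.leaf 1458) (.leaf 23))) (.node (.node (.leaf 454) (.leaf 1373)) (.leaf 1122))) (.node (.node (.node (.leaf 1061) (.leaf 101)) (.node (.leaf 737) (.leaf 462))) (.node (.node (.leaf 1976) (.leaf 1461)) (.leaf 295))))) (.node (.node (.node (.node (.node (.leaf 1676) (.leaf 46)) (.node (.leaf 1476) (.leaf 378))) (.node (.node (.leaf 1695) (.leaf 1009)) (.leaf 1691))) (.node (.node (.node (.leaf 1223) (.leaf 2020)) (.node (.leaf 1146) (.leaf 641))) (.node (.node (.leaf 702) (.leaf 128)) (.leaf 1074)))) (.node (.node (.node (.node (.leaf 242) (.leaf 2035)) (.node (.leaf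 920) (.leaf 2017))) (.node (.node (.leaf 1238) (.leaf 1592)) (.leaf 1697))) (.node (.node (.node (.leaf 1759) (.leaf 1446)) (.node (.leaf 1820) (.leaf 1829))) (.node (.node (.leaf 1571) (.leaf 1445)) (.leaf 1184))))))) (.node (.node (.node (.node (.node (.node (.node (.leaf 1862) (.leaf 935)) (.node (.leaf 1744) (.leaf 1095))) (.node (.node (.leaf 375) (.leaf 66)) (.leaf 1977))) (.node (.node (.node (.leaf 812) (.leaf 1327)) (.node (.leaf 2047) (.leaf 86))) (.node (.node (.leaf 1223) (.leaf 1997)) (.leaf 548)))) (.node (.node (.node (.node (.leaf 1368) (.leaf 312)) (.node (.leaf 710) (.leaf 238))) (.node (.node (.leaf 1199) (.leaf 1939)) (.leaf 167))) (.node (.node (.node (.leaf 1660) (.leaf 1136)) (.node (.leaf 937) (.leaf 1948))) (.node (.node (.leaf 294) (.leaf 624)) (.leaf 1891))))) (.node (.node (.node (.node (.node (.leaf 925) (.leaf 635)) (.node (.leaf 519) (.leaf 589))) (.node (.node (.leaf 1447) (.leaf 754)) (.leaf 95))) (.node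 (.node (.node (.leaf 1050) (.leaf 1629)) (.node (.leaf 1965) (.leaf 1037))) (.node (.node (.leaf 486) (.leaf 1997)) (.leaf 692)))) (.node (.node (.node (.node (.leaf 34) (.leaf 2041)) (.node (.leaf 1991) (.leaf 1842))) (.node (.node (.leaf 412) (.leaf 1048)) (.leaf 998))) (.node (.node (.node (.leaf 339) (.leaf 1189)) (.node (.leaf 1028) (.leaf 80))) (.node (.node (.leaf 819) (.leaf 795)) (.leaf 1083)))))) (.node (.node (.node (.node (.node (.node (.leaf 1032) (.leaf 688)) (.node (.leaf 1790) (.leaf 964))) (.node (.node (.leaf 923) (.leaf 655)) (.leaf 577))) (.node (.node (.node (.leaf 954) (.leaf 1586)) (.node (.leaf 1347) (.leaf 344))) (.node (.node (.leaf 1501) (.leaf 1984)) (.leaf 1613)))) (.node (.node (.node (.node (.leaf 709) (.leaf 1272)) (.node (.leaf 879) (.leaf 311))) (.node (.node (.leaf 1384) (.leaf 1419)) (.leaf 1771))) (.node (.node (.node (.leaf 826) (.leaf 1280)) (.node (.leaf 1314) (.leaf 658))) (.node (.node (.leaf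 339) (.leaf 565)) (.leaf 1733))))) (.node (.node (.node (.node (.node (.leaf 1721) (.leaf 1094)) (.node (.leaf 1249) (.leaf 860))) (.node (.node (.leaf 1840) (.leaf 91)) (.leaf 899))) (.node (.node (.node (.leaf 619) (.leaf 1796)) (.node (.leaf 783) (.leaf 274))) (.node (.node (.leaf 1331) (.leaf 1133)) (.leaf 292)))) (.node (.node (.node (.node (.leaf 1182) (.leaf 1510)) (.node (.leaf 1322) (.leaf 344))) (.node (.node (.leaf 569) (.leaf 1678)) (.leaf 219))) (.node (.node (.node (.leaf 857) (.leaf 1247)) (.node (.leaf 717) (.leaf 11))) (.node (.node (.leaf 1492) (.leaf 1471)) (.leaf 694)))))))) (.node (.node (.node (.node (.node (.node (.node (.node (.leaf 1837) (.leaf 1773)) (.node (.leaf 1248) (.leaf 73))) (.node (.node (.leaf 153) (.leaf 1743)) (.node (.leaf 1151) (.leaf 1657)))) (.node (.node (.node (.leaf 1745) (.leaf 1998)) (.node (.leaf 598) (.leaf 229))) (.node (.node (.leaf 1094) (.leaf 304)) (.leaf 1972)))) (.node (.node (.node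 (.node (.leaf 1430) (.leaf 516)) (.node (.leaf 572) (.leaf 1685))) (.node (.node (.leaf 230) (.leaf 1720)) (.leaf 1987))) (.node (.node (.node (.leaf 960) (.leaf 1882)) (.node (.leaf 1741) (.leaf 1737))) (.node (.node (.leaf 1477) (.leaf 744)) (.leaf 2053))))) (.node (.node (.node (.node (.node (.leaf 1231) (.leaf 606)) (.node (.leaf 1574) (.leaf 878))) (.node (.node (.leaf 1095) (.leaf 1978)) (.leaf 549))) (.node (.node (.node (.leaf 188) (.leaf 1646)) (.node (.leaf 335) (.leaf 545))) (.node (.node (.leaf 698) (.leaf 36)) (.leaf 875)))) (.node (.node (.node (.node (.leaf 744) (.leaf 1986)) (.node (.leaf 78) (.leaf 1871))) (.node (.node (.leaf 1954) (.leaf 724)) (.leaf 679))) (.node (.node (.node (.leaf 871) (.leaf 1708)) (.node (.leaf 1266) (.leaf 290))) (.node (.node (.leaf 44) (.leaf 507)) (.leaf 2032)))))) (.node (.node (.node (.node (.node (.node (.leaf 1846) (.leaf 3)) (.node (.leaf 366) (.leaf 1292))) (.node (.node (.leaf 1829)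 (.leaf 1586)) (.leaf 771))) (.node (.node (.node (.leaf 578) (.leaf 1981)) (.node (.leaf 254) (.leaf 568))) (.node (.node (.leaf 1580) (.leaf 1762)) (.leaf 2028)))) (.node (.node (.node (.node (.leaf 1258) (.leaf 2025)) (.node (.leaf 983) (.leaf 890))) (.node (.node (.leaf 248) (.leaf 1633)) (.leaf 438))) (.node (.node (.node (.leaf 1434) (.leaf 1440)) (.node (.leaf 58) (.leaf 496))) (.node (.node (.leaf 14) (.leaf 30)) (.leaf 1924))))) (.node (.node (.node (.node (.node (.leaf 1962) (.leaf 753)) (.node (.leaf 1167) (.leaf 124))) (.node (.node (.leaf 1946) (.leaf 67)) (.leaf 840))) (.node (.node (.node (.leaf 1551) (.leaf 415)) (.node (.leaf 1641) (.leaf 139))) (.node (.node (.leaf 78) (.leaf 959)) (.leaf 451)))) (.node (.node (.node (.node (.leaf 1219) (.leaf 1537)) (.node (.leaf 710) (.leaf 399))) (.node (.node (.leaf 829) (.leaf 370)) (.leaf 1787))) (.node (.node (.node (.leaf 783) (.leaf 1917)) (.node (.leaf 125) (.leaf 1299)))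 (.node (.node (.leaf 985) (.leaf 1943)) (.leaf 1))))))) (.node (.node (.node (.node (.node (.node (.node (.leaf 1059) (.leaf 1907)) (.node (.leaf 1516) (.leaf 1484))) (.node (.node (.leaf 1607) (.leaf 233)) (.leaf 721))) (.node (.node (.node (.leaf 1664) (.leaf 442)) (.node (.leaf 917) (.leaf 251))) (.node (.node (.leaf 1571) (.leaf 1624)) (.leaf 1223)))) (.node (.node (.node (.node (.leaf 1741) (.leaf 125)) (.node (.leaf 248) (.leaf 440))) (.node (.node (.leaf 1949) (.leaf 207)) (.leaf 798))) (.node (.node (.node (.leaf 1700) (.leaf 1997)) (.node (.leaf 1234) (.leaf 187))) (.node (.node (.leaf 352) (.leaf 2014)) (.leaf 237))))) (.node (.node (.node (.node (.node (.leaf 1260) (.leaf 890)) (.node (.leaf 977) (.leaf 1280))) (.node (.node (.leaf 2048) (.leaf 591)) (.leaf 1821))) (.node (.node (.node (.leaf 0) (.leaf 240)) (.node (.leaf 1589) (.leaf 530))) (.node (.node (.leaf 12) (.leaf 563)) (.leaf 1416)))) (.node (.node (.node (.node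 (.leaf 922) (.leaf 1102)) (.node (.leaf 914) (.leaf 315))) (.node (.node (.leaf 717) (.leaf 1945)) (.leaf 52))) (.node (.node (.node (.leaf 123) (.leaf 2006)) (.node (.leaf 2051) (.leaf 616))) (.node (.node (.leaf 895) (.leaf 247)) (.leaf 50)))))) (.node (.node (.node (.node (.node (.node (.leaf 227) (.leaf 1778)) (.node (.leaf 1827) (.leaf 1115))) (.node (.node (.leaf 1224) (.leaf 1383)) (.leaf 1840))) (.node (.node (.node (.leaf 1712) (.leaf 278)) (.node (.leaf 559) (.leaf 1724))) (.node (.node (.leaf 1751) (.leaf 1673)) (.leaf 827)))) (.node (.node (.node (.node (.leaf 1977) (.leaf 1150)) (.node (.leaf 975) (.leaf 111))) (.node (.node (.leaf 1642) (.leaf 1290)) (.leaf 41))) (.node (.node (.node (.leaf 1061) (.leaf 1636)) (.node (.leaf 2034) (.leaf 1056))) (.node (.node (.leaf 1020) (.leaf 834)) (.leaf 1096))))) (.node (.node (.node (.node (.node (.leaf 1587) (.leaf 195)) (.node (.leaf 1419) (.leaf 474))) (.node (.node (.leaf 301)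 (.leaf 55)) (.leaf 1791))) (.node (.node (.node (.leaf 142) (.leaf 1022)) (.node (.leaf 839) (.leaf 165))) (.node (.node (.leaf 307) (.leaf 1046)) (.leaf 1418)))) (.node (.node (.node (.node (.leaf 1363) (.leaf 922)) (.node (.leaf 1849) (.leaf 1543))) (.node (.node (.leaf 172) (.leaf 1606)) (.leaf 404))) (.node (.node (.node (.leaf 644) (.leaf 124)) (.node (.leaf 689) (.leaf 1645))) (.node (.node (.leaf 582) (.leaf 944)) (.leaf 1757))))))))) (.node (.node (.node (.node (.node (.node (.node (.node (.node (.leaf 421) (.leaf 1081)) (.node (.leaf 1440) (.leaf 717))) (.node (.node (.leaf 968) (.leaf 1128)) (.node (.leaf 1583) (.leaf 1138)))) (.node (.node (.node (.leaf 1819) (.leaf 1320)) (.node (.leaf 500) (.leaf 21))) (.node (.node (.leaf 477) (.leaf 1745)) (.leaf 1097)))) (.node (.node (.node (.node (.leaf 1466) (.leaf 1455)) (.node (.leaf 1475) (.leaf 1653))) (.node (.node (.leaf 824) (.leaf 1920)) (.leaf 176))) (.node (.node (.node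 (.leaf 1229) (.leaf 487)) (.node (.leaf 2054) (.leaf 161))) (.node (.node (.leaf 1191) (.leaf 859)) (.leaf 217))))) (.node (.node (.node (.node (.node (.leaf 42) (.leaf 403)) (.node (.leaf 1527) (.leaf 653))) (.node (.node (.leaf 1865) (.leaf 875)) (.leaf 1699))) (.node (.node (.node (.leaf 1061) (.leaf 413)) (.node (.leaf 1091) (.leaf 1135))) (.node (.node (.leaf 988) (.leaf 1735)) (.leaf 151)))) (.node (.node (.node (.node (.leaf 1548) (.leaf 615)) (.node (.leaf 345) (.leaf 1389))) (.node (.node (.leaf 1356) (.leaf 1576)) (.leaf 391))) (.node (.node (.node (.leaf 1989) (.leaf 1791)) (.node (.leaf 117) (.leaf 112))) (.node (.node (.leaf 873) (.leaf 963)) (.leaf 1418)))))) (.node (.node (.node (.node (.node (.node (.leaf 284) (.leaf 446)) (.node (.leaf 1730) (.leaf 779))) (.node (.node (.leaf 380) (.leaf 1605)) (.leaf 1563))) (.node (.node (.node (.leaf 1201) (.leaf 654)) (.node (.leaf 1838) (.leaf 167))) (.node (.node (.leaf 2036)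 (.leaf 1543)) (.leaf 33)))) (.node (.node (.node (.node (.leaf 325) (.leaf 1521)) (.node (.leaf 1899) (.leaf 560))) (.node (.node (.leaf 120) (.leaf 1032)) (.leaf 647))) (.node (.node (.node (.leaf 532) (.leaf 377)) (.node (.leaf 1696) (.leaf 1391))) (.node (.node (.leaf 534) (.leaf 1222)) (.leaf 791))))) (.node (.node (.node (.node (.node (.leaf 351) (.leaf 1363)) (.node (.leaf 154) (.leaf 1175))) (.node (.node (.leaf 828) (.leaf 1265)) (.leaf 499))) (.node (.node (.node (.leaf 208) (.leaf 1375)) (.node (.leaf 1617) (.leaf 217))) (.node (.node (.leaf 1442) (.leaf 1037)) (.leaf 352)))) (.node (.node (.node (.node (.leaf 286) (.leaf 821)) (.node (.leaf 1601) (.leaf 1013))) (.node (.node (.leaf 78) (.leaf 617)) (.leaf 1727))) (.node (.node (.node (.leaf 1350) (.leaf 79)) (.node (.leaf 139) (.leaf 1095))) (.node (.node (.leaf 1047) (.leaf 692)) (.leaf 1189))))))) (.node (.node (.node (.node (.node (.node (.node (.leaf 1490) (.leaf 1183))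 (.node (.leaf 968) (.leaf 2000))) (.node (.node (.leaf 941) (.leaf 1681)) (.leaf 450))) (.node (.node (.node (.leaf 1909) (.leaf 616)) (.node (.leaf 1688) (.leaf 998))) (.node (.node (.leaf 400) (.leaf 1270)) (.leaf 874)))) (.node (.node (.node (.node (.leaf 784) (.leaf 110)) (.node (.leaf 1200) (.leaf 569))) (.node (.node (.leaf 1030) (.leaf 788)) (.leaf 570))) (.node (.node (.node (.leaf 1097) (.leaf 89)) (.node (.leaf 1973) (.leaf 308))) (.node (.node (.leaf 1891) (.leaf 1521)) (.leaf 244))))) (.node (.node (.node (.node (.node (.leaf 1353) (.leaf 804)) (.node (.leaf 256) (.leaf 1825))) (.node (.node (.leaf 1635) (.leaf 1575)) (.leaf 927))) (.node (.node (.node (.leaf 293) (.leaf 926)) (.node (.leaf 1539) (.leaf 1846))) (.node (.node (.leaf 0) (.leaf 643)) (.leaf 567)))) (.node (.node (.node (.node (.leaf 1042) (.leaf 757)) (.node (.leaf 336) (.leaf 273))) (.node (.node (.leaf 358) (.leaf 930)) (.leaf 1471))) (.node (.node (.node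 (.leaf 851) (.leaf 1718)) (.node (.leaf 1170) (.leaf 631))) (.node (.node (.leaf 1671) (.leaf 1193)) (.leaf 1953)))))) (.node (.node (.node (.node (.node (.node (.leaf 31) (.leaf 884)) (.node (.leaf 1340) (.leaf 1713))) (.node (.node (.leaf 65) (.leaf 1112)) (.leaf 707))) (.node (.node (.node (.leaf 661) (.leaf 55)) (.node (.leaf 590) (.leaf 2040))) (.node (.node (.leaf 306) (.leaf 779)) (.leaf 1058)))) (.node (.node (.node (.node (.leaf 1179) (.leaf 242)) (.node (.leaf 1511) (.leaf 1374))) (.node (.node (.leaf 848) (.leaf 924)) (.leaf 1930))) (.node (.node (.node (.leaf 2031) (.leaf 383)) (.node (.leaf 811) (.leaf 857))) (.node (.node (.leaf 2052) (.leaf 510)) (.leaf 1128))))) (.node (.node (.node (.node (.node (.leaf 1523) (.leaf 422)) (.node (.leaf 720) (.leaf 854))) (.node (.node (.leaf 460) (.leaf 555)) (.leaf 299))) (.node (.node (.node (.leaf 1632) (.leaf 1905)) (.node (.leaf 969) (.leaf 951))) (.node (.node (.leaf 966) (.leaf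 917)) (.leaf 771)))) (.node (.node (.node (.node (.leaf 1313) (.leaf 186)) (.node (.leaf 994) (.leaf 1040))) (.node (.node (.leaf 1646) (.leaf 620)) (.leaf 1144))) (.node (.node (.node (.leaf 169) (.leaf 703)) (.node (.leaf 1300) (.leaf 1885))) (.node (.node (.leaf 135) (.leaf 1750)) (.leaf 223)))))))) (.node (.node (.node (.node (.node (.node (.node (.node (.leaf 1828) (.leaf 1767)) (.node (.leaf 770) (.leaf 503))) (.node (.node (.leaf 1802) (.leaf 1536)) (.node (.leaf 1976) (.leaf 2056)))) (.node (.node (.node (.leaf 1329) (.leaf 1777)) (.node (.leaf 1639) (.leaf 251))) (.node (.node (.leaf 1693) (.leaf 1414)) (.leaf 435)))) (.node (.node (.node (.node (.leaf 1281) (.leaf 219)) (.node (.leaf 145) (.leaf 1875))) (.node (.node (.leaf 874) (.leaf 1793)) (.leaf 1))) (.node (.node (.node (.leaf 2049) (.leaf 1786)) (.node (.leaf 156) (.leaf 1408))) (.node (.node (.leaf 141) (.leaf 1821)) (.leaf 192))))) (.node (.node (.node (.node (.node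 (.leaf 1584) (.leaf 1974)) (.node (.leaf 1931) (.leaf 1494))) (.node (.node (.leaf 72) (.leaf 571)) (.leaf 846))) (.node (.node (.node (.leaf 405) (.leaf 969)) (.node (.leaf 776) (.leaf 343))) (.node (.node (.leaf 1114) (.leaf 1083)) (.leaf 1552)))) (.node (.node (.node (.node (.leaf 1853) (.leaf 1311)) (.node (.leaf 1940) (.leaf 38))) (.node (.node (.leaf 1554) (.leaf 82)) (.leaf 1262))) (.node (.node (.node (.leaf 1873) (.leaf 1788)) (.node (.leaf 181) (.leaf 556))) (.node (.node (.leaf 1960) (.leaf 338)) (.leaf 1176)))))) (.node (.node (.node (.node (.node (.node (.leaf 279) (.leaf 1367)) (.node (.leaf 1931) (.leaf 1690))) (.node (.node (.leaf 1848) (.leaf 1481)) (.leaf 868))) (.node (.node (.node (.leaf 51) (.leaf 636)) (.node (.leaf 722) (.leaf 346))) (.node (.node (.leaf 398) (.leaf 740)) (.leaf 691)))) (.node (.node (.node (.node (.leaf 59) (.leaf 1622)) (.node (.leaf 434) (.leaf 387))) (.node (.node (.leaf 1750) (.leaf 2008))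 (.leaf 611))) (.node (.node (.node (.leaf 1256) (.leaf 1066)) (.node (.leaf 1091) (.leaf 1581))) (.node (.node (.leaf 968) (.leaf 589)) (.leaf 1845))))) (.node (.node (.node (.node (.node (.leaf 506) (.leaf 928)) (.node (.leaf 1351) (.leaf 140))) (.node (.node (.leaf 844) (.leaf 371)) (.leaf 1581))) (.node (.node (.node (.leaf 1951) (.leaf 726)) (.node (.leaf 137) (.leaf 1553))) (.node (.node (.leaf 215) (.leaf 299)) (.leaf 1658)))) (.node (.node (.node (.node (.leaf 1626) (.leaf 750)) (.node (.leaf 168) (.leaf 1107))) (.node (.node (.leaf 323) (.leaf 365)) (.leaf 1920))) (.node (.node (.node (.leaf 792) (.leaf 430)) (.node (.leaf 550) (.leaf 661))) (.node (.node (.leaf 1725) (.leaf 2020)) (.leaf 1177))))))) (.node (.node (.node (.node (.node (.node (.node (.leaf 858) (.leaf 1156)) (.node (.leaf 575) (.leaf 1974))) (.node (.node (.leaf 109) (.leaf 1480)) (.leaf 1460))) (.node (.node (.node (.leaf 768) (.leaf 1650)) (.node (.leaf 2030)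 (.leaf 493))) (.node (.node (.leaf 233) (.leaf 1648)) (.leaf 971)))) (.node (.node (.node (.node (.leaf 1446) (.leaf 375)) (.node (.leaf 1601) (.leaf 364))) (.node (.node (.leaf 427) (.leaf 1463)) (.leaf 296))) (.node (.node (.node (.leaf 45) (.leaf 256)) (.node (.leaf 1169) (.leaf 1657))) (.node (.node (.leaf 1503) (.leaf 918)) (.leaf 1477))))) (.node (.node (.node (.node (.node (.leaf 1562) (.leaf 1001)) (.node (.leaf 1230) (.leaf 1598))) (.node (.node (.leaf 1575) (.leaf 645)) (.leaf 1762))) (.node (.node (.node (.leaf 1546) (.leaf 1371)) (.node (.leaf 1423) (.leaf 1356))) (.node (.node (.leaf 1857) (.leaf 1964)) (.leaf 984)))) (.node (.node (.node (.node (.leaf 127) (.leaf 1506)) (.node (.leaf 546) (.leaf 1778))) (.node (.node (.leaf 863) (.leaf 1419)) (.leaf 1806))) (.node (.node (.node (.leaf 667) (.leaf 729)) (.node (.leaf 1374) (.leaf 1862))) (.node (.node (.leaf 977) (.leaf 95)) (.leaf 923)))))) (.node (.node (.node (.node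 (.node (.node (.leaf 216) (.leaf 405)) (.node (.leaf 2) (.leaf 944))) (.node (.node (.leaf 1881) (.leaf 316)) (.leaf 1893))) (.node (.node (.node (.leaf 647) (.leaf 1668)) (.node (.leaf 100) (.leaf 69))) (.node (.node (.leaf 1794) (.leaf 1929)) (.leaf 444)))) (.node (.node (.node (.node (.leaf 119) (.leaf 1620)) (.node (.leaf 990) (.leaf 74))) (.node (.node (.leaf 702) (.leaf 824)) (.leaf 872))) (.node (.node (.node (.leaf 1322) (.leaf 251)) (.node (.leaf 612) (.leaf 1460))) (.node (.node (.leaf 1867) (.leaf 600)) (.leaf 1119))))) (.node (.node (.node (.node (.node (.leaf 1622) (.leaf 45)) (.node (.leaf 365) (.leaf 1074))) (.node (.node (.leaf 903) (.leaf 1011)) (.leaf 220))) (.node (.node (.node (.leaf 1792) (.leaf 1393)) (.node (.leaf 1991) (.leaf 1974))) (.node (.node (.leaf 1316) (.leaf 2003)) (.leaf 997)))) (.node (.node (.node (.node (.leaf 1797) (.leaf 1553)) (.node (.leaf 1787) (.leaf 93))) (.node (.node (.leaf 620) (.leaf 2038))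 (.leaf 1795))) (.node (.node (.node (.leaf 1410) (.leaf 1560)) (.node (.leaf 1441) (.leaf 330))) (.node (.node (.leaf 2017) (.leaf 374)) (.leaf 822)))))))))))

/-- Part of `ptImg`. -/
def ptImg3 : Tr := (.node (.node (.node (.node (.node (.node (.node (.node (.node (.node (.node (.leaf 1867) (.leaf 854)) (.node (.leaf 1644) (.leaf 1779))) (.node (.node (.leaf 996) (.leaf 842)) (.node (.leaf 1784) (.leaf 506)))) (.node (.node (.node (.leaf 1366) (.leaf 1226)) (.node (.leaf 1378) (.leaf 1902))) (.node (.node (.leaf 2019) (.leaf 1845)) (.leaf 422)))) (.node (.node (.node (.node (.leaf 1462) (.leaf 1242)) (.node (.leaf 2003) (.leaf 253))) (.node (.node (.leaf 1860) (.leaf 1770)) (.leaf 1574))) (.node (.node (.node (.leaf 495) (.leaf 1390)) (.node (.leaf 701) (.leaf 1036))) (.node (.node (.leaf 512) (.leaf 63)) (.leaf 331))))) (.node (.node (.node (.node (.node (.leaf 128) (.leaf 528)) (.node (.leaf 1779) (.leaf 1792))) (.node (.node (.leaf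 656) (.leaf 1566)) (.leaf 1210))) (.node (.node (.node (.leaf 932) (.leaf 1823)) (.node (.leaf 944) (.leaf 1400))) (.node (.node (.leaf 771) (.leaf 1359)) (.leaf 558)))) (.node (.node (.node (.node (.leaf 110) (.leaf 1835)) (.node (.leaf 1266) (.leaf 332))) (.node (.node (.leaf 1121) (.leaf 323)) (.leaf 987))) (.node (.node (.node (.leaf 926) (.leaf 1386)) (.node (.leaf 536) (.leaf 1785))) (.node (.node (.leaf 714) (.leaf 645)) (.leaf 1132)))))) (.node (.node (.node (.node (.node (.node (.leaf 572) (.leaf 825)) (.node (.leaf 1649) (.leaf 1774))) (.node (.node (.leaf 311) (.leaf 1288)) (.leaf 62))) (.node (.node (.node (.leaf 1971) (.leaf 1820)) (.node (.leaf 1239) (.leaf 1840))) (.node (.node (.leaf 587) (.leaf 855)) (.leaf 333)))) (.node (.node (.node (.node (.leaf 1160) (.leaf 1380)) (.node (.leaf 917) (.leaf 993))) (.node (.node (.leaf 1578) (.leaf 1895)) (.leaf 517))) (.node (.node (.node (.leaf 1839) (.leaf 892)) (.node (.leaf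 841) (.leaf 1849))) (.node (.node (.leaf 1245) (.leaf 638)) (.leaf 1788))))) (.node (.node (.node (.node (.node (.leaf 413) (.leaf 1015)) (.node (.leaf 2036) (.leaf 201))) (.node (.node (.leaf 80) (.leaf 3)) (.leaf 1348))) (.node (.node (.node (.leaf 1319) (.leaf 1370)) (.node (.leaf 1249) (.leaf 2018))) (.node (.node (.leaf 508) (.leaf 161)) (.leaf 780)))) (.node (.node (.node (.node (.leaf 1665) (.leaf 2001)) (.node (.leaf 373) (.leaf 1883))) (.node (.node (.leaf 258) (.leaf 1591)) (.leaf 60))) (.node (.node (.node (.leaf 1919) (.leaf 572)) (.node (.leaf 916) (.leaf 216))) (.node (.node (.leaf 939) (.leaf 576)) (.leaf 885))))))) (.node (.node (.node (.node (.node (.node (.node (.leaf 1712) (.leaf 630)) (.node (.leaf 24) (.leaf 1355))) (.node (.node (.leaf 1777) (.leaf 1998)) (.node (.leaf 1042) (.leaf 624)))) (.node (.node (.node (.leaf 96) (.leaf 840)) (.node (.leaf 465) (.leaf 1553))) (.node (.node (.leaf 1851) (.leaf 1503)) (.leaf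 468)))) (.node (.node (.node (.node (.leaf 1180) (.leaf 644)) (.node (.leaf 1789) (.leaf 1398))) (.node (.node (.leaf 1350) (.leaf 1268)) (.leaf 225))) (.node (.node (.node (.leaf 1738) (.leaf 1445)) (.node (.leaf 1971) (.leaf 1712))) (.node (.node (.leaf 93) (.leaf 349)) (.leaf 111))))) (.node (.node (.node (.node (.node (.leaf 69) (.leaf 1197)) (.node (.leaf 2024) (.leaf 992))) (.node (.node (.leaf 1707) (.leaf 1723)) (.leaf 1384))) (.node (.node (.node (.leaf 1105) (.leaf 25)) (.node (.leaf 2048) (.leaf 675))) (.node (.node (.leaf 475) (.leaf 651)) (.leaf 1900)))) (.node (.node (.node (.node (.leaf 1119) (.leaf 620)) (.node (.leaf 514) (.leaf 1844))) (.node (.node (.leaf 379) (.leaf 2034)) (.leaf 1969))) (.node (.node (.node (.leaf 923) (.leaf 1417)) (.node (.leaf 1833) (.leaf 147))) (.node (.node (.leaf 1164) (.leaf 1728)) (.leaf 1664)))))) (.node (.node (.node (.node (.node (.node (.leaf 1880) (.leaf 1405)) (.node (.leaf 639) (.leaf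 365))) (.node (.node (.leaf 269) (.leaf 1488)) (.leaf 598))) (.node (.node (.node (.leaf 1561) (.leaf 665)) (.node (.leaf 215) (.leaf 1234))) (.node (.node (.leaf 314) (.leaf 1822)) (.leaf 797)))) (.node (.node (.node (.node (.leaf 117) (.leaf 714)) (.node (.leaf 1884) (.leaf 363))) (.node (.node (.leaf 2) (.leaf 486)) (.leaf 1190))) (.node (.node (.node (.leaf 449) (.leaf 209)) (.node (.leaf 1032) (.leaf 1705))) (.node (.node (.leaf 539) (.leaf 1710)) (.leaf 224))))) (.node (.node (.node (.node (.node (.leaf 631) (.leaf 819)) (.node (.leaf 1094) (.leaf 680))) (.node (.node (.leaf 1216) (.leaf 1437)) (.leaf 341))) (.node (.node (.node (.leaf 986) (.leaf 530)) (.node (.leaf 795) (.leaf 1020))) (.node (.node (.leaf 1450) (.leaf 1642)) (.leaf 559)))) (.node (.node (.node (.node (.leaf 794) (.leaf 114)) (.node (.leaf 1908) (.leaf 1627))) (.node (.node (.leaf 190) (.leaf 1104)) (.leaf 474))) (.node (.node (.node (.leaf 1272) (.leaf 418))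 (.node (.leaf 1624) (.leaf 1621))) (.node (.node (.leaf 1083) (.leaf 448)) (.leaf 848)))))))) (.node (.node (.node (.node (.node (.node (.node (.node (.leaf 5) (.leaf 421)) (.node (.leaf 1001) (.leaf 1075))) (.node (.node (.leaf 1429) (.leaf 1412)) (.node (.leaf 417) (.leaf 648)))) (.node (.node (.node (.leaf 1064) (.leaf 2043)) (.node (.leaf 1898) (.leaf 1541))) (.node (.node (.leaf 1889) (.leaf 1853)) (.leaf 2003)))) (.node (.node (.node (.node (.leaf 324) (.leaf 1424)) (.node (.leaf 379) (.leaf 203))) (.node (.node (.leaf 909) (.leaf 1040)) (.leaf 836))) (.node (.node (.node (.leaf 1887) (.leaf 1319)) (.node (.leaf 39) (.leaf 999))) (.node (.node (.leaf 517) (.leaf 403)) (.leaf 1295))))) (.node (.node (.node (.node (.node (.leaf 1992) (.leaf 1871)) (.node (.leaf 248) (.leaf 1383))) (.node (.node (.leaf 732) (.leaf 1080)) (.leaf 1334))) (.node (.node (.node (.leaf 1118) (.leaf 1271)) (.node (.leaf 467) (.leaf 1733))) (.node (.node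 (.leaf 692) (.leaf 1954)) (.leaf 411)))) (.node (.node (.node (.node (.leaf 269) (.leaf 525)) (.node (.leaf 1414) (.leaf 163))) (.node (.node (.leaf 1680) (.leaf 228)) (.leaf 762))) (.node (.node (.node (.leaf 261) (.leaf 1709)) (.node (.leaf 1012) (.leaf 60))) (.node (.node (.leaf 1589) (.leaf 1273)) (.leaf 2051)))))) (.node (.node (.node (.node (.node (.node (.leaf 1848) (.leaf 559)) (.node (.leaf 1358) (.leaf 1203))) (.node (.node (.leaf 770) (.leaf 462)) (.leaf 901))) (.node (.node (.node (.leaf 1538) (.leaf 1339)) (.node (.leaf 1785) (.leaf 1704))) (.node (.node (.leaf 1486) (.leaf 1618)) (.leaf 433)))) (.node (.node (.node (.node (.leaf 1349) (.leaf 762)) (.node (.leaf 1169) (.leaf 676))) (.node (.node (.leaf 1811) (.leaf 943)) (.leaf 597))) (.node (.node (.node (.leaf 1025) (.leaf 1751)) (.node (.leaf 1217) (.leaf 1254))) (.node (.node (.leaf 426) (.leaf 1056)) (.leaf 1060))))) (.node (.node (.node (.node (.node (.leaf 277) (.leaf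 639)) (.node (.leaf 476) (.leaf 1505))) (.node (.node (.leaf 1147) (.leaf 1822)) (.leaf 1408))) (.node (.node (.node (.leaf 1415) (.leaf 1870)) (.node (.leaf 1813) (.leaf 609))) (.node (.node (.leaf 1804) (.leaf 1869)) (.leaf 1712)))) (.node (.node (.node (.node (.leaf 133) (.leaf 294)) (.node (.leaf 585) (.leaf 1396))) (.node (.node (.leaf 81) (.leaf 1927)) (.leaf 145))) (.node (.node (.node (.leaf 2047) (.leaf 1044)) (.node (.leaf 916) (.leaf 1480))) (.node (.node (.leaf 850) (.leaf 564)) (.leaf 276))))))) (.node (.node (.node (.node (.node (.node (.node (.leaf 6) (.leaf 1153)) (.node (.leaf 138) (.leaf 32))) (.node (.node (.leaf 540) (.leaf 518)) (.leaf 1029))) (.node (.node (.node (.leaf 814) (.leaf 892)) (.node (.leaf 897) (.leaf 153))) (.node (.node (.leaf 1580) (.leaf 1647)) (.leaf 1038)))) (.node (.node (.node (.node (.leaf 87) (.leaf 1341)) (.node (.leaf 127) (.leaf 1875))) (.node (.node (.leaf 411) (.leaf 401)) (.leaf 1876)))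 (.node (.node (.node (.leaf 1526) (.leaf 660)) (.node (.leaf 1518) (.leaf 114))) (.node (.node (.leaf 769) (.leaf 52)) (.leaf 100))))) (.node (.node (.node (.node (.node (.leaf 1657) (.leaf 1196)) (.node (.leaf 35) (.leaf 1403))) (.node (.node (.leaf 718) (.leaf 936)) (.leaf 1233))) (.node (.node (.node (.leaf 201) (.leaf 988)) (.node (.leaf 263) (.leaf 37))) (.node (.node (.leaf 1363) (.leaf 401)) (.leaf 1827)))) (.node (.node (.node (.node (.leaf 842) (.leaf 698)) (.node (.leaf 102) (.leaf 796))) (.node (.node (.leaf 1115) (.leaf 495)) (.leaf 780))) (.node (.node (.node (.leaf 106) (.leaf 790)) (.node (.leaf 1893) (.leaf 286))) (.node (.node (.leaf 1814) (.leaf 1126)) (.leaf 287)))))) (.node (.node (.node (.node (.node (.node (.leaf 111) (.leaf 673)) (.node (.leaf 1594) (.leaf 431))) (.node (.node (.leaf 496) (.leaf 1470)) (.leaf 621))) (.node (.node (.node (.leaf 745) (.leaf 1857)) (.node (.leaf 1215) (.leaf 1052))) (.node (.node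 (.leaf 1957) (.leaf 458)) (.leaf 1174)))) (.node (.node (.node (.node (.leaf 141) (.leaf 1986)) (.node (.leaf 1839) (.leaf 388))) (.node (.node (.leaf 1793) (.leaf 852)) (.leaf 465))) (.node (.node (.node (.leaf 1916) (.leaf 497)) (.node (.leaf 119) (.leaf 679))) (.node (.node (.leaf 1980) (.leaf 2014)) (.leaf 503))))) (.node (.node (.node (.node (.node (.leaf 308) (.leaf 1024)) (.node (.leaf 1664) (.leaf 1327))) (.node (.node (.leaf 1995) (.leaf 110)) (.leaf 431))) (.node (.node (.node (.leaf 759) (.leaf 1511)) (.node (.leaf 87) (.leaf 1888))) (.node (.node (.leaf 1724) (.leaf 1605)) (.leaf 1774)))) (.node (.node (.node (.node (.leaf 1030) (.leaf 189)) (.node (.leaf 579) (.leaf 103))) (.node (.node (.leaf 537) (.leaf 948)) (.leaf 392))) (.node (.node (.node (.leaf 1641) (.leaf 1215)) (.node (.leaf 1633) (.leaf 269))) (.node (.node (.leaf 928) (.leaf 472)) (.leaf 1956))))))))) (.node (.node (.node (.node (.node (.node (.node (.node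 (.node (.leaf 1685) (.leaf 853)) (.node (.leaf 356) (.leaf 941))) (.node (.node (.leaf 805) (.leaf 784)) (.node (.leaf 340) (.leaf 849)))) (.node (.node (.node (.leaf 1020) (.leaf 1099)) (.node (.leaf 1931) (.leaf 1584))) (.node (.node (.leaf 155) (.leaf 981)) (.leaf 990)))) (.node (.node (.node (.node (.leaf 1989) (.leaf 1157)) (.node (.leaf 2038) (.leaf 125))) (.node (.node (.leaf 1190) (.leaf 156)) (.leaf 1388))) (.node (.node (.node (.leaf 472) (.leaf 297)) (.node (.leaf 618) (.leaf 106))) (.node (.node (.leaf 1723) (.leaf 2)) (.leaf 241))))) (.node (.node (.node (.node (.node (.leaf 709) (.leaf 377)) (.node (.leaf 782) (.leaf 1751))) (.node (.node (.leaf 1223) (.leaf 24)) (.leaf 677))) (.node (.node (.node (.leaf 699) (.leaf 1353)) (.node (.leaf 697) (.leaf 1060))) (.node (.node (.leaf 1555) (.leaf 1750)) (.leaf 1063)))) (.node (.node (.node (.node (.leaf 629) (.leaf 1232)) (.node (.leaf 1730) (.leaf 346))) (.node (.node (.leaf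 1206) (.leaf 1512)) (.leaf 411))) (.node (.node (.node (.leaf 1003) (.leaf 291)) (.node (.leaf 94) (.leaf 1751))) (.node (.node (.leaf 772) (.leaf 710)) (.leaf 1701)))))) (.node (.node (.node (.node (.node (.node (.leaf 1042) (.leaf 1962)) (.node (.leaf 611) (.leaf 13))) (.node (.node (.leaf 702) (.leaf 560)) (.leaf 1853))) (.node (.node (.node (.leaf 432) (.leaf 1285)) (.node (.leaf 1852) (.leaf 507))) (.node (.node (.leaf 1320) (.leaf 1378)) (.leaf 551)))) (.node (.node (.node (.node (.leaf 1250) (.leaf 919)) (.node (.leaf 2007) (.leaf 1993))) (.node (.node (.leaf 871) (.leaf 1557)) (.leaf 1606))) (.node (.node (.node (.leaf 749) (.leaf 291)) (.node (.leaf 1668) (.leaf 1225))) (.node (.node (.leaf 791) (.leaf 1852)) (.leaf 798))))) (.node (.node (.node (.node (.node (.leaf 1404) (.leaf 532)) (.node (.leaf 1337) (.leaf 36))) (.node (.node (.leaf 1720) (.leaf 27)) (.leaf 429))) (.node (.node (.node (.leaf 1507) (.leaf 1864)) (.node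 (.leaf 1347) (.leaf 447))) (.node (.node (.leaf 397) (.leaf 90)) (.leaf 586)))) (.node (.node (.node (.node (.leaf 332) (.leaf 264)) (.node (.leaf 1418) (.leaf 361))) (.node (.node (.leaf 103) (.leaf 879)) (.leaf 1387))) (.node (.node (.node (.leaf 1182) (.leaf 1305)) (.node (.leaf 1522) (.leaf 1452))) (.node (.node (.leaf 150) (.leaf 1093)) (.leaf 805))))))) (.node (.node (.node (.node (.node (.node (.node (.leaf 787) (.leaf 882)) (.node (.leaf 625) (.leaf 1188))) (.node (.node (.leaf 764) (.leaf 724)) (.leaf 911))) (.node (.node (.node (.leaf 158) (.leaf 894)) (.node (.leaf 1116) (.leaf 1057))) (.node (.node (.leaf 1887) (.leaf 1277)) (.leaf 821)))) (.node (.node (.node (.node (.leaf 28) (.leaf 877)) (.node (.leaf 188) (.leaf 1920))) (.node (.node (.leaf 1209) (.leaf 1718)) (.leaf 692))) (.node (.node (.node (.leaf 336) (.leaf 180)) (.node (.leaf 245) (.leaf 1937))) (.node (.node (.leaf 613) (.leaf 1694)) (.leaf 1949))))) (.node (.node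 (.node (.node (.node (.leaf 792) (.leaf 46)) (.node (.leaf 120) (.leaf 1869))) (.node (.node (.leaf 341) (.leaf 677)) (.leaf 857))) (.node (.node (.node (.leaf 168) (.leaf 1966)) (.node (.leaf 631) (.leaf 1709))) (.node (.node (.leaf 487) (.leaf 984)) (.leaf 1367)))) (.node (.node (.node (.node (.leaf 1405) (.leaf 5)) (.node (.leaf 838) (.leaf 1877))) (.node (.node (.leaf 1652) (.leaf 1904)) (.leaf 1765))) (.node (.node (.node (.leaf 406) (.leaf 679)) (.node (.leaf 1173) (.leaf 2023))) (.node (.node (.leaf 186) (.leaf 365)) (.leaf 149)))))) (.node (.node (.node (.node (.node (.node (.leaf 1015) (.leaf 489)) (.node (.leaf 1019) (.leaf 674))) (.node (.node (.leaf 1211) (.leaf 424)) (.leaf 541))) (.node (.node (.node (.leaf 1807) (.leaf 2047)) (.node (.leaf 1085) (.leaf 1456))) (.node (.node (.leaf 756) (.leaf 654)) (.leaf 45)))) (.node (.node (.node (.node (.leaf 423) (.leaf 211)) (.node (.leaf 324) (.leaf 613))) (.node (.node (.leaf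 359) (.leaf 1661)) (.leaf 216))) (.node (.node (.node (.leaf 726) (.leaf 1564)) (.node (.leaf 1715) (.leaf 816))) (.node (.node (.leaf 542) (.leaf 1984)) (.leaf 146))))) (.node (.node (.node (.node (.node (.leaf 1159) (.leaf 579)) (.node (.leaf 1408) (.leaf 1668))) (.node (.node (.leaf 688) (.leaf 16)) (.leaf 768))) (.node (.node (.node (.leaf 1450) (.leaf 1496)) (.node (.leaf 1118) (.leaf 2042))) (.node (.node (.leaf 1495) (.leaf 1683)) (.leaf 1221)))) (.node (.node (.node (.node (.leaf 2013) (.leaf 1147)) (.node (.leaf 913) (.leaf 1530))) (.node (.node (.leaf 183) (.leaf 1602)) (.leaf 683))) (.node (.node (.node (.leaf 726) (.leaf 2040)) (.node (.leaf 1156) (.leaf 1290))) (.node (.node (.leaf 1593) (.leaf 1055)) (.leaf 888)))))))) (.node (.node (.node (.node (.node (.node (.node (.node (.leaf 7) (.leaf 658)) (.node (.leaf 1189) (.leaf 931))) (.node (.node (.leaf 1633) (.leaf 2042)) (.node (.leaf 1012) (.leaf 1267)))) (.node (.node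 (.node (.leaf 298) (.leaf 1773)) (.node (.leaf 957) (.leaf 1522))) (.node (.node (.leaf 491) (.leaf 212)) (.leaf 187)))) (.node (.node (.node (.node (.leaf 80) (.leaf 1247)) (.node (.leaf 1622) (.leaf 1140))) (.node (.node (.leaf 713) (.leaf 431)) (.leaf 1672))) (.node (.node (.node (.leaf 70) (.leaf 655)) (.node (.leaf 840) (.leaf 492))) (.node (.node (.leaf 632) (.leaf 67)) (.leaf 1600))))) (.node (.node (.node (.node (.node (.leaf 1105) (.leaf 246)) (.node (.leaf 1629) (.leaf 958))) (.node (.node (.leaf 414) (.leaf 1484)) (.leaf 1211))) (.node (.node (.node (.leaf 430) (.leaf 772)) (.node (.leaf 723) (.leaf 63))) (.node (.node (.leaf 1934) (.leaf 250)) (.leaf 594)))) (.node (.node (.node (.node (.leaf 101) (.leaf 2025)) (.node (.leaf 495) (.leaf 1763))) (.node (.node (.leaf 880) (.leaf 1)) (.leaf 249))) (.node (.node (.node (.leaf 1806) (.leaf 763)) (.node (.leaf 2051) (.leaf 1957))) (.node (.node (.leaf 1971) (.leaf 1514)) (.leaf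 940)))))) (.node (.node (.node (.node (.node (.node (.leaf 861) (.leaf 1045)) (.node (.leaf 1309) (.leaf 162))) (.node (.node (.leaf 706) (.leaf 1595)) (.leaf 2027))) (.node (.node (.node (.leaf 298) (.leaf 835)) (.node (.leaf 772) (.leaf 1606))) (.node (.node (.leaf 883) (.leaf 1450)) (.leaf 1427)))) (.node (.node (.node (.node (.leaf 604) (.leaf 1269)) (.node (.leaf 1271) (.leaf 833))) (.node (.node (.leaf 1085) (.leaf 0)) (.leaf 1240))) (.node (.node (.node (.leaf 1000) (.leaf 221)) (.node (.leaf 183) (.leaf 566))) (.node (.node (.leaf 174) (.leaf 545)) (.leaf 1928))))) (.node (.node (.node (.node (.node (.leaf 1921) (.leaf 438)) (.node (.leaf 1906) (.leaf 613))) (.node (.node (.leaf 1876) (.leaf 1661)) (.leaf 758))) (.node (.node (.node (.leaf 617) (.leaf 1630)) (.node (.leaf 1692) (.leaf 943))) (.node (.node (.leaf 1633) (.leaf 1542)) (.leaf 648)))) (.node (.node (.node (.node (.leaf 1444) (.leaf 197)) (.node (.leaf 1659) (.leaf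 1273))) (.node (.node (.leaf 950) (.leaf 796)) (.leaf 124))) (.node (.node (.node (.leaf 947) (.leaf 527)) (.node (.leaf 1375) (.leaf 931))) (.node (.node (.leaf 574) (.leaf 595)) (.leaf 102))))))) (.node (.node (.node (.node (.node (.node (.node (.leaf 895) (.leaf 730)) (.node (.leaf 748) (.leaf 1472))) (.node (.node (.leaf 13) (.leaf 58)) (.leaf 1244))) (.node (.node (.node (.leaf 1796) (.leaf 532)) (.node (.leaf 330) (.leaf 109))) (.node (.node (.leaf 1059) (.leaf 358)) (.leaf 1294)))) (.node (.node (.node (.node (.leaf 1402) (.leaf 1591)) (.node (.leaf 1492) (.leaf 74))) (.node (.node (.leaf 485) (.leaf 1855)) (.leaf 244))) (.node (.node (.node (.leaf 846) (.leaf 258)) (.node (.leaf 1302) (.leaf 332))) (.node (.node (.leaf 897) (.leaf 1423)) (.leaf 333))))) (.node (.node (.node (.node (.node (.leaf 53) (.leaf 1374)) (.node (.leaf 1890) (.leaf 1620))) (.node (.node (.leaf 698) (.leaf 543)) (.leaf 1110))) (.node (.node (.node (.leaf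 199) (.leaf 1369)) (.node (.leaf 393) (.leaf 1650))) (.node (.node (.leaf 1642) (.leaf 2026)) (.leaf 1077)))) (.node (.node (.node (.node (.leaf 951) (.leaf 429)) (.node (.leaf 1689) (.leaf 828))) (.node (.node (.leaf 1983) (.leaf 1589)) (.leaf 1200))) (.node (.node (.node (.leaf 1304) (.leaf 2005)) (.node (.leaf 24) (.leaf 751))) (.node (.node (.leaf 260) (.leaf 2044)) (.leaf 1713)))))) (.node (.node (.node (.node (.node (.node (.leaf 1776) (.leaf 1201)) (.node (.leaf 514) (.leaf 408))) (.node (.node (.leaf 1394) (.leaf 382)) (.leaf 1303))) (.node (.node (.node (.leaf 1138) (.leaf 648)) (.node (.leaf 1109) (.leaf 204))) (.node (.node (.leaf 486) (.leaf 1722)) (.leaf 86)))) (.node (.node (.node (.node (.leaf 345) (.leaf 626)) (.node (.leaf 936) (.leaf 271))) (.node (.node (.leaf 1804) (.leaf 1590)) (.leaf 1665))) (.node (.node (.node (.leaf 180) (.leaf 1248)) (.node (.leaf 1198) (.leaf 1160))) (.node (.node (.leaf 260) (.leaf 1438))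 (.leaf 597))))) (.node (.node (.node (.node (.node (.leaf 1325) (.leaf 1264)) (.node (.leaf 261) (.leaf 1892))) (.node (.node (.leaf 1559) (.leaf 162)) (.leaf 514))) (.node (.node (.node (.leaf 830) (.leaf 934)) (.node (.leaf 238) (.leaf 1696))) (.node (.node (.leaf 1222) (.leaf 838)) (.leaf 1630)))) (.node (.node (.node (.node (.leaf 939) (.leaf 907)) (.node (.leaf 381) (.leaf 1999))) (.node (.node (.leaf 172) (.leaf 585)) (.leaf 1785))) (.node (.node (.node (.leaf 1968) (.leaf 1702)) (.node (.leaf 1349) (.leaf 1741))) (.node (.node (.leaf 1654) (.leaf 1873)) (.leaf 1738)))))))))) (.node (.node (.node (.node (.node (.node (.node (.node (.node (.node (.leaf 1158) (.leaf 389)) (.node (.leaf 481) (.leaf 1757))) (.node (.node (.leaf 1075) (.leaf 1705)) (.node (.leaf 1134) (.leaf 1471)))) (.node (.node (.node (.leaf 2021) (.leaf 1400)) (.node (.leaf 395) (.leaf 860))) (.node (.node (.leaf 973) (.leaf 1610)) (.leaf 1798)))) (.node (.node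 (.node (.node (.leaf 506) (.leaf 776)) (.node (.leaf 9) (.leaf 1273))) (.node (.node (.leaf 174) (.leaf 799)) (.leaf 1295))) (.node (.node (.node (.leaf 1777) (.leaf 230)) (.node (.leaf 919) (.leaf 1343))) (.node (.node (.leaf 551) (.leaf 1675)) (.leaf 1227))))) (.node (.node (.node (.node (.node (.leaf 1125) (.leaf 1198)) (.node (.leaf 493) (.leaf 1964))) (.node (.node (.leaf 1425) (.leaf 635)) (.leaf 1688))) (.node (.node (.node (.leaf 872) (.leaf 408)) (.node (.leaf 1639) (.leaf 200))) (.node (.node (.leaf 1423) (.leaf 1623)) (.leaf 1176)))) (.node (.node (.node (.node (.leaf 224) (.leaf 283)) (.node (.leaf 158) (.leaf 554))) (.node (.node (.leaf 1285) (.leaf 214)) (.leaf 720))) (.node (.node (.node (.leaf 107) (.leaf 980)) (.node (.leaf 1963) (.leaf 2013))) (.node (.node (.leaf 469) (.leaf 862)) (.leaf 1707)))))) (.node (.node (.node (.node (.node (.node (.leaf 1872) (.leaf 1565)) (.node (.leaf 1507) (.leaf 1774))) (.node (.node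 (.leaf 359) (.leaf 940)) (.leaf 745))) (.node (.node (.node (.leaf 1000) (.leaf 844)) (.node (.leaf 364) (.leaf 847))) (.node (.node (.leaf 171) (.leaf 629)) (.leaf 642)))) (.node (.node (.node (.node (.leaf 1868) (.leaf 649)) (.node (.leaf 1283) (.leaf 1381))) (.node (.node (.leaf 379) (.leaf 46)) (.leaf 1512))) (.node (.node (.node (.leaf 1481) (.leaf 1761)) (.node (.leaf 369) (.leaf 1686))) (.node (.node (.leaf 231) (.leaf 203)) (.leaf 599))))) (.node (.node (.node (.node (.node (.leaf 485) (.leaf 1317)) (.node (.leaf 230) (.leaf 275))) (.node (.node (.leaf 1387) (.leaf 595)) (.leaf 856))) (.node (.node (.node (.leaf 848) (.leaf 190)) (.node (.leaf 11) (.leaf 1299))) (.node (.node (.leaf 378) (.leaf 985)) (.leaf 1504)))) (.node (.node (.node (.node (.leaf 267) (.leaf 1704)) (.node (.leaf 549) (.leaf 460))) (.node (.node (.leaf 248) (.leaf 185)) (.leaf 281))) (.node (.node (.node (.leaf 1811) (.leaf 1847)) (.node (.leaf 59) (.leaf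 33))) (.node (.node (.leaf 1926) (.leaf 1872)) (.leaf 82))))))) (.node (.node (.node (.node (.node (.node (.node (.leaf 1691) (.leaf 25)) (.node (.leaf 1074) (.leaf 1317))) (.node (.node (.leaf 1295) (.leaf 1564)) (.leaf 981))) (.node (.node (.node (.leaf 1367) (.leaf 697)) (.node (.leaf 747) (.leaf 620))) (.node (.node (.leaf 1207) (.leaf 264)) (.leaf 1034)))) (.node (.node (.node (.node (.leaf 1893) (.leaf 1998)) (.node (.leaf 1762) (.leaf 992))) (.node (.node (.leaf 535) (.leaf 1338)) (.leaf 566))) (.node (.node (.node (.leaf 371) (.leaf 279)) (.node (.leaf 1362) (.leaf 1549))) (.node (.node (.leaf 1856) (.leaf 1682)) (.leaf 1725))))) (.node (.node (.node (.node (.node (.leaf 1913) (.leaf 1567)) (.node (.leaf 219) (.leaf 504))) (.node (.node (.leaf 540) (.leaf 201)) (.leaf 521))) (.node (.node (.node (.leaf 1839) (.leaf 1228)) (.node (.leaf 1144) (.leaf 1109))) (.node (.node (.leaf 556) (.leaf 317)) (.leaf 26)))) (.node (.node (.node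 (.node (.leaf 381) (.leaf 367)) (.node (.leaf 705) (.leaf 1836))) (.node (.node (.leaf 267) (.leaf 1583)) (.leaf 161))) (.node (.node (.node (.leaf 1166) (.leaf 1080)) (.node (.leaf 268) (.leaf 1789))) (.node (.node (.leaf 312) (.leaf 1729)) (.leaf 1211)))))) (.node (.node (.node (.node (.node (.node (.leaf 29) (.leaf 376)) (.node (.leaf 1637) (.leaf 259))) (.node (.node (.leaf 1294) (.leaf 959)) (.leaf 366))) (.node (.node (.node (.leaf 380) (.leaf 531)) (.node (.leaf 1114) (.leaf 1653))) (.node (.node (.leaf 189) (.leaf 546)) (.leaf 446)))) (.node (.node (.node (.node (.leaf 1404) (.leaf 1272)) (.node (.leaf 1258) (.leaf 2024))) (.node (.node (.leaf 1905) (.leaf 958)) (.leaf 1290))) (.node (.node (.node (.leaf 673) (.leaf 695)) (.node (.leaf 2015) (.leaf 1208))) (.node (.node (.leaf 1325) (.leaf 1094)) (.leaf 712))))) (.node (.node (.node (.node (.node (.leaf 677) (.leaf 732)) (.node (.leaf 974) (.leaf 110))) (.node (.node (.leaf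 415) (.leaf 1081)) (.leaf 1559))) (.node (.node (.node (.leaf 949) (.leaf 1382)) (.node (.leaf 777) (.leaf 406))) (.node (.node (.leaf 1128) (.leaf 502)) (.leaf 1731)))) (.node (.node (.node (.node (.leaf 1767) (.leaf 1839)) (.node (.leaf 621) (.leaf 1345))) (.node (.node (.leaf 1543) (.leaf 1678)) (.leaf 484))) (.node (.node (.node (.leaf 44) (.leaf 1771)) (.node (.leaf 870) (.leaf 1456))) (.node (.node (.leaf 906) (.leaf 1123)) (.leaf 26)))))))) (.node (.node (.node (.node (.node (.node (.node (.node (.leaf 14) (.leaf 1062)) (.node (.leaf 591) (.leaf 1409))) (.node (.node (.leaf 1268) (.leaf 513)) (.node (.leaf 1076) (.leaf 1281)))) (.node (.node (.node (.leaf 685) (.leaf 723)) (.node (.leaf 539) (.leaf 41))) (.node (.node (.leaf 2048) (.leaf 1164)) (.leaf 142)))) (.node (.node (.node (.node (.leaf 1448) (.leaf 650)) (.node (.leaf 1399) (.leaf 393))) (.node (.node (.leaf 1529) (.leaf 1264)) (.leaf 177))) (.node (.node (.node (.leaf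 1803) (.leaf 1797)) (.node (.leaf 1341) (.leaf 387))) (.node (.node (.leaf 936) (.leaf 1994)) (.leaf 1283))))) (.node (.node (.node (.node (.node (.leaf 1031) (.leaf 850)) (.node (.leaf 1954) (.leaf 820))) (.node (.node (.leaf 774) (.leaf 151)) (.leaf 182))) (.node (.node (.node (.leaf 1586) (.leaf 1014)) (.node (.leaf 1332) (.leaf 1359))) (.node (.node (.leaf 752) (.leaf 170)) (.leaf 278)))) (.node (.node (.node (.node (.leaf 655) (.leaf 1204)) (.node (.leaf 805) (.leaf 1461))) (.node (.node (.leaf 1637) (.leaf 1336)) (.leaf 679))) (.node (.node (.node (.leaf 760) (.leaf 258)) (.node (.leaf 1237) (.leaf 460))) (.node (.node (.leaf 1866) (.leaf 289)) (.leaf 1190)))))) (.node (.node (.node (.node (.node (.node (.leaf 1454) (.leaf 789)) (.node (.leaf 1961) (.leaf 1755))) (.node (.node (.leaf 1651) (.leaf 702)) (.leaf 754))) (.node (.node (.node (.leaf 879) (.leaf 1663)) (.node (.leaf 1522) (.leaf 1926))) (.node (.node (.leaf 2057) (.leaf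 873)) (.leaf 1029)))) (.node (.node (.node (.node (.leaf 2023) (.leaf 350)) (.node (.leaf 1572) (.leaf 118))) (.node (.node (.leaf 1313) (.leaf 1139)) (.leaf 736))) (.node (.node (.node (.leaf 1982) (.leaf 1802)) (.node (.leaf 488) (.leaf 1819))) (.node (.node (.leaf 1389) (.leaf 222)) (.leaf 910))))) (.node (.node (.node (.node (.node (.leaf 546) (.leaf 1536)) (.node (.leaf 1041) (.leaf 93))) (.node (.node (.leaf 1499) (.leaf 1938)) (.leaf 938))) (.node (.node (.node (.leaf 350) (.leaf 727)) (.node (.leaf 48) (.leaf 139))) (.node (.node (.leaf 936) (.leaf 1473)) (.leaf 9)))) (.node (.node (.node (.node (.leaf 1986) (.leaf 272)) (.node (.leaf 1341) (.leaf 1836))) (.node (.node (.leaf 485) (.leaf 1051)) (.leaf 1621))) (.node (.node (.node (.leaf 935) (.leaf 1634)) (.node (.leaf 1623) (.leaf 1460))) (.node (.node (.leaf 1618) (.leaf 62)) (.leaf 744))))))) (.node (.node (.node (.node (.node (.node (.node (.leaf 1826) (.leaf 929)) (.node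 (.leaf 1630) (.leaf 1134))) (.node (.node (.leaf 508) (.leaf 641)) (.leaf 1152))) (.node (.node (.node (.leaf 1978) (.leaf 72)) (.node (.leaf 1573) (.leaf 944))) (.node (.node (.leaf 1467) (.leaf 1067)) (.leaf 1682)))) (.node (.node (.node (.node (.leaf 1244) (.leaf 2022)) (.node (.leaf 885) (.leaf 1749))) (.node (.node (.leaf 1980) (.leaf 1291)) (.leaf 1945))) (.node (.node (.node (.leaf 1238) (.leaf 922)) (.node (.leaf 877) (.leaf 1123))) (.node (.node (.leaf 1451) (.leaf 246)) (.leaf 970))))) (.node (.node (.node (.node (.node (.leaf 172) (.leaf 510)) (.node (.leaf 2015) (.leaf 2020))) (.node (.node (.leaf 313) (.leaf 576)) (.leaf 1185))) (.node (.node (.node (.leaf 1325) (.leaf 972)) (.node (.leaf 280) (.leaf 1146))) (.node (.node (.leaf 969) (.leaf 1525)) (.leaf 904)))) (.node (.node (.node (.node (.leaf 865) (.leaf 303)) (.node (.leaf 719) (.leaf 164))) (.node (.node (.leaf 2029) (.leaf 70)) (.leaf 1562))) (.node (.node (.node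 (.leaf 1863) (.leaf 997)) (.node (.leaf 89) (.leaf 912))) (.node (.node (.leaf 1660) (.leaf 736)) (.leaf 571)))))) (.node (.node (.node (.node (.node (.node (.leaf 1748) (.leaf 340)) (.node (.leaf 1941) (.leaf 1523))) (.node (.node (.leaf 86) (.leaf 2012)) (.leaf 48))) (.node (.node (.node (.leaf 1248) (.leaf 1366)) (.node (.leaf 391) (.leaf 1856))) (.node (.node (.leaf 707) (.leaf 1259)) (.leaf 1913)))) (.node (.node (.node (.node (.leaf 888) (.leaf 1621)) (.node (.leaf 1748) (.leaf 1862))) (.node (.node (.leaf 1781) (.leaf 2038)) (.leaf 776))) (.node (.node (.node (.leaf 1829) (.leaf 804)) (.node (.leaf 1477) (.leaf 934))) (.node (.node (.leaf 2044) (.leaf 1917)) (.leaf 1851))))) (.node (.node (.node (.node (.node (.leaf 1851) (.leaf 976)) (.node (.leaf 681) (.leaf 1618))) (.node (.node (.leaf 532) (.leaf 927)) (.leaf 1214))) (.node (.node (.node (.leaf 1977) (.leaf 1426)) (.node (.leaf 1585) (.leaf 555))) (.node (.node (.leaf 972)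 (.leaf 1900)) (.leaf 1232)))) (.node (.node (.node (.node (.leaf 1531) (.leaf 2001)) (.node (.leaf 690) (.leaf 2039))) (.node (.node (.leaf 2046) (.leaf 2057)) (.leaf 1567))) (.node (.node (.node (.leaf 1107) (.leaf 321)) (.node (.leaf 1754) (.leaf 452))) (.node (.node (.leaf 582) (.leaf 132)) (.leaf 161))))))))) (.node (.node (.node (.node (.node (.node (.node (.node (.node (.leaf 1187) (.leaf 1813)) (.node (.leaf 804) (.leaf 635))) (.node (.node (.leaf 540) (.leaf 1803)) (.node (.leaf 422) (.leaf 893)))) (.node (.node (.node (.leaf 1533) (.leaf 343)) (.node (.leaf 735) (.leaf 1013))) (.node (.node (.leaf 1331) (.leaf 219)) (.leaf 1161)))) (.node (.node (.node (.node (.leaf 77) (.leaf 1091)) (.node (.leaf 1673) (.leaf 405))) (.node (.node (.leaf 1686) (.leaf 780)) (.leaf 749))) (.node (.node (.node (.leaf 133) (.leaf 1906)) (.node (.leaf 19) (.leaf 1438))) (.node (.node (.leaf 1602) (.leaf 144)) (.leaf 872))))) (.node (.node (.node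 (.node (.node (.leaf 1684) (.leaf 914)) (.node (.leaf 1135) (.leaf 1379))) (.node (.node (.leaf 1039) (.leaf 1724)) (.leaf 20))) (.node (.node (.node (.leaf 558) (.leaf 1658)) (.node (.leaf 475) (.leaf 786))) (.node (.node (.leaf 479) (.leaf 728)) (.leaf 197)))) (.node (.node (.node (.node (.leaf 686) (.leaf 425)) (.node (.leaf 1391) (.leaf 1669))) (.node (.node (.leaf 386) (.leaf 57)) (.leaf 1948))) (.node (.node (.node (.leaf 2010) (.leaf 79)) (.node (.leaf 384) (.leaf 2015))) (.node (.node (.leaf 1044) (.leaf 1047)) (.leaf 1597)))))) (.node (.node (.node (.node (.node (.node (.leaf 1331) (.leaf 59)) (.node (.leaf 607) (.leaf 1068))) (.node (.node (.leaf 466) (.leaf 1092)) (.leaf 656))) (.node (.node (.node (.leaf 721) (.leaf 1546)) (.node (.leaf 1111) (.leaf 88))) (.node (.node (.leaf 296) (.leaf 1213)) (.leaf 1679)))) (.node (.node (.node (.node (.leaf 1736) (.leaf 1859)) (.node (.leaf 322) (.leaf 560))) (.node (.node (.leaf 1856)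 (.leaf 1618)) (.leaf 1050))) (.node (.node (.node (.leaf 470) (.leaf 1831)) (.node (.leaf 1402) (.leaf 141))) (.node (.node (.leaf 534) (.leaf 1925)) (.leaf 119))))) (.node (.node (.node (.node (.node (.leaf 407) (.leaf 252)) (.node (.leaf 1702) (.leaf 1955))) (.node (.node (.leaf 324) (.leaf 416)) (.leaf 518))) (.node (.node (.node (.leaf 992) (.leaf 45)) (.node (.leaf 65) (.leaf 1960))) (.node (.node (.leaf 594) (.leaf 1085)) (.leaf 1532)))) (.node (.node (.node (.node (.leaf 1023) (.leaf 1276)) (.node (.leaf 870) (.leaf 1321))) (.node (.node (.leaf 1478) (.leaf 748)) (.leaf 1841))) (.node (.node (.node (.leaf 1825) (.leaf 1535)) (.node (.leaf 1342) (.leaf 309))) (.node (.node (.leaf 963) (.leaf 911)) (.leaf 1870))))))) (.node (.node (.node (.node (.node (.node (.node (.leaf 309) (.leaf 390)) (.node (.leaf 598) (.leaf 572))) (.node (.node (.leaf 655) (.leaf 1138)) (.leaf 1076))) (.node (.node (.node (.leaf 277) (.leaf 154)) (.node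 (.leaf 563) (.leaf 679))) (.node (.node (.leaf 1084) (.leaf 1300)) (.leaf 1248)))) (.node (.node (.node (.node (.leaf 326) (.leaf 2037)) (.node (.leaf 813) (.leaf 1009))) (.node (.node (.leaf 1811) (.leaf 62)) (.leaf 1508))) (.node (.node (.node (.leaf 1003) (.leaf 826)) (.node (.leaf 1520) (.leaf 956))) (.node (.node (.leaf 1285) (.leaf 1695)) (.leaf 757))))) (.node (.node (.node (.node (.node (.leaf 1005) (.leaf 1620)) (.node (.leaf 100) (.leaf 1575))) (.node (.node (.leaf 1263) (.leaf 1512)) (.leaf 204))) (.node (.node (.node (.leaf 1230) (.leaf 1350)) (.node (.leaf 1049) (.leaf 912))) (.node (.node (.leaf 1596) (.leaf 1329)) (.leaf 567)))) (.node (.node (.node (.node (.leaf 1113) (.leaf 1700)) (.node (.leaf 908) (.leaf 1172))) (.node (.node (.leaf 44) (.leaf 801)) (.leaf 2005))) (.node (.node (.node (.leaf 259) (.leaf 404)) (.node (.leaf 1823) (.leaf 1636))) (.node (.node (.leaf 796) (.leaf 292)) (.leaf 787)))))) (.node (.node (.node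 (.node (.node (.node (.leaf 862) (.leaf 165)) (.node (.leaf 1329) (.leaf 1035))) (.node (.node (.leaf 428) (.leaf 1494)) (.leaf 735))) (.node (.node (.node (.leaf 1999) (.leaf 352)) (.node (.leaf 1266) (.leaf 2033))) (.node (.node (.leaf 156) (.leaf 1919)) (.leaf 1377)))) (.node (.node (.node (.node (.leaf 391) (.leaf 1798)) (.node (.leaf 874) (.leaf 337))) (.node (.node (.leaf 1133) (.leaf 1567)) (.leaf 531))) (.node (.node (.node (.leaf 982) (.leaf 952)) (.node (.leaf 938) (.leaf 72))) (.node (.node (.leaf 1729) (.leaf 1786)) (.leaf 504))))) (.node (.node (.node (.node (.node (.leaf 837) (.leaf 891)) (.node (.leaf 1795) (.leaf 1979))) (.node (.node (.leaf 845) (.leaf 49)) (.leaf 541))) (.node (.node (.node (.leaf 1574) (.leaf 1113)) (.node (.leaf 453) (.leaf 1407))) (.node (.node (.leaf 74) (.leaf 1679)) (.leaf 488)))) (.node (.node (.node (.node (.leaf 1997) (.leaf 1288)) (.node (.leaf 286) (.leaf 1604))) (.node (.node (.leaf 704)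 (.leaf 1834)) (.leaf 1965))) (.node (.node (.node (.leaf 1025) (.leaf 1240)) (.node (.leaf 184) (.leaf 945))) (.node (.node (.leaf 690) (.leaf 50)) (.leaf 1162)))))))) (.node (.node (.node (.node (.node (.node (.node (.node (.leaf 149) (.leaf 1182)) (.node (.leaf 304) (.leaf 1782))) (.node (.node (.leaf 362) (.leaf 1000)) (.node (.leaf 344) (.leaf 315)))) (.node (.node (.node (.leaf 643) (.leaf 541)) (.node (.leaf 1546) (.leaf 1324))) (.node (.node (.leaf 1959) (.leaf 2032)) (.leaf 832)))) (.node (.node (.node (.node (.leaf 425) (.leaf 216)) (.node (.leaf 277) (.leaf 6))) (.node (.node (.leaf 1815) (.leaf 869)) (.leaf 1861))) (.node (.node (.node (.leaf 798) (.leaf 1838)) (.node (.leaf 671) (.leaf 1062))) (.node (.node (.leaf 1651) (.leaf 1448)) (.leaf 240))))) (.node (.node (.node (.node (.node (.leaf 45) (.leaf 1738)) (.node (.leaf 605) (.leaf 218))) (.node (.node (.leaf 1376) (.leaf 203)) (.leaf 1294))) (.node (.node (.node (.leaf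 1372) (.leaf 1361)) (.node (.leaf 984) (.leaf 1254))) (.node (.node (.leaf 1585) (.leaf 1424)) (.leaf 1069)))) (.node (.node (.node (.node (.leaf 133) (.leaf 819)) (.node (.leaf 1046) (.leaf 1753))) (.node (.node (.leaf 1233) (.leaf 103)) (.leaf 1407))) (.node (.node (.node (.leaf 42) (.leaf 243)) (.node (.leaf 102) (.leaf 932))) (.node (.node (.leaf 540) (.leaf 980)) (.leaf 1142)))))) (.node (.node (.node (.node (.node (.node (.leaf 1162) (.leaf 1166)) (.node (.leaf 177) (.leaf 1782))) (.node (.node (.leaf 819) (.leaf 1598)) (.leaf 933))) (.node (.node (.node (.leaf 210) (.leaf 1972)) (.node (.leaf 916) (.leaf 1494))) (.node (.node (.leaf 741) (.leaf 762)) (.leaf 1051)))) (.node (.node (.node (.node (.leaf 145) (.leaf 1303)) (.node (.leaf 152) (.leaf 1349))) (.node (.node (.leaf 77) (.leaf 1002)) (.leaf 1592))) (.node (.node (.node (.leaf 1214) (.leaf 221)) (.node (.leaf 733) (.leaf 1313))) (.node (.node (.leaf 905) (.leaf 1709)) (.leaf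 1747))))) (.node (.node (.node (.node (.node (.leaf 21) (.leaf 1895)) (.node (.leaf 1403) (.leaf 1524))) (.node (.node (.leaf 2032) (.leaf 259)) (.leaf 622))) (.node (.node (.node (.leaf 1417) (.leaf 1795)) (.node (.leaf 340) (.leaf 1364))) (.node (.node (.leaf 71) (.leaf 1322)) (.leaf 605)))) (.node (.node (.node (.node (.leaf 1242) (.leaf 1836)) (.node (.leaf 156) (.leaf 524))) (.node (.node (.leaf 315) (.leaf 1599)) (.leaf 1377))) (.node (.node (.node (.leaf 1044) (.leaf 522)) (.node (.leaf 1786) (.leaf 247))) (.node (.node (.leaf 1425) (.leaf 1677)) (.leaf 1028))))))) (.node (.node (.node (.node (.node (.node (.node (.leaf 1228) (.leaf 3)) (.node (.leaf 952) (.leaf 1401))) (.node (.node (.leaf 477) (.leaf 1703)) (.leaf 2050))) (.node (.node (.node (.leaf 1650) (.leaf 599)) (.node (.leaf 786) (.leaf 669))) (.node (.node (.leaf 750) (.leaf 223)) (.leaf 1757)))) (.node (.node (.node (.node (.leaf 1666) (.leaf 868)) (.node (.leaf 1947)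 (.leaf 1951))) (.node (.node (.leaf 150) (.leaf 221)) (.leaf 539))) (.node (.node (.node (.leaf 1800) (.leaf 1747)) (.node (.leaf 1005) (.leaf 41))) (.node (.node (.leaf 276) (.leaf 918)) (.leaf 483))))) (.node (.node (.node (.node (.node (.leaf 54) (.leaf 777)) (.node (.leaf 1987) (.leaf 819))) (.node (.node (.leaf 1805) (.leaf 346)) (.leaf 274))) (.node (.node (.node (.leaf 200) (.leaf 1041)) (.node (.leaf 243) (.leaf 1814))) (.node (.node (.leaf 1082) (.leaf 1937)) (.leaf 283)))) (.node (.node (.node (.node (.leaf 1931) (.leaf 1058)) (.node (.leaf 1749) (.leaf 1395))) (.node (.node (.leaf 1006) (.leaf 305)) (.leaf 1530))) (.node (.node (.node (.leaf 1878) (.leaf 576)) (.node (.leaf 1265) (.leaf 1352))) (.node (.node (.leaf 467) (.leaf 2045)) (.leaf 114)))))) (.node (.node (.node (.node (.node (.node (.leaf 635) (.leaf 784)) (.node (.leaf 723) (.leaf 1548))) (.node (.node (.leaf 759) (.leaf 1734)) (.leaf 1612))) (.node (.node (.node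 (.leaf 1136) (.leaf 1395)) (.node (.leaf 2049) (.leaf 1414))) (.node (.node (.leaf 1380) (.leaf 1252)) (.leaf 1120)))) (.node (.node (.node (.node (.leaf 310) (.leaf 522)) (.node (.leaf 385) (.leaf 274))) (.node (.node (.leaf 628) (.leaf 454)) (.leaf 210))) (.node (.node (.node (.leaf 657) (.leaf 962)) (.node (.leaf 943) (.leaf 1704))) (.node (.node (.leaf 1517) (.leaf 1439)) (.leaf 397))))) (.node (.node (.node (.node (.node (.leaf 337) (.leaf 45)) (.node (.leaf 764) (.leaf 1701))) (.node (.node (.leaf 796) (.leaf 630)) (.leaf 1420))) (.node (.node (.node (.leaf 512) (.leaf 1900)) (.node (.leaf 803) (.leaf 1215))) (.node (.node (.leaf 1380) (.leaf 893)) (.leaf 1046)))) (.node (.node (.node (.node (.leaf 666) (.leaf 1840)) (.node (.leaf 1186) (.leaf 143))) (.node (.node (.leaf 975) (.leaf 1140)) (.leaf 558))) (.node (.node (.node (.leaf 752) (.leaf 395)) (.node (.leaf 877) (.leaf 279))) (.node (.node (.leaf 95) (.leaf 874)) (.leaf 681)))))))))))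

/-- Part of `ptImg`. -/
def ptImg4 : Tr := (.node (.node (.node (.node (.node (.node (.node (.node (.node (.node (.node (.leaf 1561) (.leaf 97)) (.node (.leaf 1780) (.leaf 1465))) (.node (.node (.leaf 731) (.leaf 1553)) (.node (.leaf 540) (.leaf 777)))) (.node (.node (.node (.leaf 785) (.leaf 1766)) (.node (.leaf 712) (.leaf 638))) (.node (.node (.leaf 196) (.leaf 798)) (.leaf 1997)))) (.node (.node (.node (.node (.leaf 309) (.leaf 792)) (.node (.leaf 1844) (.leaf 2031))) (.node (.node (.leaf 395) (.leaf 40)) (.leaf 1969))) (.node (.node (.node (.leaf 950) (.leaf 1730)) (.node (.leaf 2032) (.leaf 151))) (.node (.node (.leaf 526) (.leaf 1693)) (.leaf 1027))))) (.node (.node (.node (.node (.node (.leaf 37) (.leaf 257)) (.node (.leaf 323) (.leaf 218))) (.node (.node (.leaf 486) (.leaf 1118)) (.leaf 1662))) (.node (.node (.node (.leaf 432) (.leaf 1823)) (.node (.leaf 627) (.leaf 1523))) (.node (.node (.leaf 645) (.leaf 1058)) (.leaf 239))))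 (.node (.node (.node (.node (.leaf 1256) (.leaf 1418)) (.node (.leaf 1942) (.leaf 1236))) (.node (.node (.leaf 255) (.leaf 73)) (.leaf 738))) (.node (.node (.node (.leaf 634) (.leaf 772)) (.node (.leaf 953) (.leaf 760))) (.node (.node (.leaf 595) (.leaf 889)) (.leaf 879)))))) (.node (.node (.node (.node (.node (.node (.leaf 1992) (.leaf 1954)) (.node (.leaf 2014) (.leaf 1775))) (.node (.node (.leaf 1857) (.leaf 1291)) (.leaf 904))) (.node (.node (.node (.leaf 1688) (.leaf 599)) (.node (.leaf 1989) (.leaf 1638))) (.node (.node (.leaf 756) (.leaf 631)) (.leaf 1888)))) (.node (.node (.node (.node (.leaf 881) (.leaf 1845)) (.node (.leaf 979) (.leaf 1847))) (.node (.node (.leaf 736) (.leaf 1968)) (.leaf 490))) (.node (.node (.node (.leaf 1756) (.leaf 937)) (.node (.leaf 70) (.leaf 37))) (.node (.node (.leaf 1381) (.leaf 920)) (.leaf 1497))))) (.node (.node (.node (.node (.node (.leaf 281) (.leaf 472)) (.node (.leaf 79) (.leaf 1025))) (.node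 (.node (.leaf 955) (.leaf 931)) (.leaf 381))) (.node (.node (.node (.leaf 1810) (.leaf 1807)) (.node (.leaf 749) (.leaf 412))) (.node (.node (.leaf 368) (.leaf 1975)) (.leaf 966)))) (.node (.node (.node (.node (.leaf 1080) (.leaf 7)) (.node (.leaf 1167) (.leaf 1314))) (.node (.node (.leaf 818) (.leaf 1031)) (.leaf 1326))) (.node (.node (.node (.leaf 931) (.leaf 1445)) (.node (.leaf 32) (.leaf 313))) (.node (.node (.leaf 1073) (.leaf 591)) (.leaf 1048))))))) (.node (.node (.node (.node (.node (.node (.node (.leaf 933) (.leaf 27)) (.node (.leaf 1067) (.leaf 2023))) (.node (.node (.leaf 2026) (.leaf 367)) (.node (.leaf 1679) (.leaf 429)))) (.node (.node (.node (.leaf 434) (.leaf 1006)) (.node (.leaf 64) (.leaf 1406))) (.node (.node (.leaf 6) (.leaf 1698)) (.leaf 155)))) (.node (.node (.node (.node (.leaf 1580) (.leaf 1525)) (.node (.leaf 1662) (.leaf 1734))) (.node (.node (.leaf 523) (.leaf 153)) (.leaf 1154))) (.node (.node (.node (.leaf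 572) (.leaf 664)) (.node (.leaf 115) (.leaf 1014))) (.node (.node (.leaf 1868) (.leaf 697)) (.leaf 162))))) (.node (.node (.node (.node (.node (.leaf 1226) (.leaf 1629)) (.node (.leaf 64) (.leaf 1014))) (.node (.node (.leaf 1727) (.leaf 728)) (.leaf 1329))) (.node (.node (.node (.leaf 1600) (.leaf 1178)) (.node (.leaf 1832) (.leaf 179))) (.node (.node (.leaf 382) (.leaf 1822)) (.leaf 1940)))) (.node (.node (.node (.node (.leaf 165) (.leaf 438)) (.node (.leaf 433) (.leaf 390))) (.node (.node (.leaf 412) (.leaf 1395)) (.leaf 1376))) (.node (.node (.node (.leaf 1405) (.leaf 180)) (.node (.leaf 571) (.leaf 26))) (.node (.node (.leaf 1023) (.leaf 1991)) (.leaf 771)))))) (.node (.node (.node (.node (.node (.node (.leaf 85) (.leaf 839)) (.node (.leaf 1817) (.leaf 1183))) (.node (.node (.leaf 930) (.leaf 12)) (.leaf 538))) (.node (.node (.node (.leaf 367) (.leaf 524)) (.node (.leaf 328) (.leaf 1809))) (.node (.node (.leaf 1252) (.leaf 614))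 (.leaf 495)))) (.node (.node (.node (.node (.leaf 323) (.leaf 647)) (.node (.leaf 902) (.leaf 1916))) (.node (.node (.leaf 1834) (.leaf 1473)) (.leaf 1617))) (.node (.node (.node (.leaf 1213) (.leaf 523)) (.node (.leaf 1695) (.leaf 248))) (.node (.node (.leaf 557) (.leaf 603)) (.leaf 38))))) (.node (.node (.node (.node (.node (.leaf 1876) (.leaf 585)) (.node (.leaf 1120) (.leaf 882))) (.node (.node (.leaf 1775) (.leaf 625)) (.leaf 705))) (.node (.node (.node (.leaf 398) (.leaf 332)) (.node (.leaf 365) (.leaf 761))) (.node (.node (.leaf 921) (.leaf 1583)) (.leaf 1671)))) (.node (.node (.node (.node (.leaf 1797) (.leaf 382)) (.node (.leaf 144) (.leaf 1418))) (.node (.node (.leaf 1417) (.leaf 192)) (.leaf 446))) (.node (.node (.node (.leaf 22) (.leaf 163)) (.node (.leaf 346) (.leaf 988))) (.node (.node (.leaf 1737) (.leaf 608)) (.leaf 1223)))))))) (.node (.node (.node (.node (.node (.node (.node (.node (.leaf 898) (.leaf 1513)) (.node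 (.leaf 1280) (.leaf 293))) (.node (.node (.leaf 687) (.leaf 1059)) (.node (.leaf 32) (.leaf 1103)))) (.node (.node (.node (.leaf 1975) (.leaf 1307)) (.node (.leaf 384) (.leaf 953))) (.node (.node (.leaf 715) (.leaf 1648)) (.leaf 881)))) (.node (.node (.node (.node (.leaf 424) (.leaf 1726)) (.node (.leaf 1566) (.leaf 850))) (.node (.node (.leaf 1596) (.leaf 752)) (.leaf 401))) (.node (.node (.node (.leaf 2051) (.leaf 1798)) (.node (.leaf 16) (.leaf 381))) (.node (.node (.leaf 1537) (.leaf 1379)) (.leaf 1366))))) (.node (.node (.node (.node (.node (.leaf 985) (.leaf 827)) (.node (.leaf 1056) (.leaf 1797))) (.node (.node (.leaf 1282) (.leaf 807)) (.leaf 1264))) (.node (.node (.node (.leaf 188) (.leaf 452)) (.node (.leaf 601) (.leaf 683))) (.node (.node (.leaf 1444) (.leaf 163)) (.leaf 147)))) (.node (.node (.node (.node (.leaf 1307) (.leaf 912)) (.node (.leaf 78) (.leaf 32))) (.node (.node (.leaf 2029) (.leaf 701)) (.leaf 1801))) (.node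 (.node (.node (.leaf 938) (.leaf 866)) (.node (.leaf 321) (.leaf 2016))) (.node (.node (.leaf 1606) (.leaf 300)) (.leaf 1475)))))) (.node (.node (.node (.node (.node (.node (.leaf 1474) (.leaf 1731)) (.node (.leaf 1136) (.leaf 137))) (.node (.node (.leaf 1913) (.leaf 675)) (.leaf 2016))) (.node (.node (.node (.leaf 721) (.leaf 1856)) (.node (.leaf 382) (.leaf 1321))) (.node (.node (.leaf 1411) (.leaf 1903)) (.leaf 949)))) (.node (.node (.node (.node (.leaf 311) (.leaf 546)) (.node (.leaf 822) (.leaf 1306))) (.node (.node (.leaf 389) (.leaf 1340)) (.leaf 974))) (.node (.node (.node (.leaf 1319) (.leaf 1959)) (.node (.leaf 794) (.leaf 1146))) (.node (.node (.leaf 376) (.leaf 2002)) (.leaf 1235))))) (.node (.node (.node (.node (.node (.leaf 60) (.leaf 308)) (.node (.leaf 1948) (.leaf 902))) (.node (.node (.leaf 1082) (.leaf 755)) (.leaf 951))) (.node (.node (.node (.leaf 300) (.leaf 337)) (.node (.leaf 1273) (.leaf 295))) (.node (.node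 (.leaf 1503) (.leaf 1761)) (.leaf 1982)))) (.node (.node (.node (.node (.leaf 118) (.leaf 912)) (.node (.leaf 343) (.leaf 21))) (.node (.node (.leaf 392) (.leaf 370)) (.leaf 1181))) (.node (.node (.node (.leaf 1400) (.leaf 792)) (.node (.leaf 864) (.leaf 909))) (.node (.node (.leaf 1445) (.leaf 1742)) (.leaf 1246))))))) (.node (.node (.node (.node (.node (.node (.node (.leaf 536) (.leaf 1176)) (.node (.leaf 1335) (.leaf 1184))) (.node (.node (.leaf 1166) (.leaf 838)) (.leaf 94))) (.node (.node (.node (.leaf 1318) (.leaf 1538)) (.node (.leaf 178) (.leaf 302))) (.node (.node (.leaf 453) (.leaf 2023)) (.leaf 1052)))) (.node (.node (.node (.node (.leaf 800) (.leaf 1741)) (.node (.leaf 1774) (.leaf 750))) (.node (.node (.leaf 766) (.leaf 1373)) (.leaf 962))) (.node (.node (.node (.leaf 1958) (.leaf 1753)) (.node (.leaf 1919) (.leaf 1660))) (.node (.node (.leaf 874) (.leaf 826)) (.leaf 2050))))) (.node (.node (.node (.node (.node (.leaf 1148)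 (.leaf 1186)) (.node (.leaf 482) (.leaf 263))) (.node (.node (.leaf 1320) (.leaf 700)) (.leaf 1822))) (.node (.node (.node (.leaf 906) (.leaf 1072)) (.node (.leaf 20) (.leaf 1716))) (.node (.node (.leaf 1216) (.leaf 230)) (.leaf 595)))) (.node (.node (.node (.node (.leaf 1013) (.leaf 922)) (.node (.leaf 235) (.leaf 826))) (.node (.node (.leaf 1521) (.leaf 773)) (.leaf 1921))) (.node (.node (.node (.leaf 293) (.leaf 719)) (.node (.leaf 1945) (.leaf 1267))) (.node (.node (.leaf 1360) (.leaf 1749)) (.leaf 1215)))))) (.node (.node (.node (.node (.node (.node (.leaf 1769) (.leaf 414)) (.node (.leaf 601) (.leaf 1687))) (.node (.node (.leaf 95) (.leaf 562)) (.leaf 1089))) (.node (.node (.node (.leaf 733) (.leaf 498)) (.node (.leaf 559) (.leaf 1934))) (.node (.node (.leaf 171) (.leaf 1915)) (.leaf 1705)))) (.node (.node (.node (.node (.leaf 1656) (.leaf 587)) (.node (.leaf 579) (.leaf 1201))) (.node (.node (.leaf 1414) (.leaf 1227)) (.leaf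 1658))) (.node (.node (.node (.leaf 1229) (.leaf 642)) (.node (.leaf 160) (.leaf 1950))) (.node (.node (.leaf 415) (.leaf 1969)) (.leaf 1531))))) (.node (.node (.node (.node (.node (.leaf 46) (.leaf 1619)) (.node (.leaf 1639) (.leaf 99))) (.node (.node (.leaf 753) (.leaf 1967)) (.leaf 1186))) (.node (.node (.node (.leaf 964) (.leaf 622)) (.node (.leaf 1853) (.leaf 1113))) (.node (.node (.leaf 508) (.leaf 144)) (.leaf 1752)))) (.node (.node (.node (.node (.leaf 216) (.leaf 1940)) (.node (.leaf 1443) (.leaf 423))) (.node (.node (.leaf 684) (.leaf 1678)) (.leaf 149))) (.node (.node (.node (.leaf 999) (.leaf 1078)) (.node (.leaf 1884) (.leaf 466))) (.node (.node (.leaf 852) (.leaf 1007)) (.leaf 197))))))))) (.node (.node (.node (.node (.node (.node (.node (.node (.node (.leaf 620) (.leaf 1026)) (.node (.leaf 699) (.leaf 339))) (.node (.node (.leaf 1385) (.leaf 15)) (.node (.leaf 409) (.leaf 456)))) (.node (.node (.node (.leaf 149) (.leaf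 1292)) (.node (.leaf 734) (.leaf 1572))) (.node (.node (.leaf 468) (.leaf 516)) (.leaf 279)))) (.node (.node (.node (.node (.leaf 894) (.leaf 101)) (.node (.leaf 1498) (.leaf 687))) (.node (.node (.leaf 23) (.leaf 1330)) (.leaf 841))) (.node (.node (.node (.leaf 116) (.leaf 469)) (.node (.leaf 985) (.leaf 1556))) (.node (.node (.leaf 619) (.leaf 445)) (.leaf 830))))) (.node (.node (.node (.node (.node (.leaf 1460) (.leaf 1174)) (.node (.leaf 2057) (.leaf 634))) (.node (.node (.leaf 332) (.leaf 1285)) (.leaf 2033))) (.node (.node (.node (.leaf 1300) (.leaf 406)) (.node (.leaf 315) (.leaf 683))) (.node (.node (.leaf 209) (.leaf 1626)) (.leaf 486)))) (.node (.node (.node (.node (.leaf 1854) (.leaf 334)) (.node (.leaf 770) (.leaf 93))) (.node (.node (.leaf 191) (.leaf 451)) (.leaf 64))) (.node (.node (.node (.leaf 1082) (.leaf 578)) (.node (.leaf 367) (.leaf 1609))) (.node (.node (.leaf 1045) (.leaf 1328)) (.leaf 608)))))) (.node (.node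 (.node (.node (.node (.node (.leaf 1161) (.leaf 1551)) (.node (.leaf 606) (.leaf 720))) (.node (.node (.leaf 2030) (.leaf 1770)) (.leaf 593))) (.node (.node (.node (.leaf 961) (.leaf 642)) (.node (.leaf 481) (.leaf 1270))) (.node (.node (.leaf 1885) (.leaf 1095)) (.leaf 434)))) (.node (.node (.node (.node (.leaf 979) (.leaf 1241)) (.node (.leaf 993) (.leaf 1437))) (.node (.node (.leaf 129) (.leaf 811)) (.leaf 509))) (.node (.node (.node (.leaf 1105) (.leaf 586)) (.node (.leaf 1335) (.leaf 849))) (.node (.node (.leaf 675) (.leaf 1480)) (.leaf 1706))))) (.node (.node (.node (.node (.node (.leaf 264) (.leaf 489)) (.node (.leaf 1043) (.leaf 1174))) (.node (.node (.leaf 207) (.leaf 817)) (.leaf 280))) (.node (.node (.node (.leaf 1898) (.leaf 1223)) (.node (.leaf 1762) (.leaf 1901))) (.node (.node (.leaf 1212) (.leaf 1666)) (.leaf 752)))) (.node (.node (.node (.node (.leaf 130) (.leaf 1842)) (.node (.leaf 448) (.leaf 1500))) (.node (.node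 (.leaf 846) (.leaf 578)) (.leaf 882))) (.node (.node (.node (.leaf 277) (.leaf 1854)) (.node (.leaf 31) (.leaf 1617))) (.node (.node (.leaf 157) (.leaf 747)) (.leaf 1565))))))) (.node (.node (.node (.node (.node (.node (.node (.leaf 12) (.leaf 148)) (.node (.leaf 974) (.leaf 1383))) (.node (.node (.leaf 593) (.leaf 1462)) (.leaf 1663))) (.node (.node (.node (.leaf 1732) (.leaf 1204)) (.node (.leaf 316) (.leaf 528))) (.node (.node (.leaf 1151) (.leaf 104)) (.leaf 1064)))) (.node (.node (.node (.node (.leaf 1698) (.leaf 508)) (.node (.leaf 998) (.leaf 903))) (.node (.node (.leaf 1411) (.leaf 788)) (.leaf 741))) (.node (.node (.node (.leaf 1676) (.leaf 1903)) (.node (.leaf 813) (.leaf 1275))) (.node (.node (.leaf 1891) (.leaf 611)) (.leaf 766))))) (.node (.node (.node (.node (.node (.leaf 1986) (.leaf 1550)) (.node (.leaf 251) (.leaf 1331))) (.node (.node (.leaf 942) (.leaf 689)) (.leaf 1337))) (.node (.node (.node (.leaf 1895) (.leaf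 1365)) (.node (.leaf 1444) (.leaf 1950))) (.node (.node (.leaf 1393) (.leaf 50)) (.leaf 1252)))) (.node (.node (.node (.node (.leaf 923) (.leaf 1426)) (.node (.leaf 1480) (.leaf 1877))) (.node (.node (.leaf 66) (.leaf 912)) (.leaf 1268))) (.node (.node (.node (.leaf 417) (.leaf 373)) (.node (.leaf 279) (.leaf 1623))) (.node (.node (.leaf 1850) (.leaf 1537)) (.leaf 1365)))))) (.node (.node (.node (.node (.node (.node (.leaf 1990) (.leaf 1532)) (.node (.leaf 1602) (.leaf 754))) (.node (.node (.leaf 927) (.leaf 1479)) (.leaf 457))) (.node (.node (.node (.leaf 954) (.leaf 1876)) (.node (.leaf 1948) (.leaf 2040))) (.node (.node (.leaf 550) (.leaf 1639)) (.leaf 1054)))) (.node (.node (.node (.node (.leaf 140) (.leaf 1890)) (.node (.leaf 1784) (.leaf 209))) (.node (.node (.leaf 1225) (.leaf 1507)) (.leaf 976))) (.node (.node (.node (.leaf 994) (.leaf 1899)) (.node (.leaf 1634) (.leaf 1532))) (.node (.node (.leaf 1456) (.leaf 9)) (.leaf 950)))))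 (.node (.node (.node (.node (.node (.leaf 1526) (.leaf 43)) (.node (.leaf 2026) (.leaf 1822))) (.node (.node (.leaf 312) (.leaf 39)) (.leaf 213))) (.node (.node (.node (.leaf 788) (.leaf 1767)) (.node (.leaf 1714) (.leaf 168))) (.node (.node (.leaf 878) (.leaf 897)) (.leaf 150)))) (.node (.node (.node (.node (.leaf 2001) (.leaf 117)) (.node (.leaf 973) (.leaf 1954))) (.node (.node (.leaf 173) (.leaf 515)) (.leaf 192))) (.node (.node (.node (.leaf 252) (.leaf 988)) (.node (.leaf 735) (.leaf 1472))) (.node (.node (.leaf 317) (.leaf 1733)) (.leaf 1164)))))))) (.node (.node (.node (.node (.node (.node (.node (.node (.leaf 1298) (.leaf 390)) (.node (.leaf 1098) (.leaf 669))) (.node (.node (.leaf 1724) (.leaf 1495)) (.node (.leaf 1997) (.leaf 763)))) (.node (.node (.node (.leaf 1545) (.leaf 1793)) (.node (.leaf 1661) (.leaf 159))) (.node (.node (.leaf 1192) (.leaf 11)) (.leaf 1591)))) (.node (.node (.node (.node (.leaf 916) (.leaf 1469))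 (.node (.leaf 300) (.leaf 1198))) (.node (.node (.leaf 1370) (.leaf 724)) (.leaf 1799))) (.node (.node (.node (.leaf 63) (.leaf 1570)) (.node (.leaf 684) (.leaf 668))) (.node (.node (.leaf 421) (.leaf 758)) (.leaf 749))))) (.node (.node (.node (.node (.node (.leaf 285) (.leaf 947)) (.node (.leaf 1715) (.leaf 1660))) (.node (.node (.leaf 1838) (.leaf 533)) (.leaf 1168))) (.node (.node (.node (.leaf 1555) (.leaf 1356)) (.node (.leaf 1433) (.leaf 1587))) (.node (.node (.leaf 566) (.leaf 1312)) (.leaf 1553)))) (.node (.node (.node (.node (.leaf 960) (.leaf 50)) (.node (.leaf 1487) (.leaf 1351))) (.node (.node (.leaf 1171) (.leaf 453)) (.leaf 1720))) (.node (.node (.node (.leaf 1927) (.leaf 1078)) (.node (.leaf 1161) (.leaf 2018))) (.node (.node (.leaf 123) (.leaf 778)) (.leaf 1138)))))) (.node (.node (.node (.node (.node (.node (.leaf 1362) (.leaf 1221)) (.node (.leaf 1237) (.leaf 1781))) (.node (.node (.leaf 794) (.leaf 607)) (.leaf 1085)))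 (.node (.node (.node (.leaf 437) (.leaf 863)) (.node (.leaf 1110) (.leaf 263))) (.node (.node (.leaf 1475) (.leaf 834)) (.leaf 625)))) (.node (.node (.node (.node (.leaf 997) (.leaf 1800)) (.node (.leaf 812) (.leaf 99))) (.node (.node (.leaf 104) (.leaf 1469)) (.leaf 482))) (.node (.node (.node (.leaf 232) (.leaf 1455)) (.node (.leaf 123) (.leaf 1420))) (.node (.node (.leaf 434) (.leaf 632)) (.leaf 968))))) (.node (.node (.node (.node (.node (.leaf 1743) (.leaf 1892)) (.node (.leaf 1271) (.leaf 1435))) (.node (.node (.leaf 1071) (.leaf 1253)) (.leaf 1141))) (.node (.node (.node (.leaf 924) (.leaf 731)) (.node (.leaf 796) (.leaf 1552))) (.node (.node (.leaf 266) (.leaf 561)) (.leaf 1086)))) (.node (.node (.node (.node (.leaf 798) (.leaf 1758)) (.node (.leaf 1776) (.leaf 1509))) (.node (.node (.leaf 964) (.leaf 1489)) (.leaf 1887))) (.node (.node (.node (.leaf 788) (.leaf 1332)) (.node (.leaf 548) (.leaf 1187))) (.node (.node (.leaf 1353)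 (.leaf 1701)) (.leaf 1321))))))) (.node (.node (.node (.node (.node (.node (.node (.leaf 1529) (.leaf 946)) (.node (.leaf 617) (.leaf 1772))) (.node (.node (.leaf 746) (.leaf 2035)) (.leaf 894))) (.node (.node (.node (.leaf 1106) (.leaf 1968)) (.node (.leaf 1594) (.leaf 1043))) (.node (.node (.leaf 1741) (.leaf 1552)) (.leaf 1541)))) (.node (.node (.node (.node (.leaf 1696) (.leaf 904)) (.node (.leaf 1799) (.leaf 1684))) (.node (.node (.leaf 1133) (.leaf 1324)) (.leaf 1631))) (.node (.node (.node (.leaf 236) (.leaf 1442)) (.node (.leaf 1392) (.leaf 705))) (.node (.node (.leaf 247) (.leaf 1618)) (.leaf 122))))) (.node (.node (.node (.node (.node (.leaf 2055) (.leaf 449)) (.node (.leaf 1902) (.leaf 1891))) (.node (.node (.leaf 1012) (.leaf 1424)) (.leaf 831))) (.node (.node (.node (.leaf 769) (.leaf 782)) (.node (.leaf 1465) (.leaf 627))) (.node (.node (.leaf 875) (.leaf 1084)) (.leaf 1515)))) (.node (.node (.node (.node (.leaf 25) (.leaf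 2056)) (.node (.leaf 1237) (.leaf 1383))) (.node (.node (.leaf 148) (.leaf 783)) (.leaf 1004))) (.node (.node (.node (.leaf 389) (.leaf 1406)) (.node (.leaf 497) (.leaf 1534))) (.node (.node (.leaf 1711) (.leaf 1649)) (.leaf 1498)))))) (.node (.node (.node (.node (.node (.node (.leaf 1303) (.leaf 388)) (.node (.leaf 438) (.leaf 1178))) (.node (.node (.leaf 1084) (.leaf 2011)) (.leaf 1584))) (.node (.node (.node (.leaf 1576) (.leaf 1782)) (.node (.leaf 436) (.leaf 845))) (.node (.node (.leaf 656) (.leaf 1644)) (.leaf 1646)))) (.node (.node (.node (.node (.leaf 67) (.leaf 1700)) (.node (.leaf 1680) (.leaf 329))) (.node (.node (.leaf 1687) (.leaf 1158)) (.leaf 41))) (.node (.node (.node (.leaf 254) (.leaf 600)) (.node (.leaf 801) (.leaf 1973))) (.node (.node (.leaf 1266) (.leaf 993)) (.leaf 1746))))) (.node (.node (.node (.node (.node (.leaf 367) (.leaf 1023)) (.node (.leaf 329) (.leaf 15))) (.node (.node (.leaf 1846) (.leaf 1681)) (.leaf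 1527))) (.node (.node (.node (.leaf 1559) (.leaf 953)) (.node (.leaf 1297) (.leaf 1973))) (.node (.node (.leaf 1404) (.leaf 1124)) (.leaf 2033)))) (.node (.node (.node (.node (.leaf 667) (.leaf 2042)) (.node (.leaf 1443) (.leaf 1389))) (.node (.node (.leaf 1856) (.leaf 1069)) (.leaf 529))) (.node (.node (.node (.leaf 1233) (.leaf 1320)) (.node (.leaf 995) (.leaf 28))) (.node (.node (.leaf 1186) (.leaf 510)) (.leaf 322)))))))))) (.node (.node (.node (.node (.node (.node (.node (.node (.node (.node (.leaf 1473) (.leaf 824)) (.node (.leaf 1410) (.leaf 1167))) (.node (.node (.leaf 1303) (.leaf 626)) (.node (.leaf 1593) (.leaf 227)))) (.node (.node (.node (.leaf 159) (.leaf 586)) (.node (.leaf 1771) (.leaf 1794))) (.node (.node (.leaf 1309) (.leaf 1191)) (.leaf 242)))) (.node (.node (.node (.node (.leaf 447) (.leaf 1236)) (.node (.leaf 1403) (.leaf 2045))) (.node (.node (.leaf 71) (.leaf 315)) (.leaf 1421))) (.node (.node (.node (.leaf 210)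 (.leaf 390)) (.node (.leaf 1008) (.leaf 1829))) (.node (.node (.leaf 535) (.leaf 40)) (.leaf 301))))) (.node (.node (.node (.node (.node (.leaf 38) (.leaf 1874)) (.node (.leaf 500) (.leaf 1840))) (.node (.node (.leaf 747) (.leaf 977)) (.leaf 900))) (.node (.node (.node (.leaf 1075) (.leaf 1454)) (.node (.leaf 200) (.leaf 531))) (.node (.node (.leaf 310) (.leaf 1410)) (.leaf 1983)))) (.node (.node (.node (.node (.leaf 32) (.leaf 1772)) (.node (.leaf 1949) (.leaf 616))) (.node (.node (.leaf 778) (.leaf 951)) (.leaf 914))) (.node (.node (.node (.leaf 709) (.leaf 297)) (.node (.leaf 123) (.leaf 708))) (.node (.node (.leaf 1685) (.leaf 1795)) (.leaf 1235)))))) (.node (.node (.node (.node (.node (.node (.leaf 864) (.leaf 1538)) (.node (.leaf 630) (.leaf 1956))) (.node (.node (.leaf 402) (.leaf 1897)) (.leaf 428))) (.node (.node (.node (.leaf 753) (.leaf 1474)) (.node (.leaf 1574) (.leaf 1001))) (.node (.node (.leaf 1545) (.leaf 1917)) (.leaf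 1761)))) (.node (.node (.node (.node (.leaf 1207) (.leaf 742)) (.node (.leaf 1907) (.leaf 494))) (.node (.node (.leaf 853) (.leaf 106)) (.leaf 538))) (.node (.node (.node (.leaf 1164) (.leaf 1244)) (.node (.leaf 1172) (.leaf 1258))) (.node (.node (.leaf 1333) (.leaf 946)) (.leaf 348))))) (.node (.node (.node (.node (.node (.leaf 244) (.leaf 190)) (.node (.leaf 1478) (.leaf 1812))) (.node (.node (.leaf 349) (.leaf 338)) (.leaf 1138))) (.node (.node (.node (.leaf 1097) (.leaf 628)) (.node (.leaf 1548) (.leaf 885))) (.node (.node (.leaf 1550) (.leaf 1992)) (.leaf 128)))) (.node (.node (.node (.node (.leaf 1175) (.leaf 1923)) (.node (.leaf 1600) (.leaf 306))) (.node (.node (.leaf 92) (.leaf 977)) (.leaf 1751))) (.node (.node (.node (.leaf 1157) (.leaf 1371)) (.node (.leaf 32) (.leaf 430))) (.node (.node (.leaf 1926) (.leaf 1952)) (.leaf 1879))))))) (.node (.node (.node (.node (.node (.node (.node (.leaf 1382) (.leaf 1181)) (.node (.leaf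 1203) (.leaf 1817))) (.node (.node (.leaf 996) (.leaf 1)) (.leaf 1556))) (.node (.node (.node (.leaf 946) (.leaf 1824)) (.node (.leaf 1026) (.leaf 238))) (.node (.node (.leaf 356) (.leaf 665)) (.leaf 1375)))) (.node (.node (.node (.node (.leaf 282) (.leaf 764)) (.node (.leaf 1156) (.leaf 1049))) (.node (.node (.leaf 540) (.leaf 739)) (.leaf 1592))) (.node (.node (.node (.leaf 1391) (.leaf 837)) (.node (.leaf 1629) (.leaf 1711))) (.node (.node (.leaf 633) (.leaf 447)) (.leaf 1745))))) (.node (.node (.node (.node (.node (.leaf 331) (.leaf 459)) (.node (.leaf 1724) (.leaf 300))) (.node (.node (.leaf 484) (.leaf 1485)) (.leaf 47))) (.node (.node (.node (.leaf 1359) (.leaf 1965)) (.node (.leaf 149) (.leaf 1949))) (.node (.node (.leaf 656) (.leaf 1239)) (.leaf 1801)))) (.node (.node (.node (.node (.leaf 633) (.leaf 979)) (.node (.leaf 705) (.leaf 965))) (.node (.node (.leaf 1360) (.leaf 881)) (.leaf 670))) (.node (.node (.node (.leaf 376)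 (.leaf 1437)) (.node (.leaf 1188) (.leaf 297))) (.node (.node (.leaf 1088) (.leaf 1729)) (.leaf 1018)))))) (.node (.node (.node (.node (.node (.node (.leaf 1883) (.leaf 78)) (.node (.leaf 666) (.leaf 688))) (.node (.node (.leaf 846) (.leaf 295)) (.leaf 56))) (.node (.node (.node (.leaf 1597) (.leaf 1829)) (.node (.leaf 1814) (.leaf 845))) (.node (.node (.leaf 1033) (.leaf 610)) (.leaf 1482)))) (.node (.node (.node (.node (.leaf 1159) (.leaf 1086)) (.node (.leaf 1831) (.leaf 1261))) (.node (.node (.leaf 265) (.leaf 1190)) (.leaf 1835))) (.node (.node (.node (.leaf 1029) (.leaf 715)) (.node (.leaf 832) (.leaf 2027))) (.node (.node (.leaf 540) (.leaf 205)) (.leaf 1105))))) (.node (.node (.node (.node (.node (.leaf 323) (.leaf 1236)) (.node (.leaf 954) (.leaf 929))) (.node (.node (.leaf 284) (.leaf 1844)) (.leaf 840))) (.node (.node (.node (.leaf 1433) (.leaf 1152)) (.node (.leaf 1834) (.leaf 1374))) (.node (.node (.leaf 134) (.leaf 701))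 (.leaf 559)))) (.node (.node (.node (.node (.leaf 25) (.leaf 1372)) (.node (.leaf 584) (.leaf 445))) (.node (.node (.leaf 452) (.leaf 675)) (.leaf 1759))) (.node (.node (.node (.leaf 1219) (.leaf 1415)) (.node (.leaf 1611) (.leaf 621))) (.node (.node (.leaf 941) (.leaf 1832)) (.leaf 990)))))))) (.node (.node (.node (.node (.node (.node (.node (.node (.leaf 758) (.leaf 1184)) (.node (.leaf 1654) (.leaf 84))) (.node (.node (.leaf 171) (.leaf 843)) (.node (.leaf 26) (.leaf 808)))) (.node (.node (.node (.leaf 1389) (.leaf 368)) (.node (.leaf 568) (.leaf 1689))) (.node (.node (.leaf 1685) (.leaf 877)) (.leaf 35)))) (.node (.node (.node (.node (.leaf 637) (.leaf 786)) (.node (.leaf 1148) (.leaf 1603))) (.node (.node (.leaf 1315) (.leaf 1671)) (.leaf 1213))) (.node (.node (.node (.leaf 1128) (.leaf 1482)) (.node (.leaf 303) (.leaf 1552))) (.node (.node (.leaf 484) (.leaf 1861)) (.leaf 1004))))) (.node (.node (.node (.node (.node (.leaf 1316)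 (.leaf 957)) (.node (.leaf 270) (.leaf 557))) (.node (.node (.leaf 917) (.leaf 1664)) (.leaf 714))) (.node (.node (.node (.leaf 482) (.leaf 1944)) (.node (.leaf 335) (.leaf 1735))) (.node (.node (.leaf 586) (.leaf 510)) (.leaf 1636)))) (.node (.node (.node (.node (.leaf 1536) (.leaf 810)) (.node (.leaf 1933) (.leaf 466))) (.node (.node (.leaf 651) (.leaf 2033)) (.leaf 998))) (.node (.node (.node (.leaf 352) (.leaf 206)) (.node (.leaf 729) (.leaf 299))) (.node (.node (.leaf 912) (.leaf 575)) (.leaf 1427)))))) (.node (.node (.node (.node (.node (.node (.leaf 857) (.leaf 1967)) (.node (.leaf 1510) (.leaf 1780))) (.node (.node (.leaf 1209) (.leaf 1894)) (.leaf 686))) (.node (.node (.node (.leaf 1651) (.leaf 51)) (.node (.leaf 469) (.leaf 454))) (.node (.node (.leaf 142) (.leaf 2036)) (.leaf 1152)))) (.node (.node (.node (.node (.leaf 97) (.leaf 1641)) (.node (.leaf 602) (.leaf 1614))) (.node (.node (.leaf 1183) (.leaf 552)) (.leaf 1094)))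 (.node (.node (.node (.leaf 1110) (.leaf 398)) (.node (.leaf 2011) (.leaf 978))) (.node (.node (.leaf 841) (.leaf 1031)) (.leaf 402))))) (.node (.node (.node (.node (.node (.leaf 1985) (.leaf 1398)) (.node (.leaf 1978) (.leaf 1459))) (.node (.node (.leaf 427) (.leaf 487)) (.leaf 835))) (.node (.node (.node (.leaf 1850) (.leaf 480)) (.node (.leaf 282) (.leaf 60))) (.node (.node (.leaf 1124) (.leaf 388)) (.leaf 1719)))) (.node (.node (.node (.node (.leaf 1764) (.leaf 453)) (.node (.leaf 308) (.leaf 750))) (.node (.node (.leaf 1386) (.leaf 1612)) (.leaf 885))) (.node (.node (.node (.leaf 935) (.leaf 1775)) (.node (.leaf 916) (.leaf 1956))) (.node (.node (.leaf 751) (.leaf 1941)) (.leaf 1333))))))) (.node (.node (.node (.node (.node (.node (.node (.leaf 1134) (.leaf 1739)) (.node (.leaf 1424) (.leaf 948))) (.node (.node (.leaf 69) (.leaf 345)) (.leaf 423))) (.node (.node (.node (.leaf 1717) (.leaf 1452)) (.node (.leaf 967) (.leaf 1629)))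 (.node (.node (.leaf 1926) (.leaf 869)) (.leaf 521)))) (.node (.node (.node (.node (.leaf 1286) (.leaf 1994)) (.node (.leaf 1202) (.leaf 1705))) (.node (.node (.leaf 933) (.leaf 1191)) (.leaf 98))) (.node (.node (.node (.leaf 1278) (.leaf 1198)) (.node (.leaf 1799) (.leaf 30))) (.node (.node (.leaf 1310) (.leaf 79)) (.leaf 1112))))) (.node (.node (.node (.node (.node (.leaf 817) (.leaf 1704)) (.node (.leaf 1401) (.leaf 176))) (.node (.node (.leaf 1930) (.leaf 381)) (.leaf 1752))) (.node (.node (.node (.leaf 829) (.leaf 1126)) (.node (.leaf 1588) (.leaf 775))) (.node (.node (.leaf 1599) (.leaf 1566)) (.leaf 443)))) (.node (.node (.node (.node (.leaf 1908) (.leaf 952)) (.node (.leaf 243) (.leaf 164))) (.node (.node (.leaf 882) (.leaf 783)) (.leaf 826))) (.node (.node (.node (.leaf 412) (.leaf 245)) (.node (.leaf 111) (.leaf 989))) (.node (.node (.leaf 2039) (.leaf 1838)) (.leaf 2000)))))) (.node (.node (.node (.node (.node (.node (.leaf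 445) (.leaf 1210)) (.node (.leaf 1744) (.leaf 2022))) (.node (.node (.leaf 480) (.leaf 518)) (.leaf 740))) (.node (.node (.node (.leaf 1436) (.leaf 375)) (.node (.leaf 765) (.leaf 924))) (.node (.node (.leaf 511) (.leaf 491)) (.leaf 247)))) (.node (.node (.node (.node (.leaf 335) (.leaf 1277)) (.node (.leaf 330) (.leaf 1125))) (.node (.node (.leaf 1889) (.leaf 845)) (.leaf 1657))) (.node (.node (.node (.leaf 1930) (.leaf 785)) (.node (.leaf 838) (.leaf 1562))) (.node (.node (.leaf 766) (.leaf 985)) (.leaf 506))))) (.node (.node (.node (.node (.node (.leaf 1113) (.leaf 1457)) (.node (.leaf 1961) (.leaf 519))) (.node (.node (.leaf 592) (.leaf 150)) (.leaf 1605))) (.node (.node (.node (.leaf 1586) (.leaf 426)) (.node (.leaf 1582) (.leaf 1030))) (.node (.node (.leaf 711) (.leaf 887)) (.leaf 1711)))) (.node (.node (.node (.node (.leaf 767) (.leaf 487)) (.node (.leaf 1649) (.leaf 154))) (.node (.node (.leaf 175) (.leaf 1927)) (.leaf 1899)))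 (.node (.node (.node (.leaf 1808) (.leaf 1321)) (.node (.leaf 1036) (.leaf 2045))) (.node (.node (.leaf 1515) (.leaf 1739)) (.leaf 1730))))))))) (.node (.node (.node (.node (.node (.node (.node (.node (.node (.leaf 1569) (.leaf 1994)) (.node (.leaf 1937) (.leaf 1178))) (.node (.node (.leaf 547) (.leaf 76)) (.node (.leaf 1293) (.leaf 2052)))) (.node (.node (.node (.leaf 383) (.leaf 1742)) (.node (.leaf 871) (.leaf 394))) (.node (.node (.leaf 206) (.leaf 1592)) (.leaf 1769)))) (.node (.node (.node (.node (.leaf 1616) (.leaf 206)) (.node (.leaf 349) (.leaf 1046))) (.node (.node (.leaf 462) (.leaf 1634)) (.leaf 650))) (.node (.node (.node (.leaf 1683) (.leaf 1040)) (.node (.leaf 19) (.leaf 1978))) (.node (.node (.leaf 1612) (.leaf 1209)) (.leaf 435))))) (.node (.node (.node (.node (.node (.leaf 1536) (.leaf 1337)) (.node (.leaf 1049) (.leaf 1382))) (.node (.node (.leaf 331) (.leaf 529)) (.leaf 1403))) (.node (.node (.node (.leaf 1287) (.leaf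 644)) (.node (.leaf 757) (.leaf 1072))) (.node (.node (.leaf 1833) (.leaf 1060)) (.leaf 1815)))) (.node (.node (.node (.node (.leaf 276) (.leaf 240)) (.node (.leaf 257) (.leaf 1409))) (.node (.node (.leaf 1967) (.leaf 491)) (.leaf 1621))) (.node (.node (.node (.leaf 565) (.leaf 788)) (.node (.leaf 1913) (.leaf 1715))) (.node (.node (.leaf 1560) (.leaf 1643)) (.leaf 1608)))))) (.node (.node (.node (.node (.node (.node (.leaf 1840) (.leaf 1691)) (.node (.leaf 1757) (.leaf 1846))) (.node (.node (.leaf 696) (.leaf 1617)) (.leaf 916))) (.node (.node (.node (.leaf 1968) (.leaf 769)) (.node (.leaf 361) (.leaf 1320))) (.node (.node (.leaf 468) (.leaf 967)) (.leaf 703)))) (.node (.node (.node (.node (.leaf 584) (.leaf 858)) (.node (.leaf 1694) (.leaf 612))) (.node (.node (.leaf 1861) (.leaf 184)) (.leaf 725))) (.node (.node (.node (.leaf 287) (.leaf 1467)) (.node (.leaf 1002) (.leaf 885))) (.node (.node (.leaf 29) (.leaf 75)) (.leaf 1830)))))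 (.node (.node (.node (.node (.node (.leaf 828) (.leaf 223)) (.node (.leaf 1253) (.leaf 258))) (.node (.node (.leaf 1182) (.leaf 112)) (.leaf 1513))) (.node (.node (.node (.leaf 260) (.leaf 1375)) (.node (.leaf 684) (.leaf 123))) (.node (.node (.leaf 857) (.leaf 1323)) (.leaf 258)))) (.node (.node (.node (.node (.leaf 1018) (.leaf 393)) (.node (.leaf 1759) (.leaf 224))) (.node (.node (.leaf 700) (.leaf 702)) (.leaf 452))) (.node (.node (.node (.leaf 1075) (.leaf 1093)) (.node (.leaf 341) (.leaf 1462))) (.node (.node (.leaf 433) (.leaf 2046)) (.leaf 352))))))) (.node (.node (.node (.node (.node (.node (.node (.leaf 1092) (.leaf 1783)) (.node (.leaf 461) (.leaf 1090))) (.node (.node (.leaf 1397) (.leaf 318)) (.leaf 1852))) (.node (.node (.node (.leaf 653) (.leaf 1658)) (.node (.leaf 959) (.leaf 1914))) (.node (.node (.leaf 2045) (.leaf 72)) (.leaf 1516)))) (.node (.node (.node (.node (.leaf 1912) (.leaf 834)) (.node (.leaf 1634) (.leaf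 1519))) (.node (.node (.leaf 1016) (.leaf 455)) (.leaf 428))) (.node (.node (.node (.leaf 1413) (.leaf 2008)) (.node (.leaf 91) (.leaf 56))) (.node (.node (.leaf 1923) (.leaf 98)) (.leaf 745))))) (.node (.node (.node (.node (.node (.leaf 1530) (.leaf 1163)) (.node (.leaf 1794) (.leaf 311))) (.node (.node (.leaf 444) (.leaf 1928)) (.leaf 1949))) (.node (.node (.node (.leaf 432) (.leaf 1102)) (.node (.leaf 650) (.leaf 209))) (.node (.node (.leaf 1755) (.leaf 2039)) (.leaf 1136)))) (.node (.node (.node (.node (.leaf 21) (.leaf 1464)) (.node (.leaf 708) (.leaf 1878))) (.node (.node (.leaf 1377) (.leaf 500)) (.leaf 767))) (.node (.node (.node (.leaf 114) (.leaf 613)) (.node (.leaf 854) (.leaf 1857))) (.node (.node (.leaf 1692) (.leaf 595)) (.leaf 1848)))))) (.node (.node (.node (.node (.node (.node (.leaf 349) (.leaf 1205)) (.node (.leaf 2026) (.leaf 867))) (.node (.node (.leaf 1585) (.leaf 1800)) (.leaf 1114))) (.node (.node (.node (.leaf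 988) (.leaf 933)) (.node (.leaf 1635) (.leaf 701))) (.node (.node (.leaf 1274) (.leaf 492)) (.leaf 732)))) (.node (.node (.node (.node (.leaf 157) (.leaf 201)) (.node (.leaf 374) (.leaf 1810))) (.node (.node (.leaf 978) (.leaf 1724)) (.leaf 797))) (.node (.node (.node (.leaf 661) (.leaf 1344)) (.node (.leaf 1695) (.leaf 1315))) (.node (.node (.leaf 543) (.leaf 1398)) (.leaf 1466))))) (.node (.node (.node (.node (.node (.leaf 2051) (.leaf 881)) (.node (.leaf 1241) (.leaf 555))) (.node (.node (.leaf 584) (.leaf 1205)) (.leaf 2042))) (.node (.node (.node (.leaf 1769) (.leaf 394)) (.node (.leaf 1369) (.leaf 767))) (.node (.node (.leaf 1130) (.leaf 2048)) (.leaf 1485)))) (.node (.node (.node (.node (.leaf 1889) (.leaf 515)) (.node (.leaf 800) (.leaf 1604))) (.node (.node (.leaf 1643) (.leaf 1896)) (.leaf 765))) (.node (.node (.node (.leaf 1561) (.leaf 956)) (.node (.leaf 986) (.leaf 1314))) (.node (.node (.leaf 643) (.leaf 392)) (.leaf 1065))))))))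 (.node (.node (.node (.node (.node (.node (.node (.node (.leaf 466) (.leaf 1362)) (.node (.leaf 1671) (.leaf 1698))) (.node (.node (.leaf 290) (.leaf 716)) (.node (.leaf 587) (.leaf 1296)))) (.node (.node (.node (.leaf 1898) (.leaf 198)) (.node (.leaf 455) (.leaf 989))) (.node (.node (.leaf 74) (.leaf 117)) (.leaf 1350)))) (.node (.node (.node (.node (.leaf 1750) (.leaf 1645)) (.node (.leaf 1824) (.leaf 1484))) (.node (.node (.leaf 218) (.leaf 310)) (.leaf 2043))) (.node (.node (.node (.leaf 960) (.leaf 438)) (.node (.leaf 55) (.leaf 1099))) (.node (.node (.leaf 1619) (.leaf 1185)) (.leaf 1372))))) (.node (.node (.node (.node (.node (.leaf 1054) (.leaf 612)) (.node (.leaf 1535) (.leaf 1800))) (.node (.node (.leaf 232) (.leaf 1722)) (.leaf 124))) (.node (.node (.node (.leaf 1108) (.leaf 263)) (.node (.leaf 1245) (.leaf 1121))) (.node (.node (.leaf 340) (.leaf 583)) (.leaf 1433)))) (.node (.node (.node (.node (.leaf 1379) (.leaf 1481))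 (.node (.leaf 1457) (.leaf 1301))) (.node (.node (.leaf 168) (.leaf 1681)) (.leaf 293))) (.node (.node (.node (.leaf 1652) (.leaf 1366)) (.node (.leaf 2050) (.leaf 191))) (.node (.node (.leaf 1538) (.leaf 1009)) (.leaf 1401)))))) (.node (.node (.node (.node (.node (.node (.leaf 884) (.leaf 812)) (.node (.leaf 1483) (.leaf 834))) (.node (.node (.leaf 332) (.leaf 1595)) (.leaf 896))) (.node (.node (.node (.leaf 779) (.leaf 1976)) (.node (.leaf 6) (.leaf 1512))) (.node (.node (.leaf 1740) (.leaf 2024)) (.leaf 33)))) (.node (.node (.node (.node (.leaf 858) (.leaf 1825)) (.node (.leaf 756) (.leaf 1552))) (.node (.node (.leaf 1750) (.leaf 89)) (.leaf 566))) (.node (.node (.node (.leaf 1821) (.leaf 437)) (.node (.leaf 1785) (.leaf 1298))) (.node (.node (.leaf 970) (.leaf 1950)) (.leaf 500))))) (.node (.node (.node (.node (.node (.leaf 1677) (.leaf 410)) (.node (.leaf 1458) (.leaf 2001))) (.node (.node (.leaf 1150) (.leaf 1202)) (.leaf 1758)))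 (.node (.node (.node (.leaf 996) (.leaf 232)) (.node (.leaf 1882) (.leaf 1965))) (.node (.node (.leaf 2011) (.leaf 71)) (.leaf 1107)))) (.node (.node (.node (.node (.leaf 1614) (.leaf 1222)) (.node (.leaf 169) (.leaf 238))) (.node (.node (.leaf 553) (.leaf 1780)) (.leaf 1359))) (.node (.node (.node (.leaf 84) (.leaf 372)) (.node (.leaf 1261) (.leaf 1608))) (.node (.node (.leaf 1525) (.leaf 1108)) (.leaf 2009))))))) (.node (.node (.node (.node (.node (.node (.node (.leaf 629) (.leaf 852)) (.node (.leaf 682) (.leaf 768))) (.node (.node (.leaf 1964) (.leaf 1596)) (.leaf 16))) (.node (.node (.node (.leaf 280) (.leaf 919)) (.node (.leaf 1828) (.leaf 1640))) (.node (.node (.leaf 1202) (.leaf 239)) (.leaf 1370)))) (.node (.node (.node (.node (.leaf 1446) (.leaf 1434)) (.node (.leaf 1609) (.leaf 24))) (.node (.node (.leaf 2041) (.leaf 1315)) (.leaf 538))) (.node (.node (.node (.leaf 199) (.leaf 857)) (.node (.leaf 1491) (.leaf 41))) (.node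 (.node (.leaf 686) (.leaf 1293)) (.leaf 1582))))) (.node (.node (.node (.node (.node (.leaf 1844) (.leaf 1079)) (.node (.leaf 1726) (.leaf 1929))) (.node (.node (.leaf 1867) (.leaf 96)) (.leaf 2019))) (.node (.node (.node (.leaf 739) (.leaf 1371)) (.node (.leaf 1788) (.leaf 2036))) (.node (.node (.leaf 1919) (.leaf 1341)) (.leaf 19)))) (.node (.node (.node (.node (.leaf 672) (.leaf 1756)) (.node (.leaf 1468) (.leaf 794))) (.node (.node (.leaf 569) (.leaf 592)) (.leaf 822))) (.node (.node (.node (.leaf 1412) (.leaf 780)) (.node (.leaf 232) (.leaf 1767))) (.node (.node (.leaf 566) (.leaf 927)) (.leaf 345)))))) (.node (.node (.node (.node (.node (.node (.leaf 1813) (.leaf 565)) (.node (.leaf 910) (.leaf 1773))) (.node (.node (.leaf 1476) (.leaf 1976)) (.leaf 516))) (.node (.node (.node (.leaf 1393) (.leaf 268)) (.node (.leaf 143) (.leaf 1986))) (.node (.node (.leaf 256) (.leaf 545)) (.leaf 1941)))) (.node (.node (.node (.node (.leaf 1918)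 (.leaf 1572)) (.node (.leaf 1346) (.leaf 604))) (.node (.node (.leaf 430) (.leaf 1904)) (.leaf 889))) (.node (.node (.node (.leaf 958) (.leaf 330)) (.node (.leaf 938) (.leaf 259))) (.node (.node (.leaf 548) (.leaf 1424)) (.leaf 584))))) (.node (.node (.node (.node (.node (.leaf 573) (.leaf 1243)) (.node (.leaf 718) (.leaf 1944))) (.node (.node (.leaf 1599) (.leaf 1448)) (.leaf 571))) (.node (.node (.node (.leaf 151) (.leaf 587)) (.node (.leaf 589) (.leaf 1974))) (.node (.node (.leaf 1842) (.leaf 1475)) (.leaf 1130)))) (.node (.node (.node (.node (.leaf 1010) (.leaf 42)) (.node (.leaf 1533) (.leaf 947))) (.node (.node (.leaf 1398) (.leaf 973)) (.leaf 1354))) (.node (.node (.node (.leaf 1089) (.leaf 501)) (.node (.leaf 764) (.leaf 590))) (.node (.node (.leaf 360) (.leaf 1815)) (.leaf 915)))))))))))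

/-- Part of `ptImg`. -/
def ptImg5 : Tr := (.node (.node (.node (.node (.node (.node (.node (.node (.node (.node (.node (.leaf 1045) (.leaf 275)) (.node (.leaf 1234) (.leaf 135))) (.node (.node (.leaf 270) (.leaf 1100)) (.node (.leaf 1526) (.leaf 1046)))) (.node (.node (.node (.leaf 2021) (.leaf 1218)) (.node (.leaf 334) (.leaf 314))) (.node (.node (.leaf 363) (.leaf 1471)) (.leaf 520)))) (.node (.node (.node (.node (.leaf 1336) (.leaf 894)) (.node (.leaf 1667) (.leaf 908))) (.node (.node (.leaf 609) (.leaf 1500)) (.leaf 1454))) (.node (.node (.node (.leaf 1329) (.leaf 851)) (.node (.leaf 295) (.leaf 1664))) (.node (.node (.leaf 218) (.leaf 1683)) (.leaf 202))))) (.node (.node (.node (.node (.node (.leaf 1060) (.leaf 449)) (.node (.leaf 1491) (.leaf 526))) (.node (.node (.leaf 1863) (.leaf 1747)) (.leaf 681))) (.node (.node (.node (.leaf 1559) (.leaf 1355)) (.node (.leaf 163) (.leaf 1939))) (.node (.node (.leaf 761) (.leaf 433)) (.leaf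 1264)))) (.node (.node (.node (.node (.leaf 1531) (.leaf 1743)) (.node (.leaf 1743) (.leaf 332))) (.node (.node (.leaf 1328) (.leaf 941)) (.leaf 479))) (.node (.node (.node (.leaf 166) (.leaf 1140)) (.node (.leaf 1040) (.leaf 1175))) (.node (.node (.leaf 920) (.leaf 476)) (.leaf 15)))))) (.node (.node (.node (.node (.node (.node (.leaf 41) (.leaf 417)) (.node (.leaf 858) (.leaf 1965))) (.node (.node (.leaf 96) (.leaf 136)) (.leaf 1628))) (.node (.node (.node (.leaf 1968) (.leaf 862)) (.node (.leaf 456) (.leaf 1539))) (.node (.node (.leaf 47) (.leaf 251)) (.leaf 1721)))) (.node (.node (.node (.node (.leaf 2002) (.leaf 1518)) (.node (.leaf 1511) (.leaf 2007))) (.node (.node (.leaf 4) (.leaf 1550)) (.leaf 1488))) (.node (.node (.node (.leaf 1722) (.leaf 1454)) (.node (.leaf 14) (.leaf 1710))) (.node (.node (.leaf 1940) (.leaf 1009)) (.leaf 242))))) (.node (.node (.node (.node (.node (.leaf 1003) (.leaf 1995)) (.node (.leaf 246) (.leaf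 389))) (.node (.node (.leaf 1117) (.leaf 1262)) (.leaf 149))) (.node (.node (.node (.leaf 1274) (.leaf 1309)) (.node (.leaf 11) (.leaf 471))) (.node (.node (.leaf 1146) (.leaf 1505)) (.leaf 1224)))) (.node (.node (.node (.node (.leaf 807) (.leaf 1703)) (.node (.leaf 373) (.leaf 686))) (.node (.node (.leaf 1175) (.leaf 38)) (.leaf 901))) (.node (.node (.node (.leaf 1171) (.leaf 1399)) (.node (.leaf 860) (.leaf 956))) (.node (.node (.leaf 1073) (.leaf 1980)) (.leaf 399))))))) (.node (.node (.node (.node (.node (.node (.node (.leaf 659) (.leaf 1879)) (.node (.leaf 1732) (.leaf 999))) (.node (.node (.leaf 173) (.leaf 2041)) (.node (.leaf 226) (.leaf 793)))) (.node (.node (.node (.leaf 470) (.leaf 899)) (.node (.leaf 682) (.leaf 1415))) (.node (.node (.leaf 1746) (.leaf 1239)) (.leaf 869)))) (.node (.node (.node (.node (.leaf 855) (.leaf 1253)) (.node (.leaf 167) (.leaf 753))) (.node (.node (.leaf 435) (.leaf 458)) (.leaf 1485))) (.node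 (.node (.node (.leaf 1148) (.leaf 1215)) (.node (.leaf 160) (.leaf 992))) (.node (.node (.leaf 685) (.leaf 1595)) (.leaf 663))))) (.node (.node (.node (.node (.node (.leaf 589) (.leaf 489)) (.node (.leaf 51) (.leaf 1444))) (.node (.node (.leaf 327) (.leaf 1509)) (.leaf 1567))) (.node (.node (.node (.leaf 1017) (.leaf 17)) (.node (.leaf 1597) (.leaf 645))) (.node (.node (.leaf 513) (.leaf 1954)) (.leaf 1428)))) (.node (.node (.node (.node (.leaf 1486) (.leaf 393)) (.node (.leaf 1508) (.leaf 1887))) (.node (.node (.leaf 1957) (.leaf 2034)) (.leaf 1096))) (.node (.node (.node (.leaf 394) (.leaf 627)) (.node (.leaf 1184) (.leaf 524))) (.node (.node (.leaf 1061) (.leaf 795)) (.leaf 1036)))))) (.node (.node (.node (.node (.node (.node (.leaf 1788) (.leaf 1208)) (.node (.leaf 1659) (.leaf 27))) (.node (.node (.leaf 1988) (.leaf 305)) (.leaf 1928))) (.node (.node (.node (.leaf 169) (.leaf 1725)) (.node (.leaf 820) (.leaf 1644))) (.node (.node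 (.leaf 773) (.leaf 1637)) (.leaf 1934)))) (.node (.node (.node (.node (.leaf 1246) (.leaf 549)) (.node (.leaf 180) (.leaf 522))) (.node (.node (.leaf 1289) (.leaf 115)) (.leaf 2032))) (.node (.node (.node (.leaf 528) (.leaf 1435)) (.node (.leaf 833) (.leaf 1029))) (.node (.node (.leaf 541) (.leaf 420)) (.leaf 1862))))) (.node (.node (.node (.node (.node (.leaf 742) (.leaf 695)) (.node (.leaf 1206) (.leaf 1820))) (.node (.node (.leaf 357) (.leaf 1060)) (.leaf 139))) (.node (.node (.node (.leaf 619) (.leaf 1381)) (.node (.leaf 1598) (.leaf 1645))) (.node (.node (.leaf 1129) (.leaf 1576)) (.leaf 304)))) (.node (.node (.node (.node (.leaf 1778) (.leaf 1274)) (.node (.leaf 621) (.leaf 855))) (.node (.node (.leaf 2031) (.leaf 683)) (.leaf 1225))) (.node (.node (.node (.leaf 400) (.leaf 24)) (.node (.leaf 869) (.leaf 1702))) (.node (.node (.leaf 1514) (.leaf 1130)) (.leaf 1027)))))))) (.node (.node (.node (.node (.node (.node (.node (.node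 (.leaf 53) (.leaf 2012)) (.node (.leaf 2047) (.leaf 731))) (.node (.node (.leaf 377) (.leaf 1368)) (.node (.leaf 1889) (.leaf 18)))) (.node (.node (.node (.leaf 1505) (.leaf 839)) (.node (.leaf 661) (.leaf 1872))) (.node (.node (.leaf 1465) (.leaf 133)) (.leaf 1696)))) (.node (.node (.node (.node (.leaf 1199) (.leaf 659)) (.node (.leaf 1725) (.leaf 1087))) (.node (.node (.leaf 1526) (.leaf 1604)) (.leaf 1977))) (.node (.node (.node (.leaf 1053) (.leaf 407)) (.node (.leaf 230) (.leaf 9))) (.node (.node (.leaf 517) (.leaf 400)) (.leaf 524))))) (.node (.node (.node (.node (.node (.leaf 1907) (.leaf 177)) (.node (.leaf 1408) (.leaf 1114))) (.node (.node (.leaf 1058) (.leaf 1080)) (.leaf 1650))) (.node (.node (.node (.leaf 670) (.leaf 608)) (.node (.leaf 275) (.leaf 1284))) (.node (.node (.leaf 1377) (.leaf 317)) (.leaf 385)))) (.node (.node (.node (.node (.leaf 744) (.leaf 1502)) (.node (.leaf 328) (.leaf 1376))) (.node (.node (.leaf 596)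 (.leaf 958)) (.leaf 1984))) (.node (.node (.node (.leaf 708) (.leaf 1431)) (.node (.leaf 423) (.leaf 29))) (.node (.node (.leaf 1489) (.leaf 1935)) (.leaf 1771)))))) (.node (.node (.node (.node (.node (.node (.leaf 368) (.leaf 657)) (.node (.leaf 567) (.leaf 1386))) (.node (.node (.leaf 4) (.leaf 1026)) (.leaf 901))) (.node (.node (.node (.leaf 1310) (.leaf 1068)) (.node (.leaf 832) (.leaf 890))) (.node (.node (.leaf 1173) (.leaf 180)) (.leaf 570)))) (.node (.node (.node (.node (.leaf 1624) (.leaf 2025)) (.node (.leaf 814) (.leaf 265))) (.node (.node (.leaf 189) (.leaf 183)) (.leaf 1017))) (.node (.node (.node (.leaf 451) (.leaf 331)) (.node (.leaf 351) (.leaf 1472))) (.node (.node (.leaf 198) (.leaf 1464)) (.leaf 649))))) (.node (.node (.node (.node (.node (.leaf 1006) (.leaf 1514)) (.node (.leaf 1719) (.leaf 1064))) (.node (.node (.leaf 1200) (.leaf 1789)) (.leaf 408))) (.node (.node (.node (.leaf 1247) (.leaf 1413)) (.node (.leaf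 533) (.leaf 820))) (.node (.node (.leaf 1513) (.leaf 1669)) (.leaf 594)))) (.node (.node (.node (.node (.leaf 223) (.leaf 1279)) (.node (.leaf 713) (.leaf 1970))) (.node (.node (.leaf 1283) (.leaf 1585)) (.leaf 921))) (.node (.node (.node (.leaf 26) (.leaf 1761)) (.node (.leaf 20) (.leaf 839))) (.node (.node (.leaf 229) (.leaf 1499)) (.leaf 1779))))))) (.node (.node (.node (.node (.node (.node (.node (.leaf 1587) (.leaf 1769)) (.node (.leaf 148) (.leaf 1008))) (.node (.node (.leaf 307) (.leaf 340)) (.leaf 1099))) (.node (.node (.node (.leaf 859) (.leaf 1804)) (.node (.leaf 65) (.leaf 1416))) (.node (.node (.leaf 799) (.leaf 865)) (.leaf 389)))) (.node (.node (.node (.node (.leaf 1054) (.leaf 173)) (.node (.leaf 1782) (.leaf 1359))) (.node (.node (.leaf 380) (.leaf 495)) (.leaf 1162))) (.node (.node (.node (.leaf 895) (.leaf 102)) (.node (.leaf 819) (.leaf 750))) (.node (.node (.leaf 237) (.leaf 89)) (.leaf 753))))) (.node (.node (.node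 (.node (.node (.leaf 1855) (.leaf 1661)) (.node (.leaf 1343) (.leaf 1086))) (.node (.node (.leaf 1946) (.leaf 693)) (.leaf 955))) (.node (.node (.node (.leaf 1166) (.leaf 542)) (.node (.leaf 624) (.leaf 808))) (.node (.node (.leaf 17) (.leaf 1989)) (.leaf 375)))) (.node (.node (.node (.node (.leaf 1996) (.leaf 1040)) (.node (.leaf 39) (.leaf 1180))) (.node (.node (.leaf 1854) (.leaf 70)) (.leaf 205))) (.node (.node (.node (.leaf 982) (.leaf 88)) (.node (.leaf 2020) (.leaf 1241))) (.node (.node (.leaf 809) (.leaf 1943)) (.leaf 615)))))) (.node (.node (.node (.node (.node (.node (.leaf 1176) (.leaf 596)) (.node (.leaf 313) (.leaf 28))) (.node (.node (.leaf 325) (.leaf 505)) (.leaf 203))) (.node (.node (.node (.leaf 1948) (.leaf 1855)) (.node (.leaf 877) (.leaf 478))) (.node (.node (.leaf 471) (.leaf 1268)) (.leaf 891)))) (.node (.node (.node (.node (.leaf 1873) (.leaf 1302)) (.node (.leaf 1608) (.leaf 959))) (.node (.node (.leaf 465)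 (.leaf 592)) (.leaf 682))) (.node (.node (.node (.leaf 1626) (.leaf 1082)) (.node (.leaf 608) (.leaf 1847))) (.node (.node (.leaf 1981) (.leaf 79)) (.leaf 672))))) (.node (.node (.node (.node (.node (.leaf 1858) (.leaf 1656)) (.node (.leaf 998) (.leaf 1181))) (.node (.node (.leaf 1015) (.leaf 2005)) (.leaf 1007))) (.node (.node (.node (.leaf 1565) (.leaf 1110)) (.node (.leaf 118) (.leaf 165))) (.node (.node (.leaf 494) (.leaf 1601)) (.leaf 640)))) (.node (.node (.node (.node (.leaf 463) (.leaf 253)) (.node (.leaf 1377) (.leaf 1482))) (.node (.node (.leaf 184) (.leaf 317)) (.leaf 1966))) (.node (.node (.node (.leaf 288) (.leaf 1384)) (.node (.leaf 1325) (.leaf 1707))) (.node (.node (.leaf 581) (.leaf 1380)) (.leaf 357))))))))) (.node (.node (.node (.node (.node (.node (.node (.node (.node (.leaf 1003) (.leaf 1808)) (.node (.leaf 1127) (.leaf 1590))) (.node (.node (.leaf 1510) (.leaf 1232)) (.node (.leaf 870) (.leaf 68)))) (.node (.node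 (.node (.leaf 933) (.leaf 201)) (.node (.leaf 605) (.leaf 983))) (.node (.node (.leaf 311) (.leaf 1597)) (.leaf 1015)))) (.node (.node (.node (.node (.leaf 84) (.leaf 1451)) (.node (.leaf 691) (.leaf 687))) (.node (.node (.leaf 2040) (.leaf 1801)) (.leaf 1906))) (.node (.node (.node (.leaf 1786) (.leaf 1276)) (.node (.leaf 1504) (.leaf 1220))) (.node (.node (.leaf 515) (.leaf 550)) (.leaf 363))))) (.node (.node (.node (.node (.node (.leaf 809) (.leaf 1429)) (.node (.leaf 783) (.leaf 653))) (.node (.node (.leaf 1381) (.leaf 418)) (.leaf 906))) (.node (.node (.node (.leaf 1937) (.leaf 562)) (.node (.leaf 902) (.leaf 128))) (.node (.node (.leaf 1934) (.leaf 53)) (.leaf 1063)))) (.node (.node (.node (.node (.leaf 1521) (.leaf 1283)) (.node (.leaf 799) (.leaf 356))) (.node (.node (.leaf 260) (.leaf 346)) (.leaf 1412))) (.node (.node (.node (.leaf 269) (.leaf 900)) (.node (.leaf 215) (.leaf 1697))) (.node (.node (.leaf 513) (.leaf 1127))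 (.leaf 1073)))))) (.node (.node (.node (.node (.node (.node (.leaf 63) (.leaf 515)) (.node (.leaf 1501) (.leaf 34))) (.node (.node (.leaf 617) (.leaf 1837)) (.leaf 899))) (.node (.node (.node (.leaf 588) (.leaf 1210)) (.node (.leaf 1081) (.leaf 1300))) (.node (.node (.leaf 551) (.leaf 600)) (.leaf 757)))) (.node (.node (.node (.node (.leaf 627) (.leaf 350)) (.node (.leaf 993) (.leaf 1902))) (.node (.node (.leaf 1981) (.leaf 419)) (.leaf 1746))) (.node (.node (.node (.leaf 1627) (.leaf 586)) (.node (.leaf 180) (.leaf 124))) (.node (.node (.leaf 36) (.leaf 114)) (.leaf 1756))))) (.node (.node (.node (.node (.node (.leaf 1024) (.leaf 1256)) (.node (.leaf 580) (.leaf 791))) (.node (.node (.leaf 1522) (.leaf 54)) (.leaf 280))) (.node (.node (.node (.leaf 827) (.leaf 1967)) (.node (.leaf 2012) (.leaf 245))) (.node (.node (.leaf 1924) (.leaf 659)) (.leaf 1647)))) (.node (.node (.node (.node (.leaf 286) (.leaf 57)) (.node (.leaf 1770) (.leaf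 1753))) (.node (.node (.leaf 1581) (.leaf 36)) (.leaf 2029))) (.node (.node (.node (.leaf 159) (.leaf 1166)) (.node (.leaf 1720) (.leaf 1139))) (.node (.node (.leaf 1768) (.leaf 354)) (.leaf 1335))))))) (.node (.node (.node (.node (.node (.node (.node (.leaf 315) (.leaf 351)) (.node (.leaf 1252) (.leaf 1178))) (.node (.node (.leaf 1088) (.leaf 662)) (.leaf 986))) (.node (.node (.node (.leaf 696) (.leaf 1721)) (.node (.leaf 397) (.leaf 253))) (.node (.node (.leaf 243) (.leaf 2039)) (.leaf 874)))) (.node (.node (.node (.node (.leaf 896) (.leaf 307)) (.node (.leaf 1077) (.leaf 1793))) (.node (.node (.leaf 297) (.leaf 640)) (.leaf 1643))) (.node (.node (.node (.leaf 1734) (.leaf 1668)) (.node (.leaf 1406) (.leaf 1659))) (.node (.node (.leaf 952) (.leaf 1445)) (.leaf 1049))))) (.node (.node (.node (.node (.node (.leaf 1414) (.leaf 134)) (.node (.leaf 522) (.leaf 868))) (.node (.node (.leaf 341) (.leaf 1385)) (.leaf 256))) (.node (.node (.node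 (.leaf 209) (.leaf 1712)) (.node (.leaf 762) (.leaf 2007))) (.node (.node (.leaf 1298) (.leaf 2053)) (.leaf 696)))) (.node (.node (.node (.node (.leaf 1905) (.leaf 1385)) (.node (.leaf 47) (.leaf 2016))) (.node (.node (.leaf 336) (.leaf 616)) (.leaf 288))) (.node (.node (.node (.leaf 268) (.leaf 1717)) (.node (.leaf 1344) (.leaf 97))) (.node (.node (.leaf 1850) (.leaf 718)) (.leaf 1965)))))) (.node (.node (.node (.node (.node (.node (.leaf 491) (.leaf 352)) (.node (.leaf 1019) (.leaf 2011))) (.node (.node (.leaf 1573) (.leaf 700)) (.leaf 867))) (.node (.node (.node (.leaf 1104) (.leaf 789)) (.node (.leaf 1654) (.leaf 1946))) (.node (.node (.leaf 1345) (.leaf 769)) (.leaf 898)))) (.node (.node (.node (.node (.leaf 1897) (.leaf 1723)) (.node (.leaf 244) (.leaf 256))) (.node (.node (.leaf 1042) (.leaf 663)) (.leaf 272))) (.node (.node (.node (.leaf 653) (.leaf 950)) (.node (.leaf 811) (.leaf 816))) (.node (.node (.leaf 765) (.leaf 179))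 (.leaf 668))))) (.node (.node (.node (.node (.node (.leaf 108) (.leaf 847)) (.node (.leaf 632) (.leaf 1655))) (.node (.node (.leaf 964) (.leaf 371)) (.leaf 1901))) (.node (.node (.node (.leaf 1739) (.leaf 484)) (.node (.leaf 135) (.leaf 290))) (.node (.node (.leaf 197) (.leaf 1578)) (.leaf 1022)))) (.node (.node (.node (.node (.leaf 1874) (.leaf 527)) (.node (.leaf 93) (.leaf 1233))) (.node (.node (.leaf 1101) (.leaf 1289)) (.leaf 549))) (.node (.node (.node (.leaf 2027) (.leaf 1999)) (.node (.leaf 623) (.leaf 790))) (.node (.node (.leaf 1237) (.leaf 1921)) (.leaf 558)))))))) (.node (.node (.node (.node (.node (.node (.node (.node (.leaf 1524) (.leaf 1528)) (.node (.leaf 1568) (.leaf 1185))) (.node (.node (.leaf 699) (.leaf 1333)) (.node (.leaf 1958) (.leaf 1229)))) (.node (.node (.node (.leaf 1915) (.leaf 1910)) (.node (.leaf 739) (.leaf 1909))) (.node (.node (.leaf 1015) (.leaf 1848)) (.leaf 1886)))) (.node (.node (.node (.node (.leaf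 1623) (.leaf 1611)) (.node (.leaf 134) (.leaf 105))) (.node (.node (.leaf 1438) (.leaf 1898)) (.leaf 255))) (.node (.node (.node (.leaf 1096) (.leaf 915)) (.node (.leaf 1197) (.leaf 339))) (.node (.node (.leaf 1503) (.leaf 1400)) (.leaf 176))))) (.node (.node (.node (.node (.node (.leaf 1210) (.leaf 1194)) (.node (.leaf 629) (.leaf 2011))) (.node (.node (.leaf 707) (.leaf 605)) (.leaf 1277))) (.node (.node (.node (.leaf 1829) (.leaf 262)) (.node (.leaf 787) (.leaf 887))) (.node (.node (.leaf 328) (.leaf 1832)) (.leaf 1340)))) (.node (.node (.node (.node (.leaf 1310) (.leaf 252)) (.node (.leaf 401) (.leaf 1738))) (.node (.node (.leaf 1972) (.leaf 463)) (.leaf 876))) (.node (.node (.node (.leaf 263) (.leaf 1399)) (.node (.leaf 202) (.leaf 932))) (.node (.node (.leaf 486) (.leaf 639)) (.leaf 1396)))))) (.node (.node (.node (.node (.node (.node (.leaf 138) (.leaf 1196)) (.node (.leaf 2000) (.leaf 399))) (.node (.node (.leaf 1958) (.leaf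 1490)) (.leaf 1840))) (.node (.node (.node (.leaf 432) (.leaf 1557)) (.node (.leaf 1045) (.leaf 1606))) (.node (.node (.leaf 893) (.leaf 342)) (.leaf 436)))) (.node (.node (.node (.node (.leaf 1062) (.leaf 1269)) (.node (.leaf 1195) (.leaf 1447))) (.node (.node (.leaf 1966) (.leaf 1157)) (.leaf 636))) (.node (.node (.node (.leaf 1851) (.leaf 1911)) (.node (.leaf 172) (.leaf 630))) (.node (.node (.leaf 1455) (.leaf 185)) (.leaf 506))))) (.node (.node (.node (.node (.node (.leaf 896) (.leaf 1282)) (.node (.leaf 182) (.leaf 996))) (.node (.node (.leaf 1290) (.leaf 1196)) (.leaf 224))) (.node (.node (.node (.leaf 580) (.leaf 249)) (.node (.leaf 2057) (.leaf 1663))) (.node (.node (.leaf 1462) (.leaf 1088)) (.leaf 1806)))) (.node (.node (.node (.node (.leaf 326) (.leaf 1495)) (.node (.leaf 285) (.leaf 524))) (.node (.node (.leaf 367) (.leaf 1809)) (.leaf 394))) (.node (.node (.node (.leaf 1007) (.leaf 1226)) (.node (.leaf 550) (.leaf 274)))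 (.node (.node (.leaf 1979) (.leaf 595)) (.leaf 563))))))) (.node (.node (.node (.node (.node (.node (.node (.leaf 809) (.leaf 1200)) (.node (.leaf 1487) (.leaf 763))) (.node (.node (.leaf 1314) (.leaf 324)) (.leaf 1328))) (.node (.node (.node (.leaf 951) (.leaf 1158)) (.node (.leaf 1251) (.leaf 477))) (.node (.node (.leaf 61) (.leaf 1846)) (.leaf 1393)))) (.node (.node (.node (.node (.leaf 1562) (.leaf 810)) (.node (.leaf 1136) (.leaf 1262))) (.node (.node (.leaf 505) (.leaf 1625)) (.leaf 1676))) (.node (.node (.node (.leaf 2056) (.leaf 1911)) (.node (.leaf 1834) (.leaf 1728))) (.node (.node (.leaf 1913) (.leaf 918)) (.leaf 1970))))) (.node (.node (.node (.node (.node (.leaf 5) (.leaf 202)) (.node (.leaf 675) (.leaf 289))) (.node (.node (.leaf 107) (.leaf 1037)) (.leaf 2037))) (.node (.node (.node (.leaf 199) (.leaf 782)) (.node (.leaf 334) (.leaf 623))) (.node (.node (.leaf 1982) (.leaf 1251)) (.leaf 1077)))) (.node (.node (.node (.node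 (.leaf 634) (.leaf 1296)) (.node (.leaf 1746) (.leaf 351))) (.node (.node (.leaf 419) (.leaf 553)) (.leaf 660))) (.node (.node (.node (.leaf 1972) (.leaf 729)) (.node (.leaf 284) (.leaf 2028))) (.node (.node (.leaf 1206) (.leaf 1944)) (.leaf 1222)))))) (.node (.node (.node (.node (.node (.node (.leaf 1343) (.leaf 194)) (.node (.leaf 1050) (.leaf 614))) (.node (.node (.leaf 1147) (.leaf 1492)) (.leaf 2026))) (.node (.node (.node (.leaf 1691) (.leaf 1872)) (.node (.leaf 150) (.leaf 2038))) (.node (.node (.leaf 271) (.leaf 292)) (.leaf 1468)))) (.node (.node (.node (.node (.leaf 1258) (.leaf 36)) (.node (.leaf 1513) (.leaf 899))) (.node (.node (.leaf 451) (.leaf 454)) (.leaf 572))) (.node (.node (.node (.leaf 1884) (.leaf 1718)) (.node (.leaf 269) (.leaf 54))) (.node (.node (.leaf 1867) (.leaf 713)) (.leaf 1134))))) (.node (.node (.node (.node (.node (.leaf 1672) (.leaf 2025)) (.node (.leaf 473) (.leaf 728))) (.node (.node (.leaf 986)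 (.leaf 58)) (.leaf 949))) (.node (.node (.node (.leaf 1100) (.leaf 1410)) (.node (.leaf 803) (.leaf 2003))) (.node (.node (.leaf 1713) (.leaf 1479)) (.leaf 1987)))) (.node (.node (.node (.node (.leaf 119) (.leaf 372)) (.node (.leaf 591) (.leaf 1070))) (.node (.node (.leaf 875) (.leaf 1683)) (.leaf 1091))) (.node (.node (.node (.leaf 1429) (.leaf 1871)) (.node (.leaf 1859) (.leaf 1549))) (.node (.node (.leaf 132) (.leaf 141)) (.leaf 921)))))))))) (.node (.node (.node (.node (.node (.node (.node (.node (.node (.node (.leaf 1579) (.leaf 1878)) (.node (.leaf 1276) (.leaf 188))) (.node (.node (.leaf 195) (.leaf 1029)) (.node (.leaf 1593) (.leaf 1845)))) (.node (.node (.node (.leaf 1354) (.leaf 853)) (.node (.leaf 831) (.leaf 1632))) (.node (.node (.leaf 1843) (.leaf 1251)) (.leaf 1810)))) (.node (.node (.node (.node (.leaf 1307) (.leaf 1245)) (.node (.leaf 1004) (.leaf 1119))) (.node (.node (.leaf 1472) (.leaf 1730)) (.leaf 602))) (.node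 (.node (.node (.leaf 1415) (.leaf 1012)) (.node (.leaf 1542) (.leaf 531))) (.node (.node (.leaf 686) (.leaf 1845)) (.leaf 1447))))) (.node (.node (.node (.node (.node (.leaf 1873) (.leaf 1528)) (.node (.leaf 871) (.leaf 221))) (.node (.node (.leaf 472) (.leaf 409)) (.leaf 758))) (.node (.node (.node (.leaf 437) (.leaf 1765)) (.node (.leaf 1338) (.leaf 703))) (.node (.node (.leaf 589) (.leaf 1410)) (.leaf 1176)))) (.node (.node (.node (.node (.leaf 856) (.leaf 1086)) (.node (.leaf 1072) (.leaf 547))) (.node (.node (.leaf 583) (.leaf 751)) (.leaf 1910))) (.node (.node (.node (.leaf 698) (.leaf 841)) (.node (.leaf 721) (.leaf 1602))) (.node (.node (.leaf 867) (.leaf 1542)) (.leaf 625)))))) (.node (.node (.node (.node (.node (.node (.leaf 918) (.leaf 368)) (.node (.leaf 1087) (.leaf 1715))) (.node (.node (.leaf 910) (.leaf 612)) (.leaf 677))) (.node (.node (.node (.leaf 1532) (.leaf 1578)) (.node (.leaf 2006) (.leaf 1920))) (.node (.node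 (.leaf 734) (.leaf 1629)) (.leaf 1803)))) (.node (.node (.node (.node (.leaf 725) (.leaf 1711)) (.node (.leaf 678) (.leaf 1616))) (.node (.node (.leaf 1065) (.leaf 1457)) (.leaf 971))) (.node (.node (.node (.leaf 1311) (.leaf 1044)) (.node (.leaf 1571) (.leaf 848))) (.node (.node (.leaf 168) (.leaf 621)) (.leaf 1010))))) (.node (.node (.node (.node (.node (.leaf 1784) (.leaf 1568)) (.node (.leaf 39) (.leaf 1399))) (.node (.node (.leaf 662) (.leaf 452)) (.leaf 2008))) (.node (.node (.node (.leaf 353) (.leaf 1550)) (.node (.leaf 213) (.leaf 318))) (.node (.node (.leaf 35) (.leaf 229)) (.leaf 1504)))) (.node (.node (.node (.node (.leaf 386) (.leaf 1622)) (.node (.leaf 444) (.leaf 1578))) (.node (.node (.leaf 1024) (.leaf 961)) (.leaf 1214))) (.node (.node (.node (.leaf 1633) (.leaf 1446)) (.node (.leaf 418) (.leaf 250))) (.node (.node (.leaf 737) (.leaf 503)) (.leaf 463))))))) (.node (.node (.node (.node (.node (.node (.node (.leaf 787)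 (.leaf 1521)) (.node (.leaf 484) (.leaf 1933))) (.node (.node (.leaf 1101) (.leaf 1590)) (.leaf 106))) (.node (.node (.node (.leaf 738) (.leaf 1390)) (.node (.leaf 1263) (.leaf 1646))) (.node (.node (.leaf 756) (.leaf 1279)) (.leaf 1713)))) (.node (.node (.node (.node (.leaf 76) (.leaf 178)) (.node (.leaf 1919) (.leaf 193))) (.node (.node (.leaf 1470) (.leaf 1719)) (.leaf 976))) (.node (.node (.node (.leaf 820) (.leaf 1938)) (.node (.leaf 1983) (.leaf 61))) (.node (.node (.leaf 1760) (.leaf 333)) (.leaf 1832))))) (.node (.node (.node (.node (.node (.leaf 356) (.leaf 827)) (.node (.leaf 1270) (.leaf 225))) (.node (.node (.leaf 340) (.leaf 874)) (.leaf 1612))) (.node (.node (.node (.leaf 135) (.leaf 132)) (.node (.leaf 1416) (.leaf 781))) (.node (.node (.leaf 1063) (.leaf 105)) (.leaf 2047)))) (.node (.node (.node (.node (.leaf 387) (.leaf 1291)) (.node (.leaf 705) (.leaf 465))) (.node (.node (.leaf 55) (.leaf 1259)) (.leaf 654))) (.node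 (.node (.node (.leaf 413) (.leaf 1527)) (.node (.leaf 581) (.leaf 2022))) (.node (.node (.leaf 1193) (.leaf 582)) (.leaf 778)))))) (.node (.node (.node (.node (.node (.node (.leaf 534) (.leaf 878)) (.node (.leaf 1790) (.leaf 56))) (.node (.node (.leaf 1459) (.leaf 1426)) (.leaf 873))) (.node (.node (.node (.leaf 1835) (.leaf 1734)) (.node (.leaf 413) (.leaf 630))) (.node (.node (.leaf 461) (.leaf 761)) (.leaf 1106)))) (.node (.node (.node (.node (.leaf 1225) (.leaf 1974)) (.node (.leaf 1831) (.leaf 492))) (.node (.node (.leaf 733) (.leaf 820)) (.leaf 1508))) (.node (.node (.node (.leaf 626) (.leaf 1590)) (.node (.leaf 581) (.leaf 1687))) (.node (.node (.leaf 1336) (.leaf 1263)) (.leaf 1733))))) (.node (.node (.node (.node (.node (.leaf 745) (.leaf 1245)) (.node (.leaf 1954) (.leaf 246))) (.node (.node (.leaf 1014) (.leaf 1208)) (.leaf 932))) (.node (.node (.node (.leaf 392) (.leaf 1010)) (.node (.leaf 982) (.leaf 1187))) (.node (.node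 (.leaf 1802) (.leaf 1675)) (.leaf 718)))) (.node (.node (.node (.node (.leaf 139) (.leaf 205)) (.node (.leaf 967) (.leaf 1487))) (.node (.node (.leaf 1533) (.leaf 716)) (.leaf 717))) (.node (.node (.node (.leaf 633) (.leaf 1246)) (.node (.leaf 268) (.leaf 368))) (.node (.node (.leaf 244) (.leaf 393)) (.leaf 1220)))))))) (.node (.node (.node (.node (.node (.node (.node (.node (.leaf 676) (.leaf 32)) (.node (.leaf 1514) (.leaf 1449))) (.node (.node (.leaf 945) (.leaf 475)) (.node (.leaf 147) (.leaf 1657)))) (.node (.node (.node (.leaf 685) (.leaf 1668)) (.node (.leaf 737) (.leaf 125))) (.node (.node (.leaf 1894) (.leaf 1291)) (.leaf 1580)))) (.node (.node (.node (.node (.leaf 640) (.leaf 176)) (.node (.leaf 2053) (.leaf 980))) (.node (.node (.leaf 1453) (.leaf 806)) (.leaf 569))) (.node (.node (.node (.leaf 1669) (.leaf 2051)) (.node (.leaf 835) (.leaf 1866))) (.node (.node (.leaf 936) (.leaf 814)) (.leaf 1283))))) (.node (.node (.node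 (.node (.node (.leaf 1368) (.leaf 1631)) (.node (.leaf 1373) (.leaf 371))) (.node (.node (.leaf 1220) (.leaf 1792)) (.leaf 1271))) (.node (.node (.node (.leaf 389) (.leaf 690)) (.node (.leaf 677) (.leaf 436))) (.node (.node (.leaf 1428) (.leaf 414)) (.leaf 1544)))) (.node (.node (.node (.node (.leaf 1609) (.leaf 44)) (.node (.leaf 1492) (.leaf 1277))) (.node (.node (.leaf 1354) (.leaf 1570)) (.leaf 679))) (.node (.node (.node (.leaf 909) (.leaf 72)) (.node (.leaf 1921) (.leaf 1884))) (.node (.node (.leaf 49) (.leaf 385)) (.leaf 1249)))))) (.node (.node (.node (.node (.node (.node (.leaf 594) (.leaf 113)) (.node (.leaf 759) (.leaf 657))) (.node (.node (.leaf 1605) (.leaf 2030)) (.leaf 1815))) (.node (.node (.node (.leaf 153) (.leaf 719)) (.node (.leaf 685) (.leaf 568))) (.node (.node (.leaf 1580) (.leaf 299)) (.leaf 662)))) (.node (.node (.node (.node (.leaf 1170) (.leaf 1268)) (.node (.leaf 192) (.leaf 249))) (.node (.node (.leaf 1391)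 (.leaf 1933)) (.leaf 1051))) (.node (.node (.node (.leaf 1495) (.leaf 1617)) (.node (.leaf 198) (.leaf 177))) (.node (.node (.leaf 1388) (.leaf 1072)) (.leaf 1946))))) (.node (.node (.node (.node (.node (.leaf 732) (.leaf 42)) (.node (.leaf 793) (.leaf 235))) (.node (.node (.leaf 605) (.leaf 1528)) (.leaf 144))) (.node (.node (.node (.leaf 558) (.leaf 1014)) (.node (.leaf 1449) (.leaf 943))) (.node (.node (.leaf 735) (.leaf 2010)) (.leaf 391)))) (.node (.node (.node (.node (.leaf 1219) (.leaf 1880)) (.node (.leaf 1440) (.leaf 443))) (.node (.node (.leaf 1631) (.leaf 845)) (.leaf 846))) (.node (.node (.node (.leaf 1580) (.leaf 527)) (.node (.leaf 1318) (.leaf 113))) (.node (.node (.leaf 665) (.leaf 695)) (.leaf 75))))))) (.node (.node (.node (.node (.node (.node (.node (.leaf 334) (.leaf 1690)) (.node (.leaf 1516) (.leaf 1139))) (.node (.node (.leaf 1163) (.leaf 424)) (.leaf 1796))) (.node (.node (.node (.leaf 161) (.leaf 774)) (.node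 (.leaf 1740) (.leaf 1129))) (.node (.node (.leaf 385) (.leaf 96)) (.leaf 1970)))) (.node (.node (.node (.node (.leaf 1440) (.leaf 1642)) (.node (.leaf 849) (.leaf 7))) (.node (.node (.leaf 381) (.leaf 1164)) (.leaf 1079))) (.node (.node (.node (.leaf 1905) (.leaf 265)) (.node (.leaf 1798) (.leaf 1685))) (.node (.node (.leaf 1442) (.leaf 1540)) (.leaf 1112))))) (.node (.node (.node (.node (.node (.leaf 1696) (.leaf 1150)) (.node (.leaf 637) (.leaf 1893))) (.node (.node (.leaf 703) (.leaf 1515)) (.leaf 1821))) (.node (.node (.node (.leaf 547) (.leaf 83)) (.node (.leaf 429) (.leaf 494))) (.node (.node (.leaf 1591) (.leaf 1221)) (.leaf 1905)))) (.node (.node (.node (.node (.leaf 1831) (.leaf 1923)) (.node (.leaf 1163) (.leaf 1304))) (.node (.node (.leaf 1184) (.leaf 490)) (.leaf 3))) (.node (.node (.node (.leaf 1563) (.leaf 876)) (.node (.leaf 934) (.leaf 2004))) (.node (.node (.leaf 1742) (.leaf 850)) (.leaf 220)))))) (.node (.node (.node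 (.node (.node (.node (.leaf 1050) (.leaf 1286)) (.node (.leaf 211) (.leaf 716))) (.node (.node (.leaf 797) (.leaf 328)) (.leaf 889))) (.node (.node (.node (.leaf 254) (.leaf 876)) (.node (.leaf 9) (.leaf 652))) (.node (.node (.leaf 1225) (.leaf 963)) (.leaf 886)))) (.node (.node (.node (.node (.leaf 2050) (.leaf 564)) (.node (.leaf 1071) (.leaf 860))) (.node (.node (.leaf 662) (.leaf 703)) (.leaf 212))) (.node (.node (.node (.leaf 457) (.leaf 498)) (.node (.leaf 1680) (.leaf 52))) (.node (.node (.leaf 1707) (.leaf 1716)) (.leaf 1735))))) (.node (.node (.node (.node (.node (.leaf 823) (.leaf 270)) (.node (.leaf 305) (.leaf 1804))) (.node (.node (.leaf 1559) (.leaf 1898)) (.leaf 1601))) (.node (.node (.node (.leaf 35) (.leaf 349)) (.node (.leaf 318) (.leaf 1972))) (.node (.node (.leaf 1388) (.leaf 1108)) (.leaf 975)))) (.node (.node (.node (.node (.leaf 1634) (.leaf 140)) (.node (.leaf 1527) (.leaf 1420))) (.node (.node (.leaf 1643) (.leaf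 1606)) (.leaf 1021))) (.node (.node (.node (.leaf 663) (.leaf 895)) (.node (.leaf 492) (.leaf 1830))) (.node (.node (.leaf 582) (.leaf 929)) (.leaf 646))))))))) (.node (.node (.node (.node (.node (.node (.node (.node (.node (.leaf 316) (.leaf 1056)) (.node (.leaf 477) (.leaf 1016))) (.node (.node (.leaf 461) (.leaf 1412)) (.node (.leaf 1238) (.leaf 543)))) (.node (.node (.node (.leaf 766) (.leaf 325)) (.node (.leaf 2034) (.leaf 121))) (.node (.node (.leaf 1076) (.leaf 880)) (.leaf 1028)))) (.node (.node (.node (.node (.leaf 1234) (.leaf 1157)) (.node (.leaf 2002) (.leaf 777))) (.node (.node (.leaf 2022) (.leaf 281)) (.leaf 348))) (.node (.node (.node (.leaf 53) (.leaf 1388)) (.node (.leaf 1952) (.leaf 574))) (.node (.node (.leaf 1608) (.leaf 859)) (.leaf 1923))))) (.node (.node (.node (.node (.node (.leaf 187) (.leaf 1186)) (.node (.leaf 1735) (.leaf 1387))) (.node (.node (.leaf 1693) (.leaf 519)) (.leaf 722))) (.node (.node (.node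 (.leaf 1990) (.leaf 921)) (.node (.leaf 1497) (.leaf 695))) (.node (.node (.leaf 1924) (.leaf 603)) (.leaf 1036)))) (.node (.node (.node (.node (.leaf 551) (.leaf 695)) (.node (.leaf 588) (.leaf 1869))) (.node (.node (.leaf 1110) (.leaf 1591)) (.leaf 1020))) (.node (.node (.node (.leaf 205) (.leaf 1401)) (.node (.leaf 1597) (.leaf 833))) (.node (.node (.leaf 13) (.leaf 1509)) (.leaf 2048)))))) (.node (.node (.node (.node (.node (.node (.leaf 1261) (.leaf 1862)) (.node (.leaf 1488) (.leaf 1324))) (.node (.node (.leaf 429) (.leaf 1510)) (.leaf 722))) (.node (.node (.node (.leaf 194) (.leaf 471)) (.node (.leaf 472) (.leaf 1456))) (.node (.node (.leaf 598) (.leaf 850)) (.leaf 1096)))) (.node (.node (.node (.node (.leaf 204) (.leaf 1376)) (.node (.leaf 1196) (.leaf 1471))) (.node (.node (.leaf 1205) (.leaf 755)) (.leaf 1569))) (.node (.node (.node (.leaf 1099) (.leaf 1571)) (.node (.leaf 1212) (.leaf 1656))) (.node (.node (.leaf 1034) (.leaf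 2010)) (.leaf 675))))) (.node (.node (.node (.node (.node (.leaf 861) (.leaf 131)) (.node (.leaf 1357) (.leaf 499))) (.node (.node (.leaf 58) (.leaf 1117)) (.leaf 424))) (.node (.node (.node (.leaf 1309) (.leaf 866)) (.node (.leaf 1440) (.leaf 943))) (.node (.node (.leaf 109) (.leaf 1822)) (.leaf 1654)))) (.node (.node (.node (.node (.leaf 1364) (.leaf 578)) (.node (.leaf 1251) (.leaf 1076))) (.node (.node (.leaf 936) (.leaf 1595)) (.leaf 1504))) (.node (.node (.node (.leaf 995) (.leaf 1690)) (.node (.leaf 419) (.leaf 1578))) (.node (.node (.leaf 1149) (.leaf 88)) (.leaf 669))))))) (.node (.node (.node (.node (.node (.node (.node (.leaf 1884) (.leaf 1973)) (.node (.leaf 737) (.leaf 1535))) (.node (.node (.leaf 1670) (.leaf 424)) (.leaf 1208))) (.node (.node (.node (.leaf 1117) (.leaf 1543)) (.node (.leaf 115) (.leaf 298))) (.node (.node (.leaf 1841) (.leaf 525)) (.leaf 1364)))) (.node (.node (.node (.node (.leaf 1834) (.leaf 1775))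 (.node (.leaf 2005) (.leaf 807))) (.node (.node (.leaf 1065) (.leaf 1120)) (.leaf 1336))) (.node (.node (.node (.leaf 337) (.leaf 660)) (.node (.leaf 1973) (.leaf 475))) (.node (.node (.leaf 1115) (.leaf 832)) (.leaf 406))))) (.node (.node (.node (.node (.node (.leaf 165) (.leaf 1987)) (.node (.leaf 1501) (.leaf 1122))) (.node (.node (.leaf 747) (.leaf 970)) (.leaf 1736))) (.node (.node (.node (.leaf 1553) (.leaf 1859)) (.node (.leaf 1949) (.leaf 1453))) (.node (.node (.leaf 757) (.leaf 1987)) (.leaf 448)))) (.node (.node (.node (.node (.leaf 556) (.leaf 234)) (.node (.leaf 2013) (.leaf 1938))) (.node (.node (.leaf 544) (.leaf 483)) (.leaf 1407))) (.node (.node (.node (.leaf 883) (.leaf 1037)) (.node (.leaf 681) (.leaf 28))) (.node (.node (.leaf 429) (.leaf 211)) (.leaf 266)))))) (.node (.node (.node (.node (.node (.node (.leaf 1820) (.leaf 1005)) (.node (.leaf 1584) (.leaf 1168))) (.node (.node (.leaf 78) (.leaf 1928)) (.leaf 909)))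 (.node (.node (.node (.leaf 611) (.leaf 1547)) (.node (.leaf 50) (.leaf 2036))) (.node (.node (.leaf 306) (.leaf 1350)) (.leaf 579)))) (.node (.node (.node (.node (.leaf 150) (.leaf 1295)) (.node (.leaf 1143) (.leaf 366))) (.node (.node (.leaf 1308) (.leaf 1217)) (.leaf 270))) (.node (.node (.node (.leaf 1910) (.leaf 330)) (.node (.leaf 1903) (.leaf 1441))) (.node (.node (.leaf 543) (.leaf 1302)) (.leaf 225))))) (.node (.node (.node (.node (.node (.leaf 1591) (.leaf 105)) (.node (.leaf 1088) (.leaf 1353))) (.node (.node (.leaf 71) (.leaf 929)) (.leaf 501))) (.node (.node (.node (.leaf 573) (.leaf 1013)) (.node (.leaf 1537) (.leaf 1714))) (.node (.node (.leaf 1802) (.leaf 1389)) (.leaf 13)))) (.node (.node (.node (.node (.leaf 520) (.leaf 239)) (.node (.leaf 1764) (.leaf 182))) (.node (.node (.leaf 570) (.leaf 567)) (.leaf 1019))) (.node (.node (.node (.leaf 557) (.leaf 1332)) (.node (.leaf 196) (.leaf 2010))) (.node (.node (.leaf 459)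 (.leaf 1648)) (.leaf 1876)))))))) (.node (.node (.node (.node (.node (.node (.node (.node (.leaf 380) (.leaf 1456)) (.node (.leaf 898) (.leaf 2027))) (.node (.node (.leaf 1564) (.leaf 2049)) (.node (.leaf 35) (.leaf 2056)))) (.node (.node (.node (.leaf 441) (.leaf 71)) (.node (.leaf 1920) (.leaf 962))) (.node (.node (.leaf 1851) (.leaf 978)) (.leaf 492)))) (.node (.node (.node (.node (.leaf 1103) (.leaf 1252)) (.node (.leaf 1938) (.leaf 722))) (.node (.node (.leaf 754) (.leaf 22)) (.leaf 744))) (.node (.node (.node (.leaf 552) (.leaf 1231)) (.node (.leaf 671) (.leaf 815))) (.node (.node (.leaf 1024) (.leaf 934)) (.leaf 43))))) (.node (.node (.node (.node (.node (.leaf 1375) (.leaf 1399)) (.node (.leaf 1931) (.leaf 1800))) (.node (.node (.leaf 1859) (.leaf 980)) (.leaf 321))) (.node (.node (.node (.leaf 83) (.leaf 263)) (.node (.leaf 1381) (.leaf 711))) (.node (.node (.leaf 596) (.leaf 591)) (.leaf 1069)))) (.node (.node (.node (.node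 (.leaf 1853) (.leaf 1615)) (.node (.leaf 1653) (.leaf 105))) (.node (.node (.leaf 385) (.leaf 1897)) (.leaf 523))) (.node (.node (.node (.leaf 57) (.leaf 1378)) (.node (.leaf 673) (.leaf 1224))) (.node (.node (.leaf 1798) (.leaf 766)) (.leaf 99)))))) (.node (.node (.node (.node (.node (.node (.leaf 1180) (.leaf 201)) (.node (.leaf 1610) (.leaf 1351))) (.node (.node (.leaf 508) (.leaf 553)) (.leaf 1855))) (.node (.node (.node (.leaf 588) (.leaf 1052)) (.node (.leaf 1699) (.leaf 1122))) (.node (.node (.leaf 1425) (.leaf 1423)) (.leaf 1597)))) (.node (.node (.node (.node (.leaf 767) (.leaf 1285)) (.node (.leaf 1108) (.leaf 1628))) (.node (.node (.leaf 425) (.leaf 1563)) (.leaf 636))) (.node (.node (.node (.leaf 931) (.leaf 1075)) (.node (.leaf 622) (.leaf 1818))) (.node (.node (.leaf 737) (.leaf 1431)) (.leaf 499))))) (.node (.node (.node (.node (.node (.leaf 1945) (.leaf 290)) (.node (.leaf 1399) (.leaf 150))) (.node (.node (.leaf 1868)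 (.leaf 878)) (.leaf 1573))) (.node (.node (.node (.leaf 1858) (.leaf 1262)) (.node (.leaf 795) (.leaf 1248))) (.node (.node (.leaf 428) (.leaf 584)) (.leaf 1507)))) (.node (.node (.node (.node (.leaf 133) (.leaf 75)) (.node (.leaf 892) (.leaf 649))) (.node (.node (.leaf 935) (.leaf 1490)) (.leaf 358))) (.node (.node (.node (.leaf 283) (.leaf 1584)) (.node (.leaf 1804) (.leaf 957))) (.node (.node (.leaf 602) (.leaf 1612)) (.leaf 1183))))))) (.node (.node (.node (.node (.node (.node (.node (.leaf 489) (.leaf 651)) (.node (.leaf 1744) (.leaf 1176))) (.node (.node (.leaf 109) (.leaf 2034)) (.leaf 66))) (.node (.node (.node (.leaf 164) (.leaf 955)) (.node (.leaf 749) (.leaf 669))) (.node (.node (.leaf 885) (.leaf 1893)) (.leaf 1041)))) (.node (.node (.node (.node (.leaf 2008) (.leaf 1260)) (.node (.leaf 1587) (.leaf 1417))) (.node (.node (.leaf 957) (.leaf 1964)) (.leaf 598))) (.node (.node (.node (.leaf 1112) (.leaf 1969)) (.node (.leaf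 1169) (.leaf 1665))) (.node (.node (.leaf 198) (.leaf 1705)) (.leaf 1502))))) (.node (.node (.node (.node (.node (.leaf 1181) (.leaf 1749)) (.node (.leaf 1630) (.leaf 1780))) (.node (.node (.leaf 369) (.leaf 970)) (.leaf 1863))) (.node (.node (.node (.leaf 769) (.leaf 1371)) (.node (.leaf 146) (.leaf 1166))) (.node (.node (.leaf 623) (.leaf 398)) (.leaf 1245)))) (.node (.node (.node (.node (.leaf 1196) (.leaf 802)) (.node (.leaf 405) (.leaf 1883))) (.node (.node (.leaf 420) (.leaf 1758)) (.leaf 410))) (.node (.node (.node (.leaf 273) (.leaf 992)) (.node (.leaf 1686) (.leaf 1323))) (.node (.node (.leaf 2000) (.leaf 1871)) (.leaf 1852)))))) (.node (.node (.node (.node (.node (.node (.leaf 1411) (.leaf 1748)) (.node (.leaf 1616) (.leaf 788))) (.node (.node (.leaf 1496) (.leaf 1833)) (.leaf 1677))) (.node (.node (.node (.leaf 920) (.leaf 31)) (.node (.leaf 1000) (.leaf 185))) (.node (.node (.leaf 485) (.leaf 625)) (.leaf 1723)))) (.node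 (.node (.node (.node (.leaf 1552) (.leaf 1303)) (.node (.leaf 1467) (.leaf 876))) (.node (.node (.leaf 1659) (.leaf 1808)) (.leaf 987))) (.node (.node (.node (.leaf 1254) (.leaf 465)) (.node (.leaf 840) (.leaf 759))) (.node (.node (.leaf 548) (.leaf 1817)) (.leaf 382))))) (.node (.node (.node (.node (.node (.leaf 1432) (.leaf 1243)) (.node (.leaf 1193) (.leaf 749))) (.node (.node (.leaf 1783) (.leaf 1221)) (.leaf 1127))) (.node (.node (.node (.leaf 1613) (.leaf 1677)) (.node (.leaf 720) (.leaf 1610))) (.node (.node (.leaf 472) (.leaf 224)) (.leaf 447)))) (.node (.node (.node (.node (.leaf 99) (.leaf 511)) (.node (.leaf 1417) (.leaf 929))) (.node (.node (.leaf 1232) (.leaf 1137)) (.leaf 350))) (.node (.node (.node (.leaf 1644) (.leaf 1771)) (.node (.leaf 1255) (.leaf 1071))) (.node (.node (.leaf 1672) (.leaf 426)) (.leaf 388)))))))))))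

/-- Part of `ptImg`. -/
def ptImg6 : Tr := (.node (.node (.node (.node (.node (.node (.node (.node (.node (.node (.node (.leaf 1247) (.leaf 1171)) (.node (.leaf 1411) (.leaf 238))) (.node (.node (.leaf 986) (.leaf 363)) (.node (.leaf 1199) (.leaf 1137)))) (.node (.node (.node (.leaf 884) (.leaf 701)) (.node (.leaf 61) (.leaf 1710))) (.node (.node (.leaf 1100) (.leaf 1610)) (.leaf 57)))) (.node (.node (.node (.node (.leaf 1845) (.leaf 1268)) (.node (.leaf 1737) (.leaf 190))) (.node (.node (.leaf 941) (.leaf 116)) (.leaf 937))) (.node (.node (.node (.leaf 1149) (.leaf 1327)) (.node (.leaf 1226) (.leaf 151))) (.node (.node (.leaf 1664) (.leaf 787)) (.leaf 592))))) (.node (.node (.node (.node (.node (.leaf 1952) (.leaf 47)) (.node (.leaf 831) (.leaf 1505))) (.node (.node (.leaf 692) (.leaf 1886)) (.leaf 49))) (.node (.node (.node (.leaf 830) (.leaf 919)) (.node (.leaf 1655) (.leaf 1505))) (.node (.node (.leaf 1547) (.leaf 802)) (.leaf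 558)))) (.node (.node (.node (.node (.leaf 1782) (.leaf 405)) (.node (.leaf 1418) (.leaf 1776))) (.node (.node (.leaf 554) (.leaf 1669)) (.leaf 1367))) (.node (.node (.node (.leaf 474) (.leaf 963)) (.node (.leaf 1960) (.leaf 789))) (.node (.node (.leaf 714) (.leaf 1547)) (.leaf 1506)))))) (.node (.node (.node (.node (.node (.node (.leaf 19) (.leaf 592)) (.node (.leaf 676) (.leaf 672))) (.node (.node (.leaf 869) (.leaf 1396)) (.leaf 184))) (.node (.node (.node (.leaf 119) (.leaf 825)) (.node (.leaf 1306) (.leaf 1921))) (.node (.node (.leaf 1545) (.leaf 1636)) (.leaf 1866)))) (.node (.node (.node (.node (.leaf 422) (.leaf 2014)) (.node (.leaf 774) (.leaf 670))) (.node (.node (.leaf 982) (.leaf 478)) (.leaf 1928))) (.node (.node (.node (.leaf 1912) (.leaf 651)) (.node (.leaf 972) (.leaf 160))) (.node (.node (.leaf 982) (.leaf 1136)) (.leaf 743))))) (.node (.node (.node (.node (.node (.leaf 1347) (.leaf 1317)) (.node (.leaf 213) (.leaf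 378))) (.node (.node (.leaf 348) (.leaf 931)) (.leaf 904))) (.node (.node (.node (.leaf 1111) (.leaf 191)) (.node (.leaf 1683) (.leaf 123))) (.node (.node (.leaf 1848) (.leaf 512)) (.leaf 1237)))) (.node (.node (.node (.node (.leaf 452) (.leaf 1958)) (.node (.leaf 549) (.leaf 13))) (.node (.node (.leaf 519) (.leaf 1576)) (.leaf 708))) (.node (.node (.node (.leaf 1016) (.leaf 1694)) (.node (.leaf 1903) (.leaf 1487))) (.node (.node (.leaf 608) (.leaf 229)) (.leaf 68))))))) (.node (.node (.node (.node (.node (.node (.node (.leaf 856) (.leaf 561)) (.node (.leaf 549) (.leaf 67))) (.node (.node (.leaf 1340) (.leaf 1771)) (.leaf 1693))) (.node (.node (.node (.leaf 978) (.leaf 261)) (.node (.leaf 1257) (.leaf 2006))) (.node (.node (.leaf 1073) (.leaf 456)) (.leaf 1034)))) (.node (.node (.node (.node (.leaf 715) (.leaf 1725)) (.node (.leaf 1982) (.leaf 336))) (.node (.node (.leaf 779) (.leaf 1546)) (.leaf 215))) (.node (.node (.node (.leaf 1787)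 (.leaf 648)) (.node (.leaf 388) (.leaf 727))) (.node (.node (.leaf 1453) (.leaf 82)) (.leaf 983))))) (.node (.node (.node (.node (.node (.leaf 1226) (.leaf 357)) (.node (.leaf 2046) (.leaf 507))) (.node (.node (.leaf 907) (.leaf 802)) (.leaf 1168))) (.node (.node (.node (.leaf 920) (.leaf 143)) (.node (.leaf 404) (.leaf 991))) (.node (.node (.leaf 56) (.leaf 919)) (.leaf 756)))) (.node (.node (.node (.node (.leaf 144) (.leaf 355)) (.node (.leaf 1047) (.leaf 1873))) (.node (.node (.leaf 412) (.leaf 500)) (.leaf 163))) (.node (.node (.node (.leaf 1147) (.leaf 1184)) (.node (.leaf 851) (.leaf 388))) (.node (.node (.leaf 207) (.leaf 1991)) (.leaf 1815)))))) (.node (.node (.node (.node (.node (.node (.leaf 2046) (.leaf 883)) (.node (.leaf 1439) (.leaf 1390))) (.node (.node (.leaf 622) (.leaf 1579)) (.leaf 1511))) (.node (.node (.node (.leaf 537) (.leaf 1808)) (.node (.leaf 1116) (.leaf 982))) (.node (.node (.leaf 566) (.leaf 408)) (.leaf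 1038)))) (.node (.node (.node (.node (.leaf 1409) (.leaf 920)) (.node (.leaf 113) (.leaf 387))) (.node (.node (.leaf 1816) (.leaf 301)) (.leaf 677))) (.node (.node (.node (.leaf 1057) (.leaf 1094)) (.node (.leaf 1909) (.leaf 2001))) (.node (.node (.leaf 878) (.leaf 1902)) (.leaf 1875))))) (.node (.node (.node (.node (.node (.leaf 965) (.leaf 1282)) (.node (.leaf 176) (.leaf 1335))) (.node (.node (.leaf 1166) (.leaf 728)) (.leaf 942))) (.node (.node (.node (.leaf 1732) (.leaf 1848)) (.node (.leaf 1879) (.leaf 391))) (.node (.node (.leaf 1763) (.leaf 743)) (.leaf 1853)))) (.node (.node (.node (.node (.leaf 1010) (.leaf 397)) (.node (.leaf 343) (.leaf 913))) (.node (.node (.leaf 478) (.leaf 714)) (.leaf 511))) (.node (.node (.node (.leaf 358) (.leaf 951)) (.node (.leaf 1544) (.leaf 1898))) (.node (.node (.leaf 1443) (.leaf 1500)) (.leaf 1165)))))))) (.node (.node (.node (.node (.node (.node (.node (.node (.leaf 45) (.leaf 129)) (.node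 (.leaf 762) (.leaf 639))) (.node (.node (.leaf 1915) (.leaf 740)) (.node (.leaf 121) (.leaf 660)))) (.node (.node (.node (.leaf 1975) (.leaf 23)) (.node (.leaf 1894) (.leaf 18))) (.node (.node (.leaf 342) (.leaf 136)) (.leaf 1048)))) (.node (.node (.node (.node (.leaf 1493) (.leaf 179)) (.node (.leaf 524) (.leaf 393))) (.node (.node (.leaf 230) (.leaf 265)) (.leaf 1760))) (.node (.node (.node (.leaf 1681) (.leaf 1395)) (.node (.leaf 889) (.leaf 1980))) (.node (.node (.leaf 517) (.leaf 1918)) (.leaf 525))))) (.node (.node (.node (.node (.node (.leaf 1316) (.leaf 1212)) (.node (.leaf 1436) (.leaf 145))) (.node (.node (.leaf 15) (.leaf 1009)) (.leaf 1655))) (.node (.node (.node (.leaf 1757) (.leaf 595)) (.node (.leaf 571) (.leaf 1807))) (.node (.node (.leaf 992) (.leaf 377)) (.leaf 1640)))) (.node (.node (.node (.node (.leaf 1564) (.leaf 1270)) (.node (.leaf 1493) (.leaf 214))) (.node (.node (.leaf 58) (.leaf 360)) (.leaf 480))) (.node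 (.node (.node (.leaf 656) (.leaf 1431)) (.node (.leaf 922) (.leaf 2016))) (.node (.node (.leaf 34) (.leaf 1503)) (.leaf 1154)))))) (.node (.node (.node (.node (.node (.node (.leaf 621) (.leaf 55)) (.node (.leaf 1746) (.leaf 622))) (.node (.node (.leaf 707) (.leaf 119)) (.leaf 1006))) (.node (.node (.node (.leaf 578) (.leaf 616)) (.node (.leaf 1632) (.leaf 1704))) (.node (.node (.leaf 1994) (.leaf 862)) (.leaf 1722)))) (.node (.node (.node (.node (.leaf 155) (.leaf 994)) (.node (.leaf 983) (.leaf 1703))) (.node (.node (.leaf 1038) (.leaf 217)) (.leaf 786))) (.node (.node (.node (.leaf 1857) (.leaf 947)) (.node (.leaf 1476) (.leaf 1322))) (.node (.node (.leaf 513) (.leaf 1886)) (.leaf 1059))))) (.node (.node (.node (.node (.node (.leaf 1610) (.leaf 1378)) (.node (.leaf 61) (.leaf 1143))) (.node (.node (.leaf 1347) (.leaf 80)) (.leaf 840))) (.node (.node (.node (.leaf 1432) (.leaf 1265)) (.node (.leaf 1605) (.leaf 1962))) (.node (.node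 (.leaf 1124) (.leaf 1573)) (.leaf 1662)))) (.node (.node (.node (.node (.leaf 1614) (.leaf 652)) (.node (.leaf 292) (.leaf 1042))) (.node (.node (.leaf 1755) (.leaf 1596)) (.leaf 1535))) (.node (.node (.node (.leaf 694) (.leaf 213)) (.node (.leaf 20) (.leaf 233))) (.node (.node (.leaf 664) (.leaf 1320)) (.leaf 1347))))))) (.node (.node (.node (.node (.node (.node (.node (.leaf 823) (.leaf 417)) (.node (.leaf 1188) (.leaf 1484))) (.node (.node (.leaf 1953) (.leaf 693)) (.leaf 2032))) (.node (.node (.node (.leaf 1623) (.leaf 22)) (.node (.leaf 65) (.leaf 652))) (.node (.node (.leaf 1972) (.leaf 80)) (.leaf 1972)))) (.node (.node (.node (.node (.leaf 1054) (.leaf 1623)) (.node (.leaf 1129) (.leaf 240))) (.node (.node (.leaf 175) (.leaf 1373)) (.leaf 1324))) (.node (.node (.node (.leaf 1278) (.leaf 510)) (.node (.leaf 559) (.leaf 426))) (.node (.node (.leaf 512) (.leaf 52)) (.leaf 1995))))) (.node (.node (.node (.node (.node (.leaf 1341)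 (.leaf 404)) (.node (.leaf 636) (.leaf 1806))) (.node (.node (.leaf 255) (.leaf 1737)) (.leaf 254))) (.node (.node (.node (.leaf 1064) (.leaf 420)) (.node (.leaf 782) (.leaf 1738))) (.node (.node (.leaf 490) (.leaf 673)) (.leaf 294)))) (.node (.node (.node (.node (.leaf 1816) (.leaf 321)) (.node (.leaf 396) (.leaf 1153))) (.node (.node (.leaf 159) (.leaf 676)) (.leaf 1520))) (.node (.node (.node (.leaf 956) (.leaf 588)) (.node (.leaf 43) (.leaf 652))) (.node (.node (.leaf 75) (.leaf 1126)) (.leaf 229)))))) (.node (.node (.node (.node (.node (.node (.leaf 882) (.leaf 1203)) (.node (.leaf 1649) (.leaf 1328))) (.node (.node (.leaf 1133) (.leaf 1199)) (.leaf 1121))) (.node (.node (.node (.leaf 729) (.leaf 96)) (.node (.leaf 1254) (.leaf 636))) (.node (.node (.leaf 1339) (.leaf 1259)) (.leaf 626)))) (.node (.node (.node (.node (.leaf 1556) (.leaf 1976)) (.node (.leaf 1289) (.leaf 147))) (.node (.node (.leaf 1663) (.leaf 1333)) (.leaf 1904)))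 (.node (.node (.node (.leaf 286) (.leaf 1084)) (.node (.leaf 1971) (.leaf 987))) (.node (.node (.leaf 1951) (.leaf 629)) (.leaf 1747))))) (.node (.node (.node (.node (.node (.leaf 1937) (.leaf 141)) (.node (.leaf 1338) (.leaf 666))) (.node (.node (.leaf 301) (.leaf 1356)) (.leaf 1901))) (.node (.node (.node (.leaf 743) (.leaf 1779)) (.node (.leaf 1671) (.leaf 814))) (.node (.node (.leaf 1809) (.leaf 1601)) (.leaf 1364)))) (.node (.node (.node (.node (.leaf 1811) (.leaf 247)) (.node (.leaf 1444) (.leaf 204))) (.node (.node (.leaf 1101) (.leaf 948)) (.leaf 1348))) (.node (.node (.node (.leaf 574) (.leaf 107)) (.node (.leaf 374) (.leaf 1735))) (.node (.node (.leaf 1554) (.leaf 1794)) (.leaf 1447))))))))) (.node (.node (.node (.node (.node (.node (.node (.node (.node (.leaf 1518) (.leaf 462)) (.node (.leaf 173) (.leaf 1860))) (.node (.node (.leaf 1961) (.leaf 1128)) (.node (.leaf 1038) (.leaf 1396)))) (.node (.node (.node (.leaf 8) (.leaf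 1394)) (.node (.leaf 1253) (.leaf 952))) (.node (.node (.leaf 498) (.leaf 925)) (.leaf 122)))) (.node (.node (.node (.node (.leaf 76) (.leaf 1455)) (.node (.leaf 177) (.leaf 1429))) (.node (.node (.leaf 1322) (.leaf 1635)) (.leaf 1249))) (.node (.node (.node (.leaf 1316) (.leaf 336)) (.node (.leaf 128) (.leaf 161))) (.node (.node (.leaf 560) (.leaf 1990)) (.leaf 556))))) (.node (.node (.node (.node (.node (.leaf 1529) (.leaf 1204)) (.node (.leaf 1692) (.leaf 1023))) (.node (.node (.leaf 1991) (.leaf 926)) (.leaf 335))) (.node (.node (.node (.leaf 207) (.leaf 1532)) (.node (.leaf 1511) (.leaf 1743))) (.node (.node (.leaf 430) (.leaf 1311)) (.leaf 412)))) (.node (.node (.node (.node (.leaf 614) (.leaf 678)) (.node (.leaf 1202) (.leaf 913))) (.node (.node (.leaf 1832) (.leaf 1517)) (.leaf 1165))) (.node (.node (.node (.leaf 1526) (.leaf 1276)) (.node (.leaf 169) (.leaf 1262))) (.node (.node (.leaf 198) (.leaf 1508)) (.leaf 711)))))) (.node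 (.node (.node (.node (.node (.node (.leaf 1905) (.leaf 515)) (.node (.leaf 1021) (.leaf 1935))) (.node (.node (.leaf 1727) (.leaf 578)) (.leaf 943))) (.node (.node (.node (.leaf 1923) (.leaf 1338)) (.node (.leaf 291) (.leaf 525))) (.node (.node (.leaf 360) (.leaf 639)) (.leaf 551)))) (.node (.node (.node (.node (.leaf 684) (.leaf 286)) (.node (.leaf 1914) (.leaf 560))) (.node (.node (.leaf 1855) (.leaf 1342)) (.leaf 953))) (.node (.node (.node (.leaf 1733) (.leaf 36)) (.node (.leaf 1183) (.leaf 809))) (.node (.node (.leaf 1890) (.leaf 839)) (.leaf 1990))))) (.node (.node (.node (.node (.node (.leaf 1882) (.leaf 1228)) (.node (.leaf 1507) (.leaf 234))) (.node (.node (.leaf 1023) (.leaf 1183)) (.leaf 463))) (.node (.node (.node (.leaf 927) (.leaf 858)) (.node (.leaf 276) (.leaf 997))) (.node (.node (.leaf 1021) (.leaf 600)) (.leaf 493)))) (.node (.node (.node (.node (.leaf 1379) (.leaf 1316)) (.node (.leaf 1789) (.leaf 1031))) (.node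 (.node (.leaf 1897) (.leaf 748)) (.leaf 1769))) (.node (.node (.node (.leaf 1778) (.leaf 339)) (.node (.leaf 1335) (.leaf 355))) (.node (.node (.leaf 433) (.leaf 1904)) (.leaf 1650))))))) (.node (.node (.node (.node (.node (.node (.node (.leaf 12) (.leaf 138)) (.node (.leaf 1074) (.leaf 138))) (.node (.node (.leaf 118) (.leaf 103)) (.leaf 1222))) (.node (.node (.node (.leaf 2045) (.leaf 525)) (.node (.leaf 215) (.leaf 1914))) (.node (.node (.leaf 1067) (.leaf 991)) (.leaf 1975)))) (.node (.node (.node (.node (.leaf 1267) (.leaf 1683)) (.node (.leaf 987) (.leaf 1315))) (.node (.node (.leaf 1038) (.leaf 1791)) (.leaf 1427))) (.node (.node (.node (.leaf 316) (.leaf 1160)) (.node (.leaf 671) (.leaf 1220))) (.node (.node (.leaf 2021) (.leaf 680)) (.leaf 1533))))) (.node (.node (.node (.node (.node (.leaf 1300) (.leaf 285)) (.node (.leaf 1265) (.leaf 1922))) (.node (.node (.leaf 863) (.leaf 831)) (.leaf 1502))) (.node (.node (.node (.leaf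 1760) (.leaf 1252)) (.node (.leaf 1079) (.leaf 1950))) (.node (.node (.leaf 1313) (.leaf 1357)) (.leaf 8)))) (.node (.node (.node (.node (.leaf 1888) (.leaf 1195)) (.node (.leaf 1786) (.leaf 1877))) (.node (.node (.leaf 2050) (.leaf 44)) (.leaf 999))) (.node (.node (.node (.leaf 825) (.leaf 1717)) (.node (.leaf 1318) (.leaf 2023))) (.node (.node (.leaf 1483) (.leaf 1929)) (.leaf 494)))))) (.node (.node (.node (.node (.node (.node (.leaf 1706) (.leaf 1003)) (.node (.leaf 1283) (.leaf 1398))) (.node (.node (.leaf 101) (.leaf 233)) (.leaf 1829))) (.node (.node (.node (.leaf 1249) (.leaf 1451)) (.node (.leaf 1711) (.leaf 787))) (.node (.node (.leaf 908) (.leaf 739)) (.leaf 87)))) (.node (.node (.node (.node (.leaf 1581) (.leaf 505)) (.node (.leaf 366) (.leaf 876))) (.node (.node (.leaf 1376) (.leaf 605)) (.leaf 888))) (.node (.node (.node (.leaf 1653) (.leaf 1090)) (.node (.leaf 1342) (.leaf 1000))) (.node (.node (.leaf 1367) (.leaf 1083))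 (.leaf 1102))))) (.node (.node (.node (.node (.node (.leaf 1623) (.leaf 711)) (.node (.leaf 1916) (.leaf 928))) (.node (.node (.leaf 967) (.leaf 1005)) (.leaf 79))) (.node (.node (.node (.leaf 684) (.leaf 1881)) (.node (.leaf 1123) (.leaf 1554))) (.node (.node (.leaf 1123) (.leaf 56)) (.leaf 831)))) (.node (.node (.node (.node (.leaf 140) (.leaf 1330)) (.node (.leaf 1627) (.leaf 1554))) (.node (.node (.leaf 1341) (.leaf 1051)) (.leaf 132))) (.node (.node (.node (.leaf 2025) (.leaf 1931)) (.node (.leaf 386) (.leaf 2017))) (.node (.node (.leaf 1297) (.leaf 712)) (.leaf 1615)))))))) (.node (.node (.node (.node (.node (.node (.node (.node (.leaf 140) (.leaf 666)) (.node (.leaf 362) (.leaf 1763))) (.node (.node (.leaf 206) (.leaf 306)) (.node (.leaf 1152) (.leaf 1287)))) (.node (.node (.node (.leaf 208) (.leaf 1067)) (.node (.leaf 218) (.leaf 1241))) (.node (.node (.leaf 181) (.leaf 775)) (.leaf 42)))) (.node (.node (.node (.node (.leaf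 347) (.leaf 748)) (.node (.leaf 1178) (.leaf 2035))) (.node (.node (.leaf 1731) (.leaf 1702)) (.leaf 502))) (.node (.node (.node (.leaf 187) (.leaf 674)) (.node (.leaf 1617) (.leaf 146))) (.node (.node (.leaf 1825) (.leaf 1782)) (.leaf 974))))) (.node (.node (.node (.node (.node (.leaf 415) (.leaf 1007)) (.node (.leaf 112) (.leaf 382))) (.node (.node (.leaf 1392) (.leaf 643)) (.leaf 1405))) (.node (.node (.node (.leaf 1555) (.leaf 562)) (.node (.leaf 1953) (.leaf 910))) (.node (.node (.leaf 370) (.leaf 482)) (.leaf 497)))) (.node (.node (.node (.node (.leaf 1449) (.leaf 2055)) (.node (.leaf 313) (.leaf 19))) (.node (.node (.leaf 1895) (.leaf 624)) (.leaf 474))) (.node (.node (.node (.leaf 1361) (.leaf 400)) (.node (.leaf 396) (.leaf 329))) (.node (.node (.leaf 1100) (.leaf 1248)) (.leaf 124)))))) (.node (.node (.node (.node (.node (.node (.leaf 884) (.leaf 1525)) (.node (.leaf 606) (.leaf 137))) (.node (.node (.leaf 483) (.leaf 969))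 (.leaf 1964))) (.node (.node (.node (.leaf 492) (.leaf 1557)) (.node (.leaf 386) (.leaf 1589))) (.node (.node (.leaf 1053) (.leaf 1539)) (.leaf 973)))) (.node (.node (.node (.node (.leaf 99) (.leaf 739)) (.node (.leaf 790) (.leaf 112))) (.node (.node (.leaf 1020) (.leaf 54)) (.leaf 961))) (.node (.node (.node (.leaf 816) (.leaf 751)) (.node (.leaf 217) (.leaf 957))) (.node (.node (.leaf 905) (.leaf 1432)) (.leaf 1990))))) (.node (.node (.node (.node (.node (.leaf 1266) (.leaf 1465)) (.node (.leaf 1604) (.leaf 1313))) (.node (.node (.leaf 743) (.leaf 575)) (.leaf 1482))) (.node (.node (.node (.leaf 204) (.leaf 131)) (.node (.leaf 828) (.leaf 310))) (.node (.node (.leaf 669) (.leaf 593)) (.leaf 1272)))) (.node (.node (.node (.node (.leaf 579) (.leaf 1852)) (.node (.leaf 652) (.leaf 1904))) (.node (.node (.leaf 320) (.leaf 1489)) (.leaf 940))) (.node (.node (.node (.leaf 84) (.leaf 1435)) (.node (.leaf 908) (.leaf 1256))) (.node (.node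 (.leaf 1979) (.leaf 618)) (.leaf 66))))))) (.node (.node (.node (.node (.node (.node (.node (.leaf 1478) (.leaf 2037)) (.node (.leaf 575) (.leaf 1772))) (.node (.node (.leaf 1866) (.leaf 1680)) (.leaf 76))) (.node (.node (.node (.leaf 1870) (.leaf 1470)) (.node (.leaf 617) (.leaf 451))) (.node (.node (.leaf 342) (.leaf 1626)) (.leaf 841)))) (.node (.node (.node (.node (.leaf 90) (.leaf 1261)) (.node (.leaf 533) (.leaf 2049))) (.node (.node (.leaf 1497) (.leaf 1068)) (.leaf 359))) (.node (.node (.node (.leaf 1034) (.leaf 1451)) (.node (.leaf 170) (.leaf 803))) (.node (.node (.leaf 1940) (.leaf 864)) (.leaf 1496))))) (.node (.node (.node (.node (.node (.leaf 1772) (.leaf 1161)) (.node (.leaf 603) (.leaf 1344))) (.node (.node (.leaf 1517) (.leaf 600)) (.leaf 1194))) (.node (.node (.node (.leaf 199) (.leaf 1370)) (.node (.leaf 1892) (.leaf 1814))) (.node (.node (.leaf 172) (.leaf 642)) (.leaf 670)))) (.node (.node (.node (.node (.leaf 418)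 (.leaf 87)) (.node (.leaf 6) (.leaf 58))) (.node (.node (.leaf 1962) (.leaf 490)) (.leaf 1361))) (.node (.node (.node (.leaf 870) (.leaf 1712)) (.node (.leaf 100) (.leaf 1048))) (.node (.node (.leaf 260) (.leaf 980)) (.leaf 707)))))) (.node (.node (.node (.node (.node (.node (.leaf 313) (.leaf 26)) (.node (.leaf 1786) (.leaf 1188))) (.node (.node (.leaf 1099) (.leaf 1057)) (.leaf 554))) (.node (.node (.node (.leaf 849) (.leaf 1445)) (.node (.leaf 1727) (.leaf 344))) (.node (.node (.leaf 337) (.leaf 1683)) (.leaf 15)))) (.node (.node (.node (.node (.leaf 1132) (.leaf 1293)) (.node (.leaf 1477) (.leaf 271))) (.node (.node (.leaf 926) (.leaf 1412)) (.leaf 303))) (.node (.node (.node (.leaf 637) (.leaf 476)) (.node (.leaf 1703) (.leaf 2043))) (.node (.node (.leaf 155) (.leaf 1438)) (.leaf 108))))) (.node (.node (.node (.node (.node (.leaf 360) (.leaf 1242)) (.node (.leaf 899) (.leaf 192))) (.node (.node (.leaf 751) (.leaf 1796)) (.leaf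 1047))) (.node (.node (.node (.leaf 526) (.leaf 509)) (.node (.leaf 803) (.leaf 817))) (.node (.node (.leaf 1301) (.leaf 1496)) (.leaf 1332)))) (.node (.node (.node (.node (.leaf 722) (.leaf 872)) (.node (.leaf 322) (.leaf 1679))) (.node (.node (.leaf 1100) (.leaf 307)) (.leaf 1386))) (.node (.node (.node (.leaf 536) (.leaf 723)) (.node (.leaf 506) (.leaf 1260))) (.node (.node (.leaf 404) (.leaf 689)) (.leaf 1736)))))))))) (.node (.node (.node (.node (.node (.node (.node (.node (.node (.node (.leaf 1685) (.leaf 539)) (.node (.leaf 1389) (.leaf 607))) (.node (.node (.leaf 522) (.leaf 1705)) (.node (.leaf 170) (.leaf 107)))) (.node (.node (.node (.leaf 1182) (.leaf 160)) (.node (.leaf 395) (.leaf 1401))) (.node (.node (.leaf 1079) (.leaf 961)) (.leaf 279)))) (.node (.node (.node (.node (.leaf 563) (.leaf 1078)) (.node (.leaf 1699) (.leaf 1732))) (.node (.node (.leaf 1290) (.leaf 537)) (.leaf 1904))) (.node (.node (.node (.leaf 1416) (.leaf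 698)) (.node (.leaf 1155) (.leaf 1498))) (.node (.node (.leaf 949) (.leaf 1316)) (.leaf 892))))) (.node (.node (.node (.node (.node (.leaf 1591) (.leaf 2003)) (.node (.leaf 406) (.leaf 1376))) (.node (.node (.leaf 333) (.leaf 606)) (.leaf 291))) (.node (.node (.node (.leaf 896) (.leaf 97)) (.node (.leaf 561) (.leaf 1070))) (.node (.node (.leaf 1918) (.leaf 1428)) (.leaf 1362)))) (.node (.node (.node (.node (.leaf 1106) (.leaf 1646)) (.node (.leaf 314) (.leaf 1033))) (.node (.node (.leaf 1439) (.leaf 163)) (.leaf 1987))) (.node (.node (.node (.leaf 421) (.leaf 80)) (.node (.leaf 1469) (.leaf 2013))) (.node (.node (.leaf 821) (.leaf 994)) (.leaf 1427)))))) (.node (.node (.node (.node (.node (.node (.leaf 782) (.leaf 844)) (.node (.leaf 734) (.leaf 1256))) (.node (.node (.leaf 1254) (.leaf 1602)) (.leaf 800))) (.node (.node (.node (.leaf 100) (.leaf 73)) (.node (.leaf 1415) (.leaf 504))) (.node (.node (.leaf 580) (.leaf 815)) (.leaf 171))))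 (.node (.node (.node (.node (.leaf 1816) (.leaf 1549)) (.node (.leaf 2053) (.leaf 1146))) (.node (.node (.leaf 1360) (.leaf 106)) (.leaf 793))) (.node (.node (.node (.leaf 1551) (.leaf 1831)) (.node (.leaf 824) (.leaf 1031))) (.node (.node (.leaf 1) (.leaf 2039)) (.leaf 1155))))) (.node (.node (.node (.node (.node (.leaf 906) (.leaf 410)) (.node (.leaf 1127) (.leaf 1812))) (.node (.node (.leaf 31) (.leaf 1841)) (.leaf 1106))) (.node (.node (.node (.leaf 1702) (.leaf 253)) (.node (.leaf 1430) (.leaf 1660))) (.node (.node (.leaf 1586) (.leaf 1666)) (.leaf 1519)))) (.node (.node (.node (.node (.leaf 130) (.leaf 872)) (.node (.leaf 83) (.leaf 156))) (.node (.node (.leaf 881) (.leaf 1934)) (.leaf 1430))) (.node (.node (.node (.leaf 1386) (.leaf 90)) (.node (.leaf 1106) (.leaf 1894))) (.node (.node (.leaf 1926) (.leaf 1448)) (.leaf 1577))))))) (.node (.node (.node (.node (.node (.node (.node (.leaf 1675) (.leaf 54)) (.node (.leaf 1124) (.leaf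 1659))) (.node (.node (.leaf 173) (.leaf 1672)) (.leaf 1163))) (.node (.node (.node (.leaf 1707) (.leaf 27)) (.node (.leaf 354) (.leaf 1756))) (.node (.node (.leaf 1842) (.leaf 1618)) (.leaf 336)))) (.node (.node (.node (.node (.leaf 1545) (.leaf 255)) (.node (.leaf 501) (.leaf 690))) (.node (.node (.leaf 266) (.leaf 1348)) (.leaf 1425))) (.node (.node (.node (.leaf 641) (.leaf 1689)) (.node (.leaf 126) (.leaf 1286))) (.node (.node (.leaf 996) (.leaf 1682)) (.leaf 685))))) (.node (.node (.node (.node (.node (.leaf 1207) (.leaf 46)) (.node (.leaf 804) (.leaf 1044))) (.node (.node (.leaf 1477) (.leaf 295)) (.leaf 333))) (.node (.node (.node (.leaf 168) (.leaf 1037)) (.node (.leaf 173) (.leaf 927))) (.node (.node (.leaf 473) (.leaf 510)) (.leaf 965)))) (.node (.node (.node (.node (.leaf 294) (.leaf 593)) (.node (.leaf 1480) (.leaf 1165))) (.node (.node (.leaf 1497) (.leaf 1673)) (.leaf 1914))) (.node (.node (.node (.leaf 129) (.leaf 1849))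 (.node (.leaf 145) (.leaf 900))) (.node (.node (.leaf 1089) (.leaf 793)) (.leaf 1365)))))) (.node (.node (.node (.node (.node (.node (.leaf 29) (.leaf 1495)) (.node (.leaf 852) (.leaf 941))) (.node (.node (.leaf 730) (.leaf 701)) (.leaf 339))) (.node (.node (.node (.leaf 1828) (.leaf 64)) (.node (.leaf 262) (.leaf 734))) (.node (.node (.leaf 468) (.leaf 1920)) (.leaf 1027)))) (.node (.node (.node (.node (.leaf 849) (.leaf 283)) (.node (.leaf 297) (.leaf 1230))) (.node (.node (.leaf 1462) (.leaf 402)) (.leaf 1727))) (.node (.node (.node (.leaf 2002) (.leaf 655)) (.node (.leaf 1697) (.leaf 1625))) (.node (.node (.leaf 441) (.leaf 1985)) (.leaf 1368))))) (.node (.node (.node (.node (.node (.leaf 1529) (.leaf 795)) (.node (.leaf 1188) (.leaf 929))) (.node (.node (.leaf 1625) (.leaf 1177)) (.leaf 1960))) (.node (.node (.node (.leaf 985) (.leaf 2028)) (.node (.leaf 326) (.leaf 493))) (.node (.node (.leaf 1622) (.leaf 11)) (.leaf 680)))) (.node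 (.node (.node (.node (.leaf 863) (.leaf 781)) (.node (.leaf 2042) (.leaf 982))) (.node (.node (.leaf 946) (.leaf 1602)) (.leaf 378))) (.node (.node (.node (.leaf 1986) (.leaf 94)) (.node (.leaf 1171) (.leaf 1932))) (.node (.node (.leaf 170) (.leaf 250)) (.leaf 308)))))))) (.node (.node (.node (.node (.node (.node (.node (.node (.leaf 448) (.leaf 2029)) (.node (.leaf 1737) (.leaf 669))) (.node (.node (.leaf 535) (.leaf 362)) (.node (.leaf 354) (.leaf 1078)))) (.node (.node (.node (.leaf 925) (.leaf 1655)) (.node (.leaf 988) (.leaf 1947))) (.node (.node (.leaf 1123) (.leaf 1288)) (.leaf 378)))) (.node (.node (.node (.node (.leaf 1697) (.leaf 686)) (.node (.leaf 212) (.leaf 176))) (.node (.node (.leaf 857) (.leaf 653)) (.leaf 2038))) (.node (.node (.node (.leaf 1945) (.leaf 1141)) (.node (.leaf 1557) (.leaf 387))) (.node (.node (.leaf 1496) (.leaf 915)) (.leaf 1019))))) (.node (.node (.node (.node (.node (.leaf 1237) (.leaf 247)) (.node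 (.leaf 996) (.leaf 1025))) (.node (.node (.leaf 774) (.leaf 1134)) (.leaf 192))) (.node (.node (.node (.leaf 1312) (.leaf 193)) (.node (.leaf 1163) (.leaf 1135))) (.node (.node (.leaf 636) (.leaf 1753)) (.leaf 451)))) (.node (.node (.node (.node (.leaf 222) (.leaf 88)) (.node (.leaf 1317) (.leaf 1736))) (.node (.node (.leaf 937) (.leaf 1491)) (.leaf 726))) (.node (.node (.node (.leaf 1955) (.leaf 477)) (.node (.leaf 780) (.leaf 1957))) (.node (.node (.leaf 681) (.leaf 1253)) (.leaf 696)))))) (.node (.node (.node (.node (.node (.node (.leaf 2004) (.leaf 684)) (.node (.leaf 690) (.leaf 307))) (.node (.node (.leaf 1656) (.leaf 702)) (.leaf 1426))) (.node (.node (.node (.leaf 171) (.leaf 1663)) (.node (.leaf 1312) (.leaf 568))) (.node (.node (.leaf 935) (.leaf 1540)) (.leaf 1125)))) (.node (.node (.node (.node (.leaf 1714) (.leaf 1244)) (.node (.leaf 1941) (.leaf 118))) (.node (.node (.leaf 2003) (.leaf 1672)) (.leaf 691))) (.node (.node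 (.node (.leaf 967) (.leaf 1937)) (.node (.leaf 370) (.leaf 1456))) (.node (.node (.leaf 1541) (.leaf 2044)) (.leaf 1512))))) (.node (.node (.node (.node (.node (.leaf 645) (.leaf 1886)) (.node (.leaf 1167) (.leaf 1294))) (.node (.node (.leaf 1071) (.leaf 1524)) (.leaf 859))) (.node (.node (.node (.leaf 1061) (.leaf 1435)) (.node (.leaf 1244) (.leaf 656))) (.node (.node (.leaf 1203) (.leaf 115)) (.leaf 903)))) (.node (.node (.node (.node (.leaf 504) (.leaf 1390)) (.node (.leaf 1286) (.leaf 1273))) (.node (.node (.leaf 383) (.leaf 175)) (.leaf 641))) (.node (.node (.node (.leaf 1879) (.leaf 1347)) (.node (.leaf 866) (.leaf 1933))) (.node (.node (.leaf 214) (.leaf 1280)) (.leaf 1))))))) (.node (.node (.node (.node (.node (.node (.node (.leaf 1465) (.leaf 1211)) (.node (.leaf 1719) (.leaf 733))) (.node (.node (.leaf 1230) (.leaf 371)) (.leaf 1012))) (.node (.node (.node (.leaf 1781) (.leaf 1378)) (.node (.leaf 742) (.leaf 937))) (.node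 (.node (.leaf 1571) (.leaf 468)) (.leaf 21)))) (.node (.node (.node (.node (.leaf 1923) (.leaf 1152)) (.node (.leaf 1961) (.leaf 54))) (.node (.node (.leaf 120) (.leaf 239)) (.leaf 506))) (.node (.node (.node (.leaf 709) (.leaf 1818)) (.node (.leaf 1565) (.leaf 1118))) (.node (.node (.leaf 671) (.leaf 1764)) (.leaf 1494))))) (.node (.node (.node (.node (.node (.leaf 891) (.leaf 1842)) (.node (.leaf 79) (.leaf 1943))) (.node (.node (.leaf 1936) (.leaf 1077)) (.leaf 688))) (.node (.node (.node (.leaf 535) (.leaf 1943)) (.node (.leaf 624) (.leaf 651))) (.node (.node (.leaf 446) (.leaf 602)) (.leaf 2043)))) (.node (.node (.node (.node (.leaf 865) (.leaf 588)) (.node (.leaf 1721) (.leaf 27))) (.node (.node (.leaf 416) (.leaf 164)) (.leaf 816))) (.node (.node (.node (.leaf 1863) (.leaf 1406)) (.node (.leaf 1796) (.leaf 1764))) (.node (.node (.leaf 1277) (.leaf 231)) (.leaf 467)))))) (.node (.node (.node (.node (.node (.node (.leaf 554) (.leaf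 1434)) (.node (.leaf 603) (.leaf 1789))) (.node (.node (.leaf 135) (.leaf 1680)) (.leaf 398))) (.node (.node (.node (.leaf 851) (.leaf 1032)) (.node (.leaf 542) (.leaf 1279))) (.node (.node (.leaf 753) (.leaf 436)) (.leaf 334)))) (.node (.node (.node (.node (.leaf 1459) (.leaf 1145)) (.node (.leaf 952) (.leaf 10))) (.node (.node (.leaf 1152) (.leaf 1579)) (.leaf 678))) (.node (.node (.node (.leaf 1373) (.leaf 1698)) (.node (.leaf 909) (.leaf 1402))) (.node (.node (.leaf 61) (.leaf 1433)) (.leaf 1104))))) (.node (.node (.node (.node (.node (.leaf 1693) (.leaf 308)) (.node (.leaf 1491) (.leaf 802))) (.node (.node (.leaf 1100) (.leaf 1109)) (.leaf 1651))) (.node (.node (.node (.leaf 1251) (.leaf 1796)) (.node (.leaf 1826) (.leaf 1343))) (.node (.node (.leaf 43) (.leaf 1677)) (.leaf 649)))) (.node (.node (.node (.node (.leaf 1917) (.leaf 1884)) (.node (.leaf 638) (.leaf 1021))) (.node (.node (.leaf 766) (.leaf 1927)) (.leaf 300))) (.node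 (.node (.node (.leaf 1968) (.leaf 1875)) (.node (.leaf 1503) (.leaf 1736))) (.node (.node (.leaf 582) (.leaf 1448)) (.leaf 713))))))))) (.node (.node (.node (.node (.node (.node (.node (.node (.node (.leaf 1050) (.leaf 1411)) (.node (.leaf 46) (.leaf 275))) (.node (.node (.leaf 1805) (.leaf 454)) (.node (.leaf 1820) (.leaf 2052)))) (.node (.node (.node (.leaf 569) (.leaf 459)) (.node (.leaf 1596) (.leaf 1393))) (.node (.node (.leaf 1753) (.leaf 1708)) (.leaf 1632)))) (.node (.node (.node (.node (.leaf 392) (.leaf 1250)) (.node (.leaf 399) (.leaf 1608))) (.node (.node (.leaf 1596) (.leaf 1185)) (.leaf 1335))) (.node (.node (.node (.leaf 1626) (.leaf 1758)) (.node (.leaf 1351) (.leaf 1979))) (.node (.node (.leaf 521) (.leaf 369)) (.leaf 435))))) (.node (.node (.node (.node (.node (.leaf 1684) (.leaf 1211)) (.node (.leaf 1177) (.leaf 893))) (.node (.node (.leaf 925) (.leaf 1618)) (.leaf 918))) (.node (.node (.node (.leaf 227) (.leaf 682))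 (.node (.leaf 551) (.leaf 597))) (.node (.node (.leaf 1212) (.leaf 1334)) (.leaf 374)))) (.node (.node (.node (.node (.leaf 1989) (.leaf 43)) (.node (.leaf 300) (.leaf 323))) (.node (.node (.leaf 386) (.leaf 1673)) (.leaf 1966))) (.node (.node (.node (.leaf 405) (.leaf 1548)) (.node (.leaf 360) (.leaf 1695))) (.node (.node (.leaf 71) (.leaf 1060)) (.leaf 181)))))) (.node (.node (.node (.node (.node (.node (.leaf 2027) (.leaf 1781)) (.node (.leaf 1599) (.leaf 351))) (.node (.node (.leaf 12) (.leaf 1802)) (.leaf 1429))) (.node (.node (.node (.leaf 410) (.leaf 1339)) (.node (.leaf 1510) (.leaf 1924))) (.node (.node (.leaf 557) (.leaf 203)) (.leaf 1832)))) (.node (.node (.node (.node (.leaf 1461) (.leaf 1985)) (.node (.leaf 1819) (.leaf 70))) (.node (.node (.leaf 1670) (.leaf 278)) (.leaf 440))) (.node (.node (.node (.leaf 1495) (.leaf 1412)) (.node (.leaf 204) (.leaf 1259))) (.node (.node (.leaf 534) (.leaf 1299)) (.leaf 1678))))) (.node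 (.node (.node (.node (.node (.leaf 59) (.leaf 787)) (.node (.leaf 644) (.leaf 760))) (.node (.node (.leaf 596) (.leaf 1909)) (.leaf 499))) (.node (.node (.node (.leaf 1711) (.leaf 866)) (.node (.leaf 979) (.leaf 556))) (.node (.node (.leaf 442) (.leaf 1352)) (.leaf 576)))) (.node (.node (.node (.node (.leaf 1667) (.leaf 867)) (.node (.leaf 417) (.leaf 450))) (.node (.node (.leaf 1493) (.leaf 1692)) (.leaf 138))) (.node (.node (.node (.leaf 1558) (.leaf 1752)) (.node (.leaf 419) (.leaf 838))) (.node (.node (.leaf 154) (.leaf 455)) (.leaf 871))))))) (.node (.node (.node (.node (.node (.node (.node (.leaf 1776) (.leaf 1160)) (.node (.leaf 905) (.leaf 569))) (.node (.node (.leaf 470) (.leaf 828)) (.leaf 1238))) (.node (.node (.node (.leaf 614) (.leaf 1455)) (.node (.leaf 1397) (.leaf 1915))) (.node (.node (.leaf 1358) (.leaf 665)) (.leaf 1516)))) (.node (.node (.node (.node (.leaf 1756) (.leaf 143)) (.node (.leaf 527) (.leaf 450))) (.node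 (.node (.leaf 1162) (.leaf 2046)) (.leaf 1784))) (.node (.node (.node (.leaf 858) (.leaf 1806)) (.node (.leaf 1919) (.leaf 897))) (.node (.node (.leaf 1622) (.leaf 2015)) (.leaf 1988))))) (.node (.node (.node (.node (.node (.leaf 763) (.leaf 1163)) (.node (.leaf 617) (.leaf 243))) (.node (.node (.leaf 565) (.leaf 598)) (.leaf 1277))) (.node (.node (.node (.leaf 185) (.leaf 1115)) (.node (.leaf 1309) (.leaf 302))) (.node (.node (.leaf 1091) (.leaf 1218)) (.leaf 1527)))) (.node (.node (.node (.node (.leaf 271) (.leaf 1700)) (.node (.leaf 261) (.leaf 273))) (.node (.node (.leaf 1910) (.leaf 189)) (.leaf 2014))) (.node (.node (.node (.leaf 320) (.leaf 1654)) (.node (.leaf 1170) (.leaf 1640))) (.node (.node (.leaf 129) (.leaf 158)) (.leaf 1310)))))) (.node (.node (.node (.node (.node (.node (.leaf 1352) (.leaf 698)) (.node (.leaf 1866) (.leaf 1768))) (.node (.node (.leaf 351) (.leaf 1494)) (.leaf 262))) (.node (.node (.node (.leaf 359) (.leaf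 1020)) (.node (.leaf 1772) (.leaf 1766))) (.node (.node (.leaf 241) (.leaf 2024)) (.leaf 326)))) (.node (.node (.node (.node (.leaf 1535) (.leaf 665)) (.node (.leaf 610) (.leaf 266))) (.node (.node (.leaf 496) (.leaf 644)) (.leaf 1894))) (.node (.node (.node (.leaf 1628) (.leaf 1275)) (.node (.leaf 836) (.leaf 751))) (.node (.node (.leaf 543) (.leaf 98)) (.leaf 894))))) (.node (.node (.node (.node (.node (.leaf 10) (.leaf 92)) (.node (.leaf 159) (.leaf 1353))) (.node (.node (.leaf 1933) (.leaf 1531)) (.leaf 1871))) (.node (.node (.node (.leaf 1870) (.leaf 923)) (.node (.leaf 1588) (.leaf 1113))) (.node (.node (.leaf 1776) (.leaf 63)) (.leaf 754)))) (.node (.node (.node (.node (.leaf 1642) (.leaf 1164)) (.node (.leaf 249) (.leaf 823))) (.node (.node (.leaf 156) (.leaf 1541)) (.leaf 664))) (.node (.node (.node (.leaf 241) (.leaf 678)) (.node (.leaf 911) (.leaf 1307))) (.node (.node (.leaf 1211) (.leaf 392)) (.leaf 1162)))))))) (.node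 (.node (.node (.node (.node (.node (.node (.node (.leaf 1072) (.leaf 353)) (.node (.leaf 1415) (.leaf 134))) (.node (.node (.leaf 513) (.leaf 1747)) (.node (.leaf 253) (.leaf 1054)))) (.node (.node (.node (.leaf 547) (.leaf 155)) (.node (.leaf 1468) (.leaf 1981))) (.node (.node (.leaf 1096) (.leaf 573)) (.leaf 28)))) (.node (.node (.node (.node (.leaf 1327) (.leaf 597)) (.node (.leaf 369) (.leaf 1609))) (.node (.node (.leaf 1754) (.leaf 1415)) (.leaf 1670))) (.node (.node (.node (.leaf 1785) (.leaf 1035)) (.node (.leaf 1540) (.leaf 418))) (.node (.node (.leaf 1652) (.leaf 1691)) (.leaf 1192))))) (.node (.node (.node (.node (.node (.leaf 5) (.leaf 1458)) (.node (.leaf 1661) (.leaf 237))) (.node (.node (.leaf 696) (.leaf 963)) (.leaf 1151))) (.node (.node (.node (.leaf 1126) (.leaf 1824)) (.node (.leaf 776) (.leaf 1506))) (.node (.node (.leaf 518) (.leaf 1667)) (.leaf 1607)))) (.node (.node (.node (.node (.leaf 898) (.leaf 1614)) (.node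 (.leaf 344) (.leaf 2002))) (.node (.node (.leaf 990) (.leaf 2001)) (.leaf 628))) (.node (.node (.node (.leaf 1619) (.leaf 1858)) (.node (.leaf 1213) (.leaf 1807))) (.node (.node (.leaf 461) (.leaf 2044)) (.leaf 851)))))) (.node (.node (.node (.node (.node (.node (.leaf 27) (.leaf 1216)) (.node (.leaf 840) (.leaf 110))) (.node (.node (.leaf 77) (.leaf 1490)) (.leaf 1075))) (.node (.node (.node (.leaf 302) (.leaf 981)) (.node (.leaf 1523) (.leaf 905))) (.node (.node (.leaf 2044) (.leaf 1628)) (.leaf 1603)))) (.node (.node (.node (.node (.leaf 1111) (.leaf 1620)) (.node (.leaf 152) (.leaf 904))) (.node (.node (.leaf 1019) (.leaf 1960)) (.leaf 2041))) (.node (.node (.node (.leaf 1697) (.leaf 1628)) (.node (.leaf 1511) (.leaf 1874))) (.node (.node (.leaf 539) (.leaf 90)) (.leaf 596))))) (.node (.node (.node (.node (.node (.leaf 1682) (.leaf 1234)) (.node (.leaf 2054) (.leaf 1819))) (.node (.node (.leaf 1057) (.leaf 233)) (.leaf 305))) (.node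 (.node (.node (.leaf 173) (.leaf 511)) (.node (.leaf 795) (.leaf 1774))) (.node (.node (.leaf 958) (.leaf 1560)) (.leaf 220)))) (.node (.node (.node (.node (.leaf 1481) (.leaf 2043)) (.node (.leaf 758) (.leaf 1465))) (.node (.node (.leaf 1296) (.leaf 607)) (.leaf 1984))) (.node (.node (.node (.leaf 1078) (.leaf 372)) (.node (.leaf 904) (.leaf 1569))) (.node (.node (.leaf 1421) (.leaf 1132)) (.leaf 91))))))) (.node (.node (.node (.node (.node (.node (.node (.leaf 1351) (.leaf 1767)) (.node (.leaf 619) (.leaf 1791))) (.node (.node (.leaf 1544) (.leaf 706)) (.leaf 563))) (.node (.node (.node (.leaf 1588) (.leaf 1354)) (.node (.leaf 240) (.leaf 274))) (.node (.node (.leaf 2050) (.leaf 440)) (.leaf 21)))) (.node (.node (.node (.node (.leaf 91) (.leaf 22)) (.node (.leaf 604) (.leaf 372))) (.node (.node (.leaf 1179) (.leaf 1233)) (.leaf 1122))) (.node (.node (.node (.leaf 526) (.leaf 1000)) (.node (.leaf 915) (.leaf 18))) (.node (.node (.leaf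 1381) (.leaf 1278)) (.leaf 1032))))) (.node (.node (.node (.node (.node (.leaf 91) (.leaf 1309)) (.node (.leaf 1230) (.leaf 1860))) (.node (.node (.leaf 1938) (.leaf 498)) (.leaf 183))) (.node (.node (.node (.leaf 1939) (.leaf 713)) (.node (.leaf 749) (.leaf 2033))) (.node (.node (.leaf 146) (.leaf 889)) (.leaf 2054)))) (.node (.node (.node (.node (.leaf 1694) (.leaf 7)) (.node (.leaf 695) (.leaf 29))) (.node (.node (.leaf 177) (.leaf 1419)) (.leaf 1530))) (.node (.node (.node (.leaf 1518) (.leaf 135)) (.node (.leaf 939) (.leaf 407))) (.node (.node (.leaf 961) (.leaf 1168)) (.leaf 883)))))) (.node (.node (.node (.node (.node (.node (.leaf 533) (.leaf 444)) (.node (.leaf 1702) (.leaf 947))) (.node (.node (.leaf 324) (.leaf 738)) (.leaf 710))) (.node (.node (.node (.leaf 647) (.leaf 1142)) (.node (.leaf 1969) (.leaf 667))) (.node (.node (.leaf 1988) (.leaf 1966)) (.leaf 37)))) (.node (.node (.node (.node (.leaf 310) (.leaf 1935)) (.node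 (.leaf 1162) (.leaf 1959))) (.node (.node (.leaf 255) (.leaf 747)) (.leaf 1666))) (.node (.node (.node (.leaf 343) (.leaf 1292)) (.node (.leaf 811) (.leaf 829))) (.node (.node (.leaf 1243) (.leaf 1516)) (.leaf 325))))) (.node (.node (.node (.node (.node (.leaf 1331) (.leaf 1296)) (.node (.leaf 1464) (.leaf 8))) (.node (.node (.leaf 657) (.leaf 1768)) (.leaf 1149))) (.node (.node (.node (.leaf 1594) (.leaf 536)) (.node (.leaf 1423) (.leaf 1812))) (.node (.node (.leaf 1015) (.leaf 1693)) (.leaf 966)))) (.node (.node (.node (.node (.leaf 1422) (.leaf 1684)) (.node (.leaf 293) (.leaf 1959))) (.node (.node (.leaf 1603) (.leaf 1832)) (.leaf 1241))) (.node (.node (.node (.leaf 1946) (.leaf 73)) (.node (.leaf 1615) (.leaf 1346))) (.node (.node (.leaf 13) (.leaf 320)) (.leaf 854)))))))))))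

/-- Part of `ptImg`. -/
def ptImg7 : Tr := (.node (.node (.node (.node (.node (.node (.node (.node (.node (.node (.node (.leaf 1158) (.leaf 467)) (.node (.leaf 1393) (.leaf 1118))) (.node (.node (.leaf 1760) (.leaf 830)) (.node (.leaf 505) (.leaf 447)))) (.node (.node (.node (.leaf 1891) (.leaf 1218)) (.node (.leaf 1055) (.leaf 2045))) (.node (.node (.leaf 183) (.leaf 612)) (.leaf 1199)))) (.node (.node (.node (.node (.leaf 1682) (.leaf 88)) (.node (.leaf 1018) (.leaf 1976))) (.node (.node (.leaf 906) (.leaf 2057)) (.leaf 1334))) (.node (.node (.node (.leaf 642) (.leaf 1783)) (.node (.leaf 1485) (.leaf 526))) (.node (.node (.leaf 1469) (.leaf 1644)) (.leaf 1233))))) (.node (.node (.node (.node (.node (.leaf 1437) (.leaf 1070)) (.node (.leaf 1385) (.leaf 1324))) (.node (.node (.leaf 2047) (.leaf 1465)) (.leaf 1397))) (.node (.node (.node (.leaf 439) (.leaf 148)) (.node (.leaf 769) (.leaf 739))) (.node (.node (.leaf 546) (.leaf 1912))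 (.leaf 186)))) (.node (.node (.node (.node (.leaf 1774) (.leaf 1281)) (.node (.leaf 712) (.leaf 1043))) (.node (.node (.leaf 1687) (.leaf 395)) (.leaf 2039))) (.node (.node (.node (.leaf 414) (.leaf 338)) (.node (.leaf 473) (.leaf 1496))) (.node (.node (.leaf 1271) (.leaf 600)) (.leaf 1770)))))) (.node (.node (.node (.node (.node (.node (.leaf 1078) (.leaf 1323)) (.node (.leaf 834) (.leaf 110))) (.node (.node (.leaf 441) (.leaf 1053)) (.leaf 1676))) (.node (.node (.node (.leaf 1201) (.leaf 1903)) (.node (.leaf 1889) (.leaf 1377))) (.node (.node (.leaf 458) (.leaf 1346)) (.leaf 1918)))) (.node (.node (.node (.node (.leaf 1673) (.leaf 995)) (.node (.leaf 65) (.leaf 2007))) (.node (.node (.leaf 411) (.leaf 190)) (.leaf 970))) (.node (.node (.node (.leaf 802) (.leaf 1449)) (.node (.leaf 1896) (.leaf 119))) (.node (.node (.leaf 1392) (.leaf 1744)) (.leaf 267))))) (.node (.node (.node (.node (.node (.leaf 1532) (.leaf 1452)) (.node (.leaf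 1958) (.leaf 1586))) (.node (.node (.leaf 1650) (.leaf 818)) (.leaf 179))) (.node (.node (.node (.leaf 1970) (.leaf 650)) (.node (.leaf 1932) (.leaf 1957))) (.node (.node (.leaf 11) (.leaf 1952)) (.leaf 440)))) (.node (.node (.node (.node (.leaf 562) (.leaf 1306)) (.node (.leaf 1744) (.leaf 254))) (.node (.node (.leaf 789) (.leaf 1259)) (.leaf 1006))) (.node (.node (.node (.leaf 773) (.leaf 1738)) (.node (.leaf 1862) (.leaf 313))) (.node (.node (.leaf 6) (.leaf 1738)) (.leaf 1390))))))) (.node (.node (.node (.node (.node (.node (.node (.leaf 10) (.leaf 1002)) (.node (.leaf 1519) (.leaf 1355))) (.node (.node (.leaf 1951) (.leaf 1564)) (.leaf 1945))) (.node (.node (.node (.leaf 1885) (.leaf 1326)) (.node (.leaf 465) (.leaf 310))) (.node (.node (.leaf 1838) (.leaf 105)) (.leaf 1034)))) (.node (.node (.node (.node (.leaf 1627) (.leaf 734)) (.node (.leaf 1611) (.leaf 1150))) (.node (.node (.leaf 1260) (.leaf 151)) (.leaf 1592))) (.node (.node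 (.node (.leaf 572) (.leaf 1433)) (.node (.leaf 1688) (.leaf 1266))) (.node (.node (.leaf 184) (.leaf 697)) (.leaf 1065))))) (.node (.node (.node (.node (.node (.leaf 1218) (.leaf 606)) (.node (.leaf 779) (.leaf 1414))) (.node (.node (.leaf 1758) (.leaf 514)) (.leaf 1935))) (.node (.node (.node (.leaf 440) (.leaf 1363)) (.node (.leaf 778) (.leaf 1985))) (.node (.node (.leaf 772) (.leaf 768)) (.leaf 587)))) (.node (.node (.node (.node (.leaf 108) (.leaf 897)) (.node (.leaf 705) (.leaf 1460))) (.node (.node (.leaf 271) (.leaf 801)) (.leaf 1441))) (.node (.node (.node (.leaf 501) (.leaf 1250)) (.node (.leaf 180) (.leaf 853))) (.node (.node (.leaf 186) (.leaf 1729)) (.leaf 689)))))) (.node (.node (.node (.node (.node (.node (.leaf 2025) (.leaf 1852)) (.node (.leaf 1817) (.leaf 164))) (.node (.node (.leaf 923) (.leaf 822)) (.leaf 197))) (.node (.node (.node (.leaf 843) (.leaf 1312)) (.node (.leaf 609) (.leaf 253))) (.node (.node (.leaf 1171)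 (.leaf 581)) (.leaf 1555)))) (.node (.node (.node (.node (.leaf 1771) (.leaf 683)) (.node (.leaf 529) (.leaf 1349))) (.node (.node (.leaf 890) (.leaf 1529)) (.leaf 94))) (.node (.node (.node (.leaf 1312) (.leaf 1893)) (.node (.leaf 254) (.leaf 1973))) (.node (.node (.leaf 296) (.leaf 158)) (.leaf 68))))) (.node (.node (.node (.node (.node (.leaf 746) (.leaf 1985)) (.node (.leaf 781) (.leaf 794))) (.node (.node (.leaf 629) (.leaf 1732)) (.leaf 942))) (.node (.node (.node (.leaf 211) (.leaf 530)) (.node (.leaf 1193) (.leaf 991))) (.node (.node (.leaf 1774) (.leaf 360)) (.leaf 292)))) (.node (.node (.node (.node (.leaf 1008) (.leaf 1274)) (.node (.leaf 775) (.leaf 1807))) (.node (.node (.leaf 401) (.leaf 1073)) (.leaf 361))) (.node (.node (.node (.leaf 868) (.leaf 1408)) (.node (.leaf 1624) (.leaf 1658))) (.node (.node (.leaf 1385) (.leaf 1407)) (.leaf 379)))))))) (.node (.node (.node (.node (.node (.node (.node (.node (.leaf 133) (.leaf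 623)) (.node (.leaf 62) (.leaf 1044))) (.node (.node (.leaf 298) (.leaf 1746)) (.node (.leaf 269) (.leaf 678)))) (.node (.node (.node (.leaf 218) (.leaf 255)) (.node (.leaf 539) (.leaf 678))) (.node (.node (.leaf 1747) (.leaf 5)) (.leaf 248)))) (.node (.node (.node (.node (.leaf 499) (.leaf 954)) (.node (.leaf 289) (.leaf 797))) (.node (.node (.leaf 698) (.leaf 1040)) (.leaf 2030))) (.node (.node (.node (.leaf 1803) (.leaf 1582)) (.node (.leaf 1260) (.leaf 544))) (.node (.node (.leaf 969) (.leaf 1502)) (.leaf 1127))))) (.node (.node (.node (.node (.node (.leaf 1111) (.leaf 1498)) (.node (.leaf 937) (.leaf 340))) (.node (.node (.leaf 784) (.leaf 1664)) (.leaf 1574))) (.node (.node (.node (.leaf 1515) (.leaf 1701)) (.node (.leaf 1251) (.leaf 1368))) (.node (.node (.leaf 377) (.leaf 948)) (.leaf 519)))) (.node (.node (.node (.node (.leaf 814) (.leaf 1337)) (.node (.leaf 1025) (.leaf 1773))) (.node (.node (.leaf 1383) (.leaf 1676)) (.leaf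 993))) (.node (.node (.node (.leaf 1326) (.leaf 1431)) (.node (.leaf 321) (.leaf 2042))) (.node (.node (.leaf 403) (.leaf 1567)) (.leaf 1330)))))) (.node (.node (.node (.node (.node (.node (.leaf 1998) (.leaf 931)) (.node (.leaf 1785) (.leaf 1157))) (.node (.node (.leaf 743) (.leaf 667)) (.leaf 901))) (.node (.node (.node (.leaf 297) (.leaf 1559)) (.node (.leaf 755) (.leaf 1307))) (.node (.node (.leaf 369) (.leaf 501)) (.leaf 704)))) (.node (.node (.node (.node (.leaf 2023) (.leaf 2055)) (.node (.leaf 289) (.leaf 752))) (.node (.node (.leaf 272) (.leaf 363)) (.leaf 650))) (.node (.node (.node (.leaf 710) (.leaf 232)) (.node (.leaf 882) (.leaf 1932))) (.node (.node (.leaf 276) (.leaf 1225)) (.leaf 343))))) (.node (.node (.node (.node (.node (.leaf 2016) (.leaf 639)) (.node (.leaf 1547) (.leaf 1754))) (.node (.node (.leaf 203) (.leaf 448)) (.leaf 261))) (.node (.node (.node (.leaf 573) (.leaf 1921)) (.node (.leaf 1134) (.leaf 419))) (.node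 (.node (.leaf 936) (.leaf 1869)) (.leaf 327)))) (.node (.node (.node (.node (.leaf 5) (.leaf 34)) (.node (.leaf 657) (.leaf 883))) (.node (.node (.leaf 1799) (.leaf 488)) (.leaf 1658))) (.node (.node (.node (.leaf 1026) (.leaf 1216)) (.node (.leaf 125) (.leaf 1836))) (.node (.node (.leaf 1768) (.leaf 827)) (.leaf 1247))))))) (.node (.node (.node (.node (.node (.node (.node (.leaf 509) (.leaf 1763)) (.node (.leaf 126) (.leaf 716))) (.node (.node (.leaf 1780) (.leaf 1114)) (.leaf 1408))) (.node (.node (.node (.leaf 1978) (.leaf 504)) (.node (.leaf 309) (.leaf 210))) (.node (.node (.leaf 1304) (.leaf 160)) (.leaf 389)))) (.node (.node (.node (.node (.leaf 1296) (.leaf 108)) (.node (.leaf 1391) (.leaf 1920))) (.node (.node (.leaf 1819) (.leaf 190)) (.leaf 1346))) (.node (.node (.node (.leaf 1056) (.leaf 1706)) (.node (.leaf 319) (.leaf 1299))) (.node (.node (.leaf 1792) (.leaf 834)) (.leaf 511))))) (.node (.node (.node (.node (.node (.leaf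 1857) (.leaf 1535)) (.node (.leaf 250) (.leaf 1004))) (.node (.node (.leaf 910) (.leaf 1726)) (.leaf 1531))) (.node (.node (.node (.leaf 1305) (.leaf 1196)) (.node (.leaf 1369) (.leaf 1848))) (.node (.node (.leaf 1588) (.leaf 1799)) (.leaf 278)))) (.node (.node (.node (.node (.leaf 1141) (.leaf 922)) (.node (.leaf 1996) (.leaf 280))) (.node (.node (.leaf 268) (.leaf 1970)) (.leaf 826))) (.node (.node (.node (.leaf 1240) (.leaf 1407)) (.node (.leaf 1627) (.leaf 1662))) (.node (.node (.leaf 849) (.leaf 43)) (.leaf 1483)))))) (.node (.node (.node (.node (.node (.node (.leaf 1046) (.leaf 500)) (.node (.leaf 1600) (.leaf 249))) (.node (.node (.leaf 827) (.leaf 1305)) (.leaf 312))) (.node (.node (.node (.leaf 1145) (.leaf 1636)) (.node (.leaf 304) (.leaf 482))) (.node (.node (.leaf 471) (.leaf 399)) (.leaf 1498)))) (.node (.node (.node (.node (.leaf 270) (.leaf 1429)) (.node (.leaf 661) (.leaf 1688))) (.node (.node (.leaf 911) (.leaf 4))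 (.leaf 575))) (.node (.node (.node (.leaf 11) (.leaf 926)) (.node (.leaf 1400) (.leaf 1847))) (.node (.node (.leaf 8) (.leaf 672)) (.leaf 226))))) (.node (.node (.node (.node (.node (.leaf 1452) (.leaf 1301)) (.node (.leaf 1939) (.leaf 72))) (.node (.node (.leaf 194) (.leaf 166)) (.leaf 1214))) (.node (.node (.node (.leaf 960) (.leaf 674)) (.node (.leaf 1479) (.leaf 290))) (.node (.node (.leaf 1255) (.leaf 1119)) (.leaf 1448)))) (.node (.node (.node (.node (.leaf 1030) (.leaf 1818)) (.node (.leaf 1984) (.leaf 850))) (.node (.node (.leaf 1032) (.leaf 948)) (.leaf 545))) (.node (.node (.node (.leaf 1725) (.leaf 235)) (.node (.leaf 1036) (.leaf 946))) (.node (.node (.leaf 1637) (.leaf 166)) (.leaf 266))))))))) (.node (.node (.node (.node (.node (.node (.node (.node (.node (.leaf 129) (.leaf 147)) (.node (.leaf 1420) (.leaf 1305))) (.node (.node (.leaf 1116) (.leaf 282)) (.node (.leaf 92) (.leaf 856)))) (.node (.node (.node (.leaf 1145)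 (.leaf 242)) (.node (.leaf 606) (.leaf 235))) (.node (.node (.leaf 1544) (.leaf 954)) (.leaf 337)))) (.node (.node (.node (.node (.leaf 403) (.leaf 684)) (.node (.leaf 4) (.leaf 1411))) (.node (.node (.leaf 347) (.leaf 440)) (.leaf 175))) (.node (.node (.node (.leaf 1706) (.leaf 1906)) (.node (.leaf 1841) (.leaf 1914))) (.node (.node (.leaf 139) (.leaf 1834)) (.leaf 437))))) (.node (.node (.node (.node (.node (.leaf 641) (.leaf 44)) (.node (.leaf 597) (.leaf 304))) (.node (.node (.leaf 319) (.leaf 1084)) (.leaf 746))) (.node (.node (.node (.leaf 1311) (.leaf 244)) (.node (.leaf 1250) (.leaf 1074))) (.node (.node (.leaf 628) (.leaf 618)) (.leaf 1063)))) (.node (.node (.node (.node (.leaf 1195) (.leaf 1103)) (.node (.leaf 1294) (.leaf 394))) (.node (.node (.leaf 715) (.leaf 461)) (.leaf 1026))) (.node (.node (.node (.leaf 1889) (.leaf 297)) (.node (.leaf 1336) (.leaf 1714))) (.node (.node (.leaf 113) (.leaf 1049)) (.leaf 975)))))) (.node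 (.node (.node (.node (.node (.node (.leaf 1888) (.leaf 1610)) (.node (.leaf 734) (.leaf 221))) (.node (.node (.leaf 314) (.leaf 116)) (.leaf 1563))) (.node (.node (.node (.leaf 719) (.leaf 1975)) (.node (.leaf 1223) (.leaf 1101))) (.node (.node (.leaf 434) (.leaf 1378)) (.leaf 1469)))) (.node (.node (.node (.node (.leaf 1455) (.leaf 634)) (.node (.leaf 993) (.leaf 1191))) (.node (.node (.leaf 1776) (.leaf 1342)) (.leaf 1368))) (.node (.node (.node (.leaf 1470) (.leaf 462)) (.node (.leaf 1002) (.leaf 1138))) (.node (.node (.leaf 791) (.leaf 1925)) (.leaf 116))))) (.node (.node (.node (.node (.node (.leaf 1881) (.leaf 1187)) (.node (.leaf 1186) (.leaf 36))) (.node (.node (.leaf 1264) (.leaf 126)) (.leaf 1180))) (.node (.node (.node (.leaf 1936) (.leaf 1859)) (.node (.leaf 421) (.leaf 1864))) (.node (.node (.leaf 1911) (.leaf 132)) (.leaf 1442)))) (.node (.node (.node (.node (.leaf 1229) (.leaf 510)) (.node (.leaf 1471) (.leaf 1231)))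 (.node (.node (.leaf 1396) (.leaf 219)) (.leaf 1902))) (.node (.node (.node (.leaf 1010) (.leaf 1470)) (.node (.leaf 1668) (.leaf 1933))) (.node (.node (.leaf 1135) (.leaf 1635)) (.leaf 882))))))) (.node (.node (.node (.node (.node (.node (.node (.leaf 236) (.leaf 1178)) (.node (.leaf 1942) (.leaf 1062))) (.node (.node (.leaf 1491) (.leaf 1387)) (.leaf 394))) (.node (.node (.node (.leaf 1710) (.leaf 924)) (.node (.leaf 805) (.leaf 1978))) (.node (.node (.leaf 914) (.leaf 946)) (.leaf 201)))) (.node (.node (.node (.node (.leaf 868) (.leaf 319)) (.node (.leaf 1847) (.leaf 1710))) (.node (.node (.leaf 1811) (.leaf 113)) (.leaf 1508))) (.node (.node (.node (.leaf 531) (.leaf 1562)) (.node (.leaf 52) (.leaf 639))) (.node (.node (.leaf 1102) (.leaf 127)) (.leaf 338))))) (.node (.node (.node (.node (.node (.leaf 555) (.leaf 1698)) (.node (.leaf 1969) (.leaf 400))) (.node (.node (.leaf 341) (.leaf 1988)) (.leaf 1422))) (.node (.node (.node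 (.leaf 1240) (.leaf 765)) (.node (.leaf 1444) (.leaf 1950))) (.node (.node (.leaf 1524) (.leaf 1087)) (.leaf 1601)))) (.node (.node (.node (.node (.leaf 1027) (.leaf 1319)) (.node (.leaf 316) (.leaf 1877))) (.node (.node (.leaf 102) (.leaf 324)) (.leaf 1979))) (.node (.node (.node (.leaf 870) (.leaf 1978)) (.node (.leaf 2021) (.leaf 854))) (.node (.node (.leaf 770) (.leaf 1121)) (.leaf 1255)))))) (.node (.node (.node (.node (.node (.node (.leaf 1316) (.leaf 1205)) (.node (.leaf 1750) (.leaf 707))) (.node (.node (.leaf 622) (.leaf 78)) (.leaf 469))) (.node (.node (.node (.leaf 957) (.leaf 760)) (.node (.leaf 780) (.leaf 1179))) (.node (.node (.leaf 1392) (.leaf 654)) (.leaf 87)))) (.node (.node (.node (.node (.leaf 1141) (.leaf 1308)) (.node (.leaf 1754) (.leaf 1161))) (.node (.node (.leaf 709) (.leaf 950)) (.leaf 189))) (.node (.node (.node (.leaf 1976) (.leaf 588)) (.node (.leaf 560) (.leaf 671))) (.node (.node (.leaf 1819) (.leaf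 1035)) (.leaf 1721))))) (.node (.node (.node (.node (.node (.leaf 1746) (.leaf 1749)) (.node (.leaf 1594) (.leaf 1522))) (.node (.node (.leaf 395) (.leaf 1169)) (.leaf 299))) (.node (.node (.node (.leaf 944) (.leaf 407)) (.node (.leaf 1609) (.leaf 997))) (.node (.node (.leaf 63) (.leaf 231)) (.leaf 1247)))) (.node (.node (.node (.node (.leaf 103) (.leaf 812)) (.node (.leaf 516) (.leaf 194))) (.node (.node (.leaf 570) (.leaf 1035)) (.leaf 1018))) (.node (.node (.node (.leaf 131) (.leaf 430)) (.node (.leaf 2012) (.leaf 1470))) (.node (.node (.leaf 727) (.leaf 1237)) (.leaf 239)))))))) (.node (.node (.node (.node (.node (.node (.node (.node (.leaf 1298) (.leaf 417)) (.node (.leaf 1671) (.leaf 1634))) (.node (.node (.leaf 1021) (.leaf 376)) (.node (.leaf 673) (.leaf 207)))) (.node (.node (.node (.leaf 571) (.leaf 965)) (.node (.leaf 1939) (.leaf 348))) (.node (.node (.leaf 1125) (.leaf 790)) (.leaf 1706)))) (.node (.node (.node (.node (.leaf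 81) (.leaf 717)) (.node (.leaf 666) (.leaf 891))) (.node (.node (.leaf 713) (.leaf 1329)) (.leaf 1133))) (.node (.node (.node (.leaf 1969) (.leaf 1491)) (.node (.leaf 1450) (.leaf 1115))) (.node (.node (.leaf 1423) (.leaf 1185)) (.leaf 1943))))) (.node (.node (.node (.node (.node (.leaf 1286) (.leaf 1548)) (.node (.leaf 357) (.leaf 674))) (.node (.node (.leaf 474) (.leaf 1566)) (.leaf 1391))) (.node (.node (.node (.leaf 1550) (.leaf 1361)) (.node (.leaf 1616) (.leaf 1932))) (.node (.node (.leaf 137) (.leaf 703)) (.leaf 217)))) (.node (.node (.node (.node (.leaf 1139) (.leaf 186)) (.node (.leaf 1487) (.leaf 57))) (.node (.node (.leaf 1227) (.leaf 1030)) (.leaf 1123))) (.node (.node (.node (.leaf 1361) (.leaf 1261)) (.node (.leaf 1996) (.leaf 439))) (.node (.node (.leaf 2018) (.leaf 1083)) (.leaf 1482)))))) (.node (.node (.node (.node (.node (.node (.leaf 2021) (.leaf 778)) (.node (.leaf 1694) (.leaf 349))) (.node (.node (.leaf 1477)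 (.leaf 1489)) (.leaf 364))) (.node (.node (.node (.leaf 830) (.leaf 1557)) (.node (.leaf 475) (.leaf 1595))) (.node (.node (.leaf 741) (.leaf 715)) (.leaf 620)))) (.node (.node (.node (.node (.leaf 1854) (.leaf 1269)) (.node (.leaf 213) (.leaf 416))) (.node (.node (.leaf 132) (.leaf 1402)) (.leaf 566))) (.node (.node (.node (.leaf 1959) (.leaf 1544)) (.node (.leaf 183) (.leaf 140))) (.node (.node (.leaf 538) (.leaf 1613)) (.leaf 995))))) (.node (.node (.node (.node (.node (.leaf 590) (.leaf 1554)) (.node (.leaf 972) (.leaf 1208))) (.node (.node (.leaf 721) (.leaf 1931)) (.leaf 1013))) (.node (.node (.node (.leaf 195) (.leaf 118)) (.node (.leaf 794) (.leaf 51))) (.node (.node (.leaf 907) (.leaf 800)) (.leaf 1812)))) (.node (.node (.node (.node (.leaf 193) (.leaf 1656)) (.node (.leaf 843) (.leaf 147))) (.node (.node (.leaf 502) (.leaf 971)) (.leaf 1905))) (.node (.node (.node (.leaf 1466) (.leaf 2032)) (.node (.leaf 2) (.leaf 274))) (.node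 (.node (.leaf 1979) (.leaf 1108)) (.leaf 1958))))))) (.node (.node (.node (.node (.node (.node (.node (.leaf 1363) (.leaf 386)) (.node (.leaf 663) (.leaf 53))) (.node (.node (.leaf 2033) (.leaf 1476)) (.leaf 1869))) (.node (.node (.node (.leaf 1454) (.leaf 532)) (.node (.leaf 2026) (.leaf 1687))) (.node (.node (.leaf 1549) (.leaf 252)) (.leaf 1041)))) (.node (.node (.node (.node (.leaf 2007) (.leaf 1348)) (.node (.leaf 1486) (.leaf 1609))) (.node (.node (.leaf 1799) (.leaf 1068)) (.leaf 746))) (.node (.node (.node (.leaf 12) (.leaf 816)) (.node (.leaf 550) (.leaf 1728))) (.node (.node (.leaf 1247) (.leaf 660)) (.leaf 909))))) (.node (.node (.node (.node (.node (.leaf 223) (.leaf 331)) (.node (.leaf 1830) (.leaf 1809))) (.node (.node (.leaf 869) (.leaf 1037)) (.leaf 1518))) (.node (.node (.node (.leaf 1269) (.leaf 373)) (.node (.leaf 1918) (.leaf 1082))) (.node (.node (.leaf 907) (.leaf 1285)) (.leaf 1077)))) (.node (.node (.node (.node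 (.leaf 815) (.leaf 15)) (.node (.leaf 1136) (.leaf 1882))) (.node (.node (.leaf 1557) (.leaf 553)) (.leaf 1103))) (.node (.node (.node (.leaf 1878) (.leaf 1443)) (.node (.leaf 604) (.leaf 1882))) (.node (.node (.leaf 342) (.leaf 625)) (.leaf 1838)))))) (.node (.node (.node (.node (.node (.node (.leaf 1030) (.leaf 1971)) (.node (.leaf 1912) (.leaf 148))) (.node (.node (.leaf 557) (.leaf 661)) (.leaf 725))) (.node (.node (.node (.leaf 446) (.leaf 808)) (.node (.leaf 545) (.leaf 719))) (.node (.node (.leaf 995) (.leaf 1234)) (.leaf 455)))) (.node (.node (.node (.node (.leaf 1355) (.leaf 422)) (.node (.leaf 499) (.leaf 329))) (.node (.node (.leaf 956) (.leaf 568)) (.leaf 364))) (.node (.node (.node (.leaf 755) (.leaf 962)) (.node (.leaf 1321) (.leaf 66))) (.node (.node (.leaf 538) (.leaf 1438)) (.leaf 1059))))) (.node (.node (.node (.node (.node (.leaf 552) (.leaf 87)) (.node (.leaf 1193) (.leaf 1504))) (.node (.node (.leaf 731) (.leaf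 1387)) (.leaf 1723))) (.node (.node (.node (.leaf 739) (.leaf 953)) (.node (.leaf 130) (.leaf 1183))) (.node (.node (.leaf 1753) (.leaf 1048)) (.leaf 270)))) (.node (.node (.node (.node (.leaf 1767) (.leaf 2006)) (.node (.leaf 1090) (.leaf 841))) (.node (.node (.leaf 1416) (.leaf 77)) (.leaf 902))) (.node (.node (.node (.leaf 916) (.leaf 564)) (.node (.leaf 1350) (.leaf 631))) (.node (.node (.leaf 1966) (.leaf 1064)) (.leaf 822)))))))))) (.node (.node (.node (.node (.node (.node (.node (.node (.node (.node (.leaf 33) (.leaf 347)) (.node (.leaf 886) (.leaf 1041))) (.node (.node (.leaf 1916) (.leaf 1756)) (.node (.leaf 1813) (.leaf 264)))) (.node (.node (.node (.leaf 1795) (.leaf 347)) (.node (.leaf 323) (.leaf 1335))) (.node (.node (.leaf 155) (.leaf 870)) (.leaf 1173)))) (.node (.node (.node (.node (.leaf 1842) (.leaf 776)) (.node (.leaf 2053) (.leaf 638))) (.node (.node (.leaf 101) (.leaf 557)) (.leaf 1388))) (.node (.node (.node (.leaf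 1553) (.leaf 1996)) (.node (.leaf 1323) (.leaf 888))) (.node (.node (.leaf 1649) (.leaf 40)) (.leaf 1319))))) (.node (.node (.node (.node (.node (.leaf 491) (.leaf 752)) (.node (.leaf 1175) (.leaf 1714))) (.node (.node (.leaf 1413) (.leaf 1613)) (.leaf 864))) (.node (.node (.node (.leaf 167) (.leaf 288)) (.node (.leaf 1490) (.leaf 1556))) (.node (.node (.leaf 442) (.leaf 1081)) (.leaf 861)))) (.node (.node (.node (.node (.leaf 1534) (.leaf 1235)) (.node (.leaf 1692) (.leaf 905))) (.node (.node (.leaf 1221) (.leaf 627)) (.leaf 1866))) (.node (.node (.node (.leaf 1406) (.leaf 1070)) (.node (.leaf 1290) (.leaf 60))) (.node (.node (.leaf 867) (.leaf 1043)) (.leaf 1944)))))) (.node (.node (.node (.node (.node (.node (.leaf 900) (.leaf 978)) (.node (.leaf 1566) (.leaf 1450))) (.node (.node (.leaf 1487) (.leaf 938)) (.leaf 5))) (.node (.node (.node (.leaf 256) (.leaf 1102)) (.node (.leaf 2027) (.leaf 34))) (.node (.node (.leaf 459) (.leaf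 1216)) (.leaf 552)))) (.node (.node (.node (.node (.leaf 521) (.leaf 565)) (.node (.leaf 1148) (.leaf 1504))) (.node (.node (.leaf 406) (.leaf 1940)) (.leaf 1595))) (.node (.node (.node (.leaf 1626) (.leaf 1388)) (.node (.leaf 1189) (.leaf 634))) (.node (.node (.leaf 241) (.leaf 1543)) (.leaf 159))))) (.node (.node (.node (.node (.node (.leaf 1873) (.leaf 1579)) (.node (.leaf 616) (.leaf 1019))) (.node (.node (.leaf 1781) (.leaf 1080)) (.leaf 856))) (.node (.node (.node (.leaf 1499) (.leaf 1550)) (.node (.leaf 1195) (.leaf 233))) (.node (.node (.leaf 219) (.leaf 987)) (.leaf 1174)))) (.node (.node (.node (.node (.leaf 776) (.leaf 1923)) (.node (.leaf 1635) (.leaf 2042))) (.node (.node (.leaf 1278) (.leaf 879)) (.leaf 281))) (.node (.node (.node (.leaf 789) (.leaf 188)) (.node (.leaf 25) (.leaf 4))) (.node (.node (.leaf 420) (.leaf 213)) (.leaf 1139))))))) (.node (.node (.node (.node (.node (.node (.node (.leaf 2040) (.leaf 59)) (.node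 (.leaf 275) (.leaf 1452))) (.node (.node (.leaf 810) (.leaf 359)) (.leaf 810))) (.node (.node (.node (.leaf 104) (.leaf 453)) (.node (.leaf 64) (.leaf 316))) (.node (.node (.leaf 1384) (.leaf 1808)) (.leaf 1603)))) (.node (.node (.node (.node (.leaf 554) (.leaf 1946)) (.node (.leaf 1919) (.leaf 326))) (.node (.node (.leaf 481) (.leaf 476)) (.leaf 965))) (.node (.node (.node (.leaf 371) (.leaf 1773)) (.node (.leaf 1790) (.leaf 134))) (.node (.node (.leaf 401) (.leaf 70)) (.leaf 191))))) (.node (.node (.node (.node (.node (.leaf 457) (.leaf 1659)) (.node (.leaf 415) (.leaf 1803))) (.node (.node (.leaf 880) (.leaf 609)) (.leaf 1868))) (.node (.node (.node (.leaf 362) (.leaf 1093)) (.node (.leaf 1640) (.leaf 696))) (.node (.node (.leaf 329) (.leaf 2054)) (.leaf 354)))) (.node (.node (.node (.node (.leaf 846) (.leaf 1551)) (.node (.leaf 318) (.leaf 1793))) (.node (.node (.leaf 562) (.leaf 38)) (.leaf 993))) (.node (.node (.node (.leaf 1194)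 (.leaf 37)) (.node (.leaf 1568) (.leaf 1258))) (.node (.node (.leaf 764) (.leaf 607)) (.leaf 991)))))) (.node (.node (.node (.node (.node (.node (.leaf 29) (.leaf 1860)) (.node (.leaf 159) (.leaf 609))) (.node (.node (.leaf 322) (.leaf 577)) (.leaf 73))) (.node (.node (.node (.leaf 781) (.leaf 1425)) (.node (.leaf 1712) (.leaf 127))) (.node (.node (.leaf 1538) (.leaf 205)) (.leaf 1138)))) (.node (.node (.node (.node (.leaf 414) (.leaf 1890)) (.node (.leaf 1174) (.leaf 1435))) (.node (.node (.leaf 366) (.leaf 215)) (.leaf 649))) (.node (.node (.node (.leaf 1379) (.leaf 1098)) (.node (.leaf 17) (.leaf 131))) (.node (.node (.leaf 945) (.leaf 342)) (.leaf 191))))) (.node (.node (.node (.node (.node (.leaf 2010) (.leaf 283)) (.node (.leaf 1655) (.leaf 1690))) (.node (.node (.leaf 1324) (.leaf 66)) (.leaf 1963))) (.node (.node (.node (.leaf 1616) (.leaf 1781)) (.node (.leaf 445) (.leaf 1194))) (.node (.node (.leaf 1274) (.leaf 1929)) (.leaf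 730)))) (.node (.node (.node (.node (.leaf 515) (.leaf 440)) (.node (.leaf 1543) (.leaf 2031))) (.node (.node (.leaf 1787) (.leaf 1483)) (.leaf 1600))) (.node (.node (.node (.leaf 34) (.leaf 537)) (.node (.leaf 880) (.leaf 978))) (.node (.node (.leaf 1429) (.leaf 1206)) (.leaf 1220)))))))) (.node (.node (.node (.node (.node (.node (.node (.node (.leaf 711) (.leaf 626)) (.node (.leaf 729) (.leaf 789))) (.node (.node (.leaf 1672) (.leaf 1045)) (.node (.leaf 1201) (.leaf 763)))) (.node (.node (.node (.leaf 171) (.leaf 2029)) (.node (.leaf 1499) (.leaf 1689))) (.node (.node (.leaf 797) (.leaf 133)) (.leaf 142)))) (.node (.node (.node (.node (.leaf 944) (.leaf 94)) (.node (.leaf 1620) (.leaf 314))) (.node (.node (.leaf 1453) (.leaf 1720)) (.leaf 383))) (.node (.node (.node (.leaf 1130) (.leaf 1888)) (.node (.leaf 1850) (.leaf 1910))) (.node (.node (.leaf 1476) (.leaf 1908)) (.leaf 81))))) (.node (.node (.node (.node (.node (.leaf 1284) (.leaf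 427)) (.node (.leaf 1930) (.leaf 1274))) (.node (.node (.leaf 106) (.leaf 1947)) (.leaf 1011))) (.node (.node (.node (.leaf 981) (.leaf 1055)) (.node (.leaf 335) (.leaf 226))) (.node (.node (.leaf 189) (.leaf 1035)) (.leaf 1324)))) (.node (.node (.node (.node (.leaf 1484) (.leaf 719)) (.node (.leaf 1092) (.leaf 1211))) (.node (.node (.leaf 1759) (.leaf 1227)) (.leaf 1267))) (.node (.node (.node (.leaf 1360) (.leaf 212)) (.node (.leaf 1638) (.leaf 1063))) (.node (.node (.leaf 1233) (.leaf 663)) (.leaf 1608)))))) (.node (.node (.node (.node (.node (.node (.leaf 1181) (.leaf 1292)) (.node (.leaf 1105) (.leaf 1599))) (.node (.node (.leaf 1651) (.leaf 601)) (.leaf 1022))) (.node (.node (.node (.leaf 1044) (.leaf 1257)) (.node (.leaf 457) (.leaf 539))) (.node (.node (.leaf 1153) (.leaf 489)) (.leaf 781)))) (.node (.node (.node (.node (.leaf 1265) (.leaf 999)) (.node (.leaf 1600) (.leaf 800))) (.node (.node (.leaf 1177) (.leaf 535)) (.leaf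 445))) (.node (.node (.node (.leaf 1356) (.leaf 48)) (.node (.leaf 426) (.leaf 1899))) (.node (.node (.leaf 1538) (.leaf 1135)) (.leaf 1122))))) (.node (.node (.node (.node (.node (.leaf 455) (.leaf 222)) (.node (.leaf 373) (.leaf 1630))) (.node (.node (.leaf 1740) (.leaf 1906)) (.leaf 567))) (.node (.node (.node (.leaf 2055) (.leaf 1630)) (.node (.leaf 1730) (.leaf 363))) (.node (.node (.leaf 623) (.leaf 959)) (.leaf 761)))) (.node (.node (.node (.node (.leaf 589) (.leaf 1319)) (.node (.leaf 167) (.leaf 638))) (.node (.node (.leaf 850) (.leaf 1137)) (.leaf 893))) (.node (.node (.node (.leaf 1214) (.leaf 527)) (.node (.leaf 866) (.leaf 640))) (.node (.node (.leaf 72) (.leaf 1468)) (.leaf 1564))))))) (.node (.node (.node (.node (.node (.node (.node (.leaf 1826) (.leaf 1221)) (.node (.leaf 617) (.leaf 1455))) (.node (.node (.leaf 719) (.leaf 641)) (.leaf 1681))) (.node (.node (.node (.leaf 1534) (.leaf 979)) (.node (.leaf 1572) (.leaf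 1450))) (.node (.node (.leaf 1172) (.leaf 903)) (.leaf 333)))) (.node (.node (.node (.node (.leaf 2009) (.leaf 1259)) (.node (.leaf 1386) (.leaf 658))) (.node (.node (.leaf 729) (.leaf 53)) (.leaf 676))) (.node (.node (.node (.leaf 1459) (.leaf 121)) (.node (.leaf 230) (.leaf 1684))) (.node (.node (.leaf 1451) (.leaf 85)) (.leaf 1970))))) (.node (.node (.node (.node (.node (.leaf 1696) (.leaf 443)) (.node (.leaf 254) (.leaf 191))) (.node (.node (.leaf 456) (.leaf 582)) (.leaf 488))) (.node (.node (.node (.leaf 551) (.leaf 782)) (.node (.leaf 796) (.leaf 1189))) (.node (.node (.leaf 491) (.leaf 630)) (.leaf 1161)))) (.node (.node (.node (.node (.leaf 1258) (.leaf 1286)) (.node (.leaf 1204) (.leaf 137))) (.node (.node (.leaf 1454) (.leaf 783)) (.leaf 562))) (.node (.node (.node (.leaf 473) (.leaf 1082)) (.node (.leaf 2006) (.leaf 903))) (.node (.node (.leaf 738) (.leaf 1498)) (.leaf 950)))))) (.node (.node (.node (.node (.node (.node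 (.leaf 1922) (.leaf 1210)) (.node (.leaf 619) (.leaf 722))) (.node (.node (.leaf 1055) (.leaf 1116)) (.leaf 872))) (.node (.node (.node (.leaf 686) (.leaf 1640)) (.node (.leaf 1365) (.leaf 1776))) (.node (.node (.leaf 473) (.leaf 1722)) (.leaf 1055)))) (.node (.node (.node (.node (.leaf 16) (.leaf 1871)) (.node (.leaf 480) (.leaf 1192))) (.node (.node (.leaf 446) (.leaf 1397)) (.leaf 1716))) (.node (.node (.node (.leaf 886) (.leaf 519)) (.node (.leaf 706) (.leaf 89))) (.node (.node (.leaf 1638) (.leaf 1993)) (.leaf 466))))) (.node (.node (.node (.node (.node (.leaf 226) (.leaf 350)) (.node (.leaf 115) (.leaf 1120))) (.node (.node (.leaf 1963) (.leaf 431)) (.leaf 1605))) (.node (.node (.node (.leaf 1463) (.leaf 1475)) (.node (.leaf 690) (.leaf 453))) (.node (.node (.leaf 972) (.leaf 725)) (.leaf 1235)))) (.node (.node (.node (.node (.leaf 1256) (.leaf 1447)) (.node (.leaf 1443) (.leaf 680))) (.node (.node (.leaf 1051) (.leaf 553)) (.leaf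 606))) (.node (.node (.node (.leaf 301) (.leaf 39)) (.node (.leaf 437) (.leaf 158))) (.node (.node (.leaf 582) (.leaf 1404)) (.leaf 1167))))))))) (.node (.node (.node (.node (.node (.node (.node (.node (.node (.leaf 355) (.leaf 1209)) (.node (.leaf 1802) (.leaf 1030))) (.node (.node (.leaf 1428) (.leaf 1467)) (.node (.leaf 1182) (.leaf 2052)))) (.node (.node (.node (.leaf 104) (.leaf 1460)) (.node (.leaf 838) (.leaf 1081))) (.node (.node (.leaf 2010) (.leaf 1501)) (.leaf 1160)))) (.node (.node (.node (.node (.leaf 1675) (.leaf 0)) (.node (.leaf 1048) (.leaf 1499))) (.node (.node (.leaf 483) (.leaf 813)) (.leaf 955))) (.node (.node (.node (.leaf 1164) (.leaf 1961)) (.node (.leaf 563) (.leaf 1823))) (.node (.node (.leaf 1249) (.leaf 1994)) (.leaf 303))))) (.node (.node (.node (.node (.node (.leaf 19) (.leaf 580)) (.node (.leaf 1278) (.leaf 138))) (.node (.node (.leaf 1113) (.leaf 498)) (.leaf 1699))) (.node (.node (.node (.leaf 1031)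 (.leaf 580)) (.node (.leaf 1360) (.leaf 1140))) (.node (.node (.leaf 1253) (.leaf 1155)) (.leaf 379)))) (.node (.node (.node (.node (.leaf 269) (.leaf 786)) (.node (.leaf 210) (.leaf 1669))) (.node (.node (.leaf 623) (.leaf 1154)) (.leaf 1364))) (.node (.node (.node (.leaf 565) (.leaf 1007)) (.node (.leaf 1936) (.leaf 1637))) (.node (.node (.leaf 553) (.leaf 1723)) (.leaf 1141)))))) (.node (.node (.node (.node (.node (.node (.leaf 1544) (.leaf 657)) (.node (.leaf 517) (.leaf 1778))) (.node (.node (.leaf 1880) (.leaf 805)) (.leaf 20))) (.node (.node (.node (.leaf 174) (.leaf 2018)) (.node (.leaf 902) (.leaf 1121))) (.node (.node (.leaf 1867) (.leaf 220)) (.leaf 2048)))) (.node (.node (.node (.node (.leaf 924) (.leaf 847)) (.node (.leaf 915) (.leaf 245))) (.node (.node (.leaf 2021) (.leaf 875)) (.leaf 1608))) (.node (.node (.node (.leaf 1116) (.leaf 990)) (.node (.leaf 827) (.leaf 1024))) (.node (.node (.leaf 1877) (.leaf 1844)) (.leaf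 1132))))) (.node (.node (.node (.node (.node (.leaf 416) (.leaf 2055)) (.node (.leaf 289) (.leaf 562))) (.node (.node (.leaf 1881) (.leaf 862)) (.leaf 768))) (.node (.node (.node (.leaf 1539) (.leaf 1034)) (.node (.leaf 101) (.leaf 674))) (.node (.node (.leaf 1349) (.leaf 1323)) (.leaf 1144)))) (.node (.node (.node (.node (.leaf 1752) (.leaf 821)) (.node (.leaf 275) (.leaf 1198))) (.node (.node (.leaf 425) (.leaf 971)) (.leaf 1010))) (.node (.node (.node (.leaf 1066) (.leaf 1409)) (.node (.leaf 708) (.leaf 1582))) (.node (.node (.leaf 950) (.leaf 810)) (.leaf 266))))))) (.node (.node (.node (.node (.node (.node (.node (.leaf 1933) (.leaf 1520)) (.node (.leaf 968) (.leaf 1028))) (.node (.node (.leaf 1885) (.leaf 641)) (.leaf 52))) (.node (.node (.node (.leaf 416) (.leaf 327)) (.node (.leaf 967) (.leaf 1449))) (.node (.node (.leaf 431) (.leaf 1708)) (.leaf 1439)))) (.node (.node (.node (.node (.leaf 1058) (.leaf 398)) (.node (.leaf 816)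 (.leaf 1301))) (.node (.node (.leaf 663) (.leaf 1985)) (.leaf 215))) (.node (.node (.node (.leaf 1478) (.leaf 918)) (.node (.leaf 421) (.leaf 475))) (.node (.node (.leaf 1102) (.leaf 348)) (.leaf 930))))) (.node (.node (.node (.node (.node (.leaf 1750) (.leaf 914)) (.node (.leaf 1759) (.leaf 1517))) (.node (.node (.leaf 455) (.leaf 499)) (.leaf 322))) (.node (.node (.node (.leaf 439) (.leaf 146)) (.node (.leaf 1140) (.leaf 544))) (.node (.node (.leaf 1228) (.leaf 613)) (.leaf 1017)))) (.node (.node (.node (.node (.leaf 830) (.leaf 1278)) (.node (.leaf 708) (.leaf 1467))) (.node (.node (.leaf 1453) (.leaf 1487)) (.leaf 480))) (.node (.node (.node (.leaf 839) (.leaf 1348)) (.node (.leaf 1170) (.leaf 1267))) (.node (.node (.leaf 1356) (.leaf 603)) (.leaf 1810)))))) (.node (.node (.node (.node (.node (.node (.leaf 1028) (.leaf 520)) (.node (.leaf 601) (.leaf 1329))) (.node (.node (.leaf 688) (.leaf 1494)) (.leaf 838))) (.node (.node (.node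 (.leaf 1472) (.leaf 1260)) (.node (.leaf 1952) (.leaf 13))) (.node (.node (.leaf 557) (.leaf 1268)) (.leaf 1359)))) (.node (.node (.node (.node (.leaf 1024) (.leaf 986)) (.node (.leaf 802) (.leaf 1810))) (.node (.node (.leaf 743) (.leaf 325)) (.leaf 250))) (.node (.node (.node (.leaf 720) (.leaf 952)) (.node (.leaf 1714) (.leaf 1911))) (.node (.node (.leaf 1515) (.leaf 1794)) (.leaf 1752))))) (.node (.node (.node (.node (.node (.leaf 1995) (.leaf 234)) (.node (.leaf 1542) (.leaf 1765))) (.node (.node (.leaf 1161) (.leaf 143)) (.leaf 157))) (.node (.node (.node (.leaf 1436) (.leaf 577)) (.node (.leaf 697) (.leaf 202))) (.node (.node (.leaf 498) (.leaf 1745)) (.leaf 507)))) (.node (.node (.node (.node (.leaf 105) (.leaf 1648)) (.node (.leaf 1379) (.leaf 423))) (.node (.node (.leaf 1045) (.leaf 1896)) (.leaf 615))) (.node (.node (.node (.leaf 1147) (.leaf 1272)) (.node (.leaf 907) (.leaf 1076))) (.node (.node (.leaf 643) (.leaf 81)) (.leaf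 990)))))))) (.node (.node (.node (.node (.node (.node (.node (.node (.leaf 1085) (.leaf 104)) (.node (.leaf 1084) (.leaf 726))) (.node (.node (.leaf 362) (.leaf 1609)) (.node (.leaf 1940) (.leaf 1537)))) (.node (.node (.node (.leaf 155) (.leaf 299)) (.node (.leaf 911) (.leaf 415))) (.node (.node (.leaf 74) (.leaf 1558)) (.leaf 468)))) (.node (.node (.node (.node (.leaf 1153) (.leaf 1365)) (.node (.leaf 1601) (.leaf 716))) (.node (.node (.leaf 689) (.leaf 458)) (.leaf 1491))) (.node (.node (.node (.leaf 1803) (.leaf 1713)) (.node (.leaf 816) (.leaf 1188))) (.node (.node (.leaf 925) (.leaf 181)) (.leaf 111))))) (.node (.node (.node (.node (.node (.leaf 1242) (.leaf 763)) (.node (.leaf 2000) (.leaf 1539))) (.node (.node (.leaf 1727) (.leaf 1892)) (.leaf 121))) (.node (.node (.node (.leaf 1807) (.leaf 1184)) (.node (.leaf 797) (.leaf 1908))) (.node (.node (.leaf 1016) (.leaf 1439)) (.leaf 1772)))) (.node (.node (.node (.node (.leaf 800)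 (.leaf 1603)) (.node (.leaf 1569) (.leaf 140))) (.node (.node (.leaf 289) (.leaf 423)) (.leaf 303))) (.node (.node (.node (.leaf 1294) (.leaf 1452)) (.node (.leaf 1898) (.leaf 1745))) (.node (.node (.leaf 287) (.leaf 338)) (.leaf 860)))))) (.node (.node (.node (.node (.node (.node (.leaf 770) (.leaf 1099)) (.node (.leaf 1215) (.leaf 672))) (.node (.node (.leaf 1255) (.leaf 770)) (.leaf 538))) (.node (.node (.node (.leaf 432) (.leaf 1501)) (.node (.leaf 1689) (.leaf 1929))) (.node (.node (.leaf 466) (.leaf 2024)) (.leaf 384)))) (.node (.node (.node (.node (.leaf 1363) (.leaf 632)) (.node (.leaf 1900) (.leaf 437))) (.node (.node (.leaf 1834) (.leaf 899)) (.leaf 397))) (.node (.node (.node (.leaf 640) (.leaf 731)) (.node (.leaf 930) (.leaf 92))) (.node (.node (.leaf 1172) (.leaf 1709)) (.leaf 1955))))) (.node (.node (.node (.node (.node (.leaf 226) (.leaf 1089)) (.node (.leaf 1280) (.leaf 1999))) (.node (.node (.leaf 890) (.leaf 1660))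 (.leaf 366))) (.node (.node (.node (.leaf 221) (.leaf 3)) (.node (.leaf 1236) (.leaf 778))) (.node (.node (.leaf 1674) (.leaf 1583)) (.leaf 1833)))) (.node (.node (.node (.node (.leaf 1881) (.leaf 450)) (.node (.leaf 900) (.leaf 1508))) (.node (.node (.leaf 783) (.leaf 490)) (.leaf 1801))) (.node (.node (.node (.leaf 283) (.leaf 1951)) (.node (.leaf 284) (.leaf 1936))) (.node (.node (.leaf 983) (.leaf 972)) (.leaf 361))))))) (.node (.node (.node (.node (.node (.node (.node (.leaf 1907) (.leaf 1227)) (.node (.leaf 1710) (.leaf 1436))) (.node (.node (.leaf 2027) (.leaf 1481)) (.leaf 233))) (.node (.node (.node (.leaf 1880) (.leaf 651)) (.node (.leaf 1104) (.leaf 818))) (.node (.node (.leaf 908) (.leaf 83)) (.leaf 396)))) (.node (.node (.node (.node (.leaf 1528) (.leaf 28)) (.node (.leaf 6) (.leaf 1777))) (.node (.node (.leaf 1420) (.leaf 1568)) (.leaf 969))) (.node (.node (.node (.leaf 237) (.leaf 995)) (.node (.leaf 681) (.leaf 807)))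 (.node (.node (.leaf 1865) (.leaf 1293)) (.leaf 525))))) (.node (.node (.node (.node (.node (.leaf 1520) (.leaf 396)) (.node (.leaf 1760) (.leaf 609))) (.node (.node (.leaf 481) (.leaf 1805)) (.leaf 2019))) (.node (.node (.node (.leaf 197) (.leaf 1446)) (.node (.leaf 1942) (.leaf 1775))) (.node (.node (.leaf 1156) (.leaf 196)) (.leaf 1433)))) (.node (.node (.node (.node (.leaf 542) (.leaf 658)) (.node (.leaf 373) (.leaf 1883))) (.node (.node (.leaf 1710) (.leaf 1570)) (.leaf 49))) (.node (.node (.node (.leaf 1967) (.leaf 780)) (.node (.leaf 752) (.leaf 417))) (.node (.node (.leaf 977) (.leaf 1514)) (.leaf 450)))))) (.node (.node (.node (.node (.node (.node (.leaf 1278) (.leaf 732)) (.node (.leaf 2040) (.leaf 1430))) (.node (.node (.leaf 329) (.leaf 203)) (.leaf 989))) (.node (.node (.node (.leaf 1896) (.leaf 1823)) (.node (.leaf 1262) (.leaf 347))) (.node (.node (.leaf 1469) (.leaf 1707)) (.leaf 1120)))) (.node (.node (.node (.node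 (.leaf 1067) (.leaf 285)) (.node (.leaf 279) (.leaf 1865))) (.node (.node (.leaf 368) (.leaf 1279)) (.leaf 1914))) (.node (.node (.node (.leaf 402) (.leaf 1492)) (.node (.leaf 536) (.leaf 502))) (.node (.node (.leaf 548) (.leaf 1424)) (.leaf 1674))))) (.node (.node (.node (.node (.node (.leaf 552) (.leaf 548)) (.node (.leaf 1298) (.leaf 1843))) (.node (.node (.leaf 770) (.leaf 104)) (.leaf 1566))) (.node (.node (.node (.leaf 1016) (.leaf 152)) (.node (.leaf 1218) (.leaf 1272))) (.node (.node (.leaf 1111) (.leaf 74)) (.leaf 511)))) (.node (.node (.node (.node (.leaf 1640) (.leaf 1301)) (.node (.leaf 1457) (.leaf 1540))) (.node (.node (.leaf 1289) (.leaf 676)) (.leaf 131))) (.node (.node (.node (.leaf 1089) (.leaf 2033)) (.node (.leaf 1780) (.leaf 742))) (.node (.node (.leaf 585) (.leaf 1561)) (.leaf 1353)))))))))))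

/-- Images under the generators. -/
def ptImg : Tr := (.node (.node (.node ptImg0 ptImg4) (.node ptImg2 ptImg6)) (.node (.node ptImg1 ptImg5) (.node ptImg3 ptImg7)))

/-- The base vector. -/
def baseVec : ℕ := 0x7fe19395f5539

/-- Its index. -/
def baseIdx : ℕ := 2052

/-- The points fixed by the involution. -/
def fixIdx : List ℕ := [29, 80, 200, 298, 419, 473, 512, 517, 543, 548, 582, 678, 708, 803, 842, 987, 1122, 1272, 1283, 1375, 1446, 1458, 1512, 1523, 1537, 1563, 1606, 1639, 1666, 1728, 1789, 1792, 1847, 1877, 1883, 1915, 1960, 1962, 2013, 2022, 2052, 2057]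

/-- Words of elements fixing the base vector. -/
def stabWords : List (List ℕ) := [
    [0],
    [2],
    [3],
    [4],
    [5],
    [0, 1, 0, 1],
    [1, 0, 1, 0],
    [1, 2, 3, 4, 1, 2, 3, 4, 1, 2, 3, 4, 1, 2, 3, 4, 1, 2, 3, 4, 1, 2, 3, 4, 1, 2, 3, 4],
    [4, 3, 2, 1, 4, 3, 2, 1, 4, 3, 2, 1, 4, 3, 2, 1, 4, 3, 2, 1, 4, 3, 2, 1, 4, 3, 2, 1]]

/-- Their matrices. -/
def stabTab : List ℕ := [
    0x995613dc15ba56a6c1cf28ec66ae277d87ea927edfe7c6187b9dae9b7cd8bbca40c188823509ce0ee366be49d1b72952fd29680f8ad5088b4517800d4c7daa2a2ecce60ec25417ab434d10d4cc4bc108532d8bb6a683ba2b9ace6602ac25a8017e4946e9a80319b86f385ffc4a8b14c47f92c703e02f6bd634e39cc03dd8af5a80301bbc3d1097a01ce3d8c12d393d89966b664cd23256f3af9038c2e2c5f5b6d1fc3f828ed14dcd28336cfb4d98951833efd0c1b453f71c32bebd681a11808cb4eb549bc76ea205d8960e54cb2d274e06affcf37331a05236ff5b8799116358cdb8da5a0a6f9c832794d3328e4149ca1ed3cda7b30291c8fc6810a6a6f5eb971c2809944d61c94688536cae588bb0f6f320009f6218340a0000000000101b6f6d13b43b974de812340d4896c2ddaf4aaa8f3efea43608b01b2ca6440bc7026558713d06f,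
    0x1f69b469d66a665ee881df19ef6c3a9e12ccb122128f10f53b346b7ea1a126a8f43ed12644f33ff3c1b87c09b0a5752eaa48907b934ec3314e4042b409e5f75c588e8c0c9fd7b533fb1fedf8c0241082bc70d508c14bd2e6b3ad1ac6f385c61658f57fe310f26791a2c8e0697f0aae3b119191005e408e9908ba19e127baa4173b2214a877b783510831749b19b1b4dc368ddb0326c049299fe247ca80c4cc307c6736362a4f0217a5b3260b0b11f302cfac72c6d08c8e976d72c7fdcd265c1315428dbb7ad7d03eb19c9f08c3de8ba20080ddad486055a49f6225f758767a731c9f8498880b57fc570948fe9a4d9e9f0396d846f82ed2e9c669367a7ac92154e68d1810ea093be4d647cbda21199e1b9a51444b0837f5e4259c042562286929cd002d3ac6a1cf9d31be3cc20cca09a0044f39a86a9d77e5e89ca8db7de66935a2ec02a7f9f,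
    0x56d2292215b97a54848b1b8f3137782217362e719c621d22a813ae96129abc35d6542f837496b44d188c4b1338fe6266655ac8d2dee2537c0289f7d476f42fd1a4ea74f3e422f7e17b26f0be1a7b6ed5a13852e18bf6e64b45f2a5a5f041491db67707d1f6b883c88f4d8ca14db6d3954ff92ae9db5b686d20a305179ca19774b4899f14feb95dc40291099fb96d3167796ee551932ade91afb04ed20afcdd3269cb1aab7efb39dd3cb9e0a01fd53387fc7612cc6a10a22a102cab908904f036b8ea06f1c2ef3d568b41e674ec6cff1ceeb6915a1274ea53e4a6f0fa235b02557d6b34beadcbd69c3fb485e9be3e82dbf00632db9e6ad668465b76bf94e07dbeb30c78be6d2ddba39af14e70b53a496479aed8e107323167108292fda9e04196dcf912790477ac7c261ce2e6586c43992ed901aebad5d20e20a580a98bc3a76f5dcded7302,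
    0x107d47e38e941d285e2af425d4ef7408bd45a010983878872af8d073471e9be4b837b64012aae1fe338a7f70600c7a9168d81e86442299ba014a3514b92170a8214372c7e19c06ab1d4cee022cce902adf5c6cbb825515c84d1a21be205fdaaaa314bfdc9af9d1a3f6ce62929ad6d3ad9c60a904db2009e90947ca01c0599f095280d0cb1c50db31841eaeb54613263755df53c2b67aa956b6e856e0cd48d63662f6bfb9478d7da0a65305a7e9c27aea2217863cb02ef787033ba46bdeb5241949b7fe66d50bc1d3d700ae02156849afdf225a7dc3222f2920e28889255ddfa358e1d3e598697fe12292ffe99725a67defedb0c6f9e992c05c11736bc17e56a4eae232782445aa319e4097da641b0f1502b885944f1928f74709e9455ccbb85de05539772eba5421b625823622bbcbcca3e743f7d5123f912cf415eed5f001e6626e9497ff2,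
    0xf9e914262c9d06947c375880bebba3ced91f34195025c03aa0dc2751b5dae16ec62ef9290f977b58a00306fe53b49381bdcaf56e9fa5f1282ea391fc36ef0792af4c7cc12a9d690a773a1610d8cfcc564323cadc869ac7eddcc457a47d1d44aea2432b2bbc7e545d976ddfedac9c3be7979a971d9c7b5657787a8fbfe5f4a576920bf97829053442822df4474826a577d30524b423bceae7bd442f79ab7940756b5762ce968c90b653eb043f5f6fbe970a94eb6e12b83fff3e1b028391ad6d3e06e1dcf85a72dbeadb8a9908a986539e22f224633f658e3b58204aa4b35fd89f9ff2ab5ce96000015e16f9e50001288b86580564a1021ee480ac973990e6a108b3cce4fb8ae5665f66545db5bdc15c1d9b12df1d0182eeb9508292fda9e1419ff3fe903f154ae874508fd2ee2af236ecd84d01add5d4b472a1174acdcb7fd4a0e265864d47,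
    0x19a9e99f11b91278e15a5c208424afd8b6318c2a31cf4ddee81bbb12da9e98d2da49f9a427e52474762b51eb9dddf265d5b0deb4adb14ef13c565614a09966e81a4913eb22ac82658bea8c2b8dc631c47e994c730969def93a9710d37884631dae1333db970cf20af5bbbbdf44ff86681a241862acf3fa99e238770f7a4a69ba39cae269262044792fdb85a8e82d609323cc9eddb6f6999c3fcf730078b35325b1738d5f13abeeb529b7fc92736e92d73fa5df07d2657f4ed5a8279dd78063b63f013c22b3d169bfe737b05d4c754f7b88d40a4a74fc528690cdd51e4407fcd0136a030a9a38e3864ae06542ed406122f41be6dcacf9f426c72676c5401a22e36c00ea6d9ce675aecee816f3a4ea39cb0d2767e0a7cacdc92af197d57dfa9a452a51e4ad400772f168067f8832df82c4a9af8fc14f923a1b9804da80c205fc3df4774bfa30f,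
    0x19a9e99f11b91278e15a5c208424afd8b6318c2a31cf4ddee81bbb12da9e98d2da49f9a427e52474762b51eb9dddf265d5b0deb4adb14ef13c565614a09966e81a4913eb22ac82658bea8c2b8dc631c47e994c730969def93a9710d37884631dae1333db970cf20af5bbbbdf44ff86681a241862acf3fa99e238770f7a4a69ba39cae269262044792fdb85a8e82d609323cc9eddb6f6999c3fcf730078b35325b1738d5f13abeeb529b7fc92736e92d73fa5df07d2657f4ed5a8279dd78063b63f013c22b3d169bfe737b05d4c754f7b88d40a4a74fc528690cdd51e4407fcd0136a030a9a38e3864ae06542ed406122f41be6dcacf9f426c72676c5401a22e36c00ea6d9ce675aecee816f3a4ea39cb0d2767e0a7cacdc92af197d57dfa9a452a51e4ad400772f168067f8832df82c4a9af8fc14f923a1b9804da80c205fc3df4774bfa30f,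
    0x49a0faf5e4aa36b35504aebdf504d3fbe40cdb602506bf7af6b3d54a989fcf31cda8dcf854870ced88c04c22df1add2437c0126547adc4a81a8a099f88c8497964b2fc8a3cf72cbc85a57518ab24dcd424443da449e3078bf29f0f7aaad3cde7120ba1b04b6471dc23988afe95fac59c50ccfc893ac1f9fdd1598c2d8db5bb10e9d0f49c74409633550898b6a42c339fbf5b6795535148817a5cfb98e8849d8d59530ab2ddc5edd9a76cd60894fa55ac3be51c4e99587db116424eab0ccf41a0f5cf09461275b8c2090e69b377f15d7b56c1a9f5371826fb99ec1cc4b17bc03fa1e2c3bfa566a9ec8effdaca63f040a97f060b6555c0268b7e348ca5fc11a04de49c6253b300888cc4135f72a0eb8e79f03472ef3ffe2da8000000000417f91e28ebc3595b437d275cf0429c407bce6be94cd98613cd1898d50dd671e233112683e90a08fb,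
    0x1ca4262bbfd1b86771cea3c7fe50cb57a22000141a92db3a1d7881c090de0e7beec405189299bac869ccb02579296f83e821105c693db94383b60b4eb760095f1d84e29fa5c3497b73a197fb8ea57dc1cd7135596da9570c3d7216a38655a057994838af4f1430df547f283f6561c918d7f3d3c799cf267a4831a4dd3433fb9d2d85457abebec4889abfe81cbb6ae1b4ab221048fab1dd6091e6ca27e026cce122c6661beeb6fcbb835241e27c8389bccd19454d36580ec666a8c32372e4b0a263d530b9764078aae39f3e1c928876e31dbcdf649adb6292ad36ff5b87991167d77b097e7fa00d9653220483becf1b497814c002567f4c7c7ca58ce4b2ed52068b2faf43141c422400175b2312a78a30ef75b1116693733c220000003172ef815704bf5a95dc82180a359521a7c78f08bbb44d1d0d45f73718df39069e90ad826558713d06f]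

/-- The positions of their inverses. -/
def stabInv : List ℕ := [0, 1, 2, 3, 4, 5, 5, 8, 7]

/-- The test vector. -/
def testVec : ℕ := 0x80000

/-- Test values with their words, part 0. -/
def cj0 : List (ℕ × List ℕ) := [(0x89e2a, [3, 2, 7, 4, 2, 1, 3, 2]), (0x8df02, [3, 2, 8, 4, 2, 1, 2, 1, 5]), (0x2ea9d3, [1, 2, 1, 4, 8]), (0x2ee0d5, [1, 2, 4, 2, 5, 1, 8]), (0x52afe2, [1, 2, 4, 5, 1, 2, 8]), (0x52c856, [1, 2, 4, 2, 1, 2, 8]), (0x7cebf3, [1, 3, 4, 2, 8]), (0x7dab89, [1, 2, 8]), (0x831aeb, [1, 3, 8, 4, 2, 8]), (0x87c354, [1, 8, 4, 2]), (0x8ad2fb, [3, 7, 4, 2, 1, 2, 8]), (0x932a8a, [1, 2, 8, 4, 2, 1, 8, 4, 2]), (0xef07a5, [1, 8, 4, 2, 1, 8, 4, 2, 8]), (0xf268dd, [1, 7, 4, 2, 7]), (0xf7b418, [3, 4, 7, 4, 2, 1, 2]), (0xff37c0, [1, 3, 4, 8, 4, 2]), (0x1055db7, [1, 2, 1, 8, 4, 2, 8]), (0x114587e, [1, 2, 5, 7, 4, 2, 1, 2, 8]), (0x1196e02, [1, 4, 2, 7, 4, 2, 1, 2, 8]), (0x12be17a, [1, 2, 1, 4, 8, 4, 2]), (0x13b1f33, [1, 2, 4, 5, 7, 4, 2,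 1, 2]), (0x13f5111, [1, 2, 4, 2, 7, 4, 2, 1, 2]), (0x153fba5, [1, 3, 4, 2, 1, 7, 4, 8]), (0x175dd52, [1, 2, 4, 2, 5, 1, 7, 4]), (0x187f12c, [1, 2, 5, 1, 8, 4, 2, 8]), (0x19f2515, [1, 2, 7, 4, 2, 1, 2, 8]), (0x1ac20a5, [1, 2, 4, 2, 1, 8, 4, 2]), (0x1cc687b, [1, 2, 4, 7, 4, 2, 1, 2]), (0x1d4d7e4, [1, 2, 4, 5, 1, 8, 4, 2]), (0x1f77b49, [1, 4, 2, 1, 8, 4, 2, 8]), (0xd754dd78f, [1, 3, 4, 2, 8, 4, 2, 8]), (0xd75b67930, [1, 4, 2, 3, 8, 4, 2, 8]), (0xe62b466f47, [1, 2, 5, 8, 4, 2, 8]), (0x206ab3e71ff, [1, 4, 7, 4, 2, 1, 3, 2]), (0x5e029fbba2c, [1, 2, 3, 2, 4, 2, 3]), (0x5f5f5251560, [1, 2, 5, 8, 4, 2, 3]), (0x7a11a0d1f9a, [1, 3, 7, 4, 2]), (0x7ae23bfe6b7, [1, 2, 4, 2, 1, 2, 7, 4, 8]), (0xb28c1a75dce, [1, 2, 4, 7, 4, 2]), (0xbacee3a5856, [1, 2, 1, 3, 8, 4, 2, 1, 3, 7]), (0xe0d860e1f1b, [1, 2, 5, 7]), (0xe439171d635, [1, 7, 4, 2, 1]), (0xe659d3c8344, [1, 2, 3, 7, 4, 2, 1, 7, 4]), (0xf1df8b24b10, [1, 2, 3, 7, 4, 2]), (0x105205131ec7, [1, 2, 4,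 5, 7, 4, 2]), (0x1214f28fdba5, [3, 7, 4, 2, 1, 2, 1, 4, 5]), (0x1355dc40d504, [1, 4, 2, 7, 4, 2, 1, 2, 3]), (0x1455c0be0f28, [1, 7, 4, 2, 1, 2, 5, 8, 4]), (0x16d06497142b, [3, 7, 4, 2, 1, 3]), (0x17a9a13794d2, [1, 2, 1, 7, 4, 2, 7]), (0x1c0bee6aecfd, [1, 2, 1, 2, 7, 4, 2, 1, 2, 8]), (0x1cb59e638b7f, [1, 4, 2]), (0x1db495559e3f, [1, 2, 1, 5, 7, 4, 2, 3, 8]), (0x1ea4be9c3582, [1, 4, 2, 3, 7]), (0x1f7ca97fd6f2, [1, 2, 3, 2, 7, 4, 2, 7, 4]), (0x21fe889c0076, [1, 2, 4, 2, 1, 2, 5, 7]), (0x2361921a151f, [1, 2, 3, 4, 8, 4, 2, 1, 2]), (0x23dd8a97d537, [1, 2, 1, 5, 8, 4, 2, 3, 7]), (0x2697f00ff119, [1, 3, 4, 8, 4, 2, 3]), (0x2848da130297, [1, 2, 3, 4, 7, 4, 2]), (0x285d943eeaf9, [1, 2, 1, 7, 4, 8]), (0x2861055892b0, [1, 2, 1, 7, 4, 2, 1, 2, 3, 4]), (0x2a239393e41b, [1, 2, 1, 2, 5, 8, 4, 2, 1]), (0x2b0fe6581822, [1, 2, 4, 8, 4, 2, 3])]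

/-- Test values with their words, part 1. -/
def cj1 : List (ℕ × List ℕ) := [(0x2c052665176b, [1, 8, 4, 2, 1, 3, 2, 1, 4]), (0x2d35137977c9, [1, 3, 4, 2, 7, 4]), (0x2d5bf33fc543, [1, 2, 3, 2, 4, 2, 3, 8]), (0x2ddbcb989393, [1, 8, 4, 2, 3, 7, 4, 8]), (0x2df8e9e3db50, [1, 4, 2, 7, 4, 2, 1, 3]), (0x2ef2115a8dcc, [1, 3, 7, 4, 2, 7]), (0x2fb581ee9d49, [1, 4, 2, 7]), (0x2fd10c174dca, [3, 7, 4, 2, 1, 2, 1, 5]), (0x3487c84f8e2d, [1, 2, 4, 2, 7]), (0x3601c40bb8be, [1, 2, 1, 2, 7, 4, 2, 7]), (0x37d4372e9408, [1, 3, 4, 2, 1, 8, 4]), (0x384fea344a47, [1, 3, 7, 4, 2, 3, 8, 4, 7]), (0x3953e3937755, [1, 2, 4, 2, 1, 3, 7, 4]), (0x3965417dece5, [1, 2, 1, 7, 4, 2, 1, 2, 1, 8]), (0x3aa0da12eeea, [1, 2, 1, 3, 7, 4, 2, 1, 2, 8]), (0x3c275fd59e4f, [1, 2, 8, 4, 2, 1, 3, 7, 4]), (0x4116b86e9545, [1, 2, 8, 4, 2, 1, 2, 3, 5]), (0x41a1017ecdde, [1, 3, 4, 7]), (0x41b62f443b77, [1, 2, 4, 2, 1, 3]), (0x41fe0c2dc181, [1, 3, 8, 4, 2, 1, 2, 7]), (0x42e0e8096df7, [1,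 7, 4, 2, 3, 8, 4, 2, 8]), (0x44add8ea8db2, [1, 3, 8, 4, 2, 1, 8, 4, 2]), (0x4651070bb1a8, [1, 2, 3, 2, 8, 4, 7]), (0x4a3a8eb78f32, [1, 4, 2, 3, 8, 4, 7]), (0x4bc4cf16aea2, [1, 2, 3, 2]), (0x4bf5df3cd406, [3, 7, 4, 2]), (0x4bf7952d62de, [1, 2, 4, 8, 4]), (0x4c433ac68f5d, [1, 7, 4, 2, 1, 2, 3, 4, 2]), (0x4d8ef5f95903, [1, 2, 1, 7, 4, 2, 3]), (0x4dcb4ae2c9c8, [1, 2, 4, 2, 3, 7, 4, 2, 3]), (0x50fa8456a967, [1, 8, 4, 2, 1, 2]), (0x5318b83d8693, [1, 2, 4, 5, 1, 2, 7, 4]), (0x53f38f3c7621, [1, 4, 2, 1, 5, 7, 4, 2, 7]), (0x551834adc723, [1, 4, 2, 7, 4, 2, 1, 2, 4]), (0x565f0a799ee8, [1, 2, 1, 3, 7, 4, 2, 1, 3, 8]), (0x5b345d4ff34a, [3, 2, 7, 4, 2, 1, 2, 1, 4]), (0x5c9f7d3cda64, [1, 4, 8, 4, 2, 1, 5]), (0x5cbb95678486, [1, 7, 4, 2, 3, 8]), (0x5cc97dae8ee5, [1, 3, 4, 7, 4, 2, 1, 2, 3]), (0x5d5215b196fb, [1, 2, 4, 2, 3, 7, 4]), (0x5ddde73194ba, [1, 2, 1, 4, 5, 8]), (0x5fd8baae0ffb, [1, 7, 4, 2, 1, 2, 5, 1]), (0x61863dd115e0, [1, 8, 4, 2, 1, 3,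 2, 4]), (0x62ce4368e7b9, [1, 4, 2, 3]), (0x645d9c898e2a, [1, 2, 1, 7, 4, 2, 1, 2, 3, 5]), (0x6af61d8fb338, [1, 3, 8, 4, 2, 8, 4]), (0x6bbd72821786, [1, 2, 1, 5, 7, 4, 2, 7]), (0x6f3f79f9d39e, [1, 2, 1, 2, 8, 4, 2, 1, 2, 1]), (0x702ba08f5bfb, [1, 2, 1, 3, 4, 8, 4, 2, 1, 3]), (0x71bc0270bd14, [1, 2, 1, 3, 4, 2, 8, 4, 2]), (0x75a7b8585419, [3, 8, 4, 7]), (0x76e6131a3f69, [1, 3, 4, 2, 3, 8, 4, 2, 8]), (0x77b3b0966c93, [1, 4, 2, 1, 5, 8, 4, 2, 8]), (0x77fc568fe50a, [3, 4, 8]), (0x7a87727f457e, [1, 2, 1, 3, 4, 2, 7, 4, 2]), (0x7b8ad9452aa5, [1, 2, 4, 5, 1, 8]), (0x7d7f2aa2c765, [1, 4, 2, 1, 8, 4, 2, 1, 2]), (0x7d8b7a23fdff, [1, 2, 8, 4, 2, 1, 2, 1, 7]), (0x7edfa01d943e, [1, 2, 3, 2, 4, 2, 1, 2, 8]), (0x80400b77a690, [1, 8, 4, 2, 1, 3, 7, 4, 8]), (0x825a155856d9, [1, 3, 4, 8]), (0x839aa4ca8b90, [1, 2, 1, 8, 4, 2, 3, 7]), (0x83d573cc70e3, [1, 3, 4, 2, 7, 4, 2, 1, 2]), (0x840febfc62ac, [1, 2, 4, 2, 1])]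

/-- Test values with their words, part 2. -/
def cj2 : List (ℕ × List ℕ) := [(0x8464c9f99004, [1, 2, 8, 4, 2, 1, 5]), (0x86b03d159941, [1, 2, 3, 8, 4, 2, 8, 4, 7]), (0x87f192759869, [1, 2, 3, 4, 2, 1, 3, 7]), (0x89fe22e83bc2, [1, 4, 2, 7, 4, 2, 1, 2, 5]), (0x8ac74d41dd03, [1, 3, 7, 4, 2, 1, 2, 3, 4]), (0x8bac14b03e17, [3, 2, 7, 4, 2, 7]), (0x8cfab2a8e37e, [4]), (0x8e027cf9aaa0, [1, 2, 3, 2, 8, 4, 2, 8, 4]), (0x8e783d09a876, [1, 2, 3, 8, 4, 2, 1, 3, 7]), (0x91e58401f321, [1, 2, 5, 1, 7, 4, 2]), (0x92a1342dded8, [1, 2, 8, 4, 2, 1, 2, 4]), (0x9447fa0f5372, [3, 2, 7, 4, 2, 1, 7]), (0x94f2b7815662, [1, 2, 1, 3, 7, 4, 2, 1, 5]), (0x954d87ee82ab, [1, 3, 4, 2, 1, 8, 4, 7]), (0x96133a6508c8, [1, 7, 4, 2]), (0x97b16f154c94, [1, 2, 5, 1, 7, 4, 2, 7]), (0x9906722353d0, [1, 8, 4, 2, 1, 3, 7, 4]), (0x9c698ecffcc1, [1, 2, 1, 4, 8, 4, 2, 1, 2, 3]), (0x9ec8b7510188, [1, 2, 1, 3, 8, 4, 2, 3, 7, 4]), (0xa1a8760ad04c, [1, 3, 7, 4, 2, 1, 2, 1, 3]), (0xa281f9504758,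 [1, 8, 4, 2, 1, 8, 4]), (0xa28a1c6a9238, [1, 2, 3, 2, 7, 4, 8]), (0xa33e539b7603, [1, 2, 1, 2, 7, 4, 2, 3, 8, 4]), (0xa375f94a3511, [1, 2, 3, 2, 4, 8, 4, 2, 1]), (0xa40801f0a4b9, [3, 2, 8, 4]), (0xa443fa372d31, [1, 2, 4, 2, 1, 2, 8, 4]), (0xa81247dddc4a, [1, 2, 1, 5, 7, 4, 2, 1]), (0xa8d203f24d49, [1, 4, 2, 1, 8, 4, 2, 1]), (0xa9c55e39ca62, [1, 3, 8, 4, 2, 3, 7]), (0xaa7b12cf2555, [1, 2, 7, 4, 2, 1, 7, 4]), (0xac961c2ef723, [3, 7, 4, 2, 1, 2, 1, 3]), (0xacae2d0b138d, [1, 2, 3, 4, 2, 3, 7, 4, 2]), (0xacca16f96969, [1, 2, 8, 4, 2, 1, 8]), (0xad03e9621dd2, [1, 2, 1, 2, 5, 7, 4, 2, 7]), (0xad9365816433, [1, 2, 1, 3, 4]), (0xafdbc34668e5, [1, 2, 3, 4, 2]), (0xb03d690613b1, [1, 4, 2, 8, 4, 2, 1, 3, 2]), (0xb043b9999aaa, [1, 2, 7, 4, 2, 1, 3, 2, 4]), (0xb1f882298b3f, [1, 2, 1, 7, 4, 2, 1, 2, 3]), (0xb2184c2aa4e8, [3, 7, 4, 2, 1]), (0xb371b5fc2c95, [1, 3, 4, 2, 1]), (0xb3d38eb6fdae, [1, 2, 3, 2, 4, 2, 1]), (0xb57dbdc23dc3, [1, 2, 1, 5, 8, 4,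 2, 3, 7, 4]), (0xb738ca34e55a, [1, 7, 4, 2, 1, 3, 2]), (0xb91c8702a755, [1, 4, 8, 4, 2, 1, 3, 2, 1]), (0xbb1d5614d0c4, [3, 7, 4, 2, 1, 2, 4, 7]), (0xbc35db2d4df6, [1, 2, 1, 2, 8, 4, 2, 1]), (0xbc91e093b472, [1, 7, 4, 2, 7, 4, 8]), (0xbce0fc0a4888, [3, 4, 7, 4]), (0xbe45443b53e0, [1, 2, 1, 2, 8, 4, 2, 1, 3]), (0xc01d856acaa1, [1, 3, 4, 2, 3, 7, 4, 2, 3]), (0xc0729cf8dcd8, [1, 4, 7, 4, 2, 1, 2, 3]), (0xc5cc5d3c92dc, [1, 4, 2, 3, 8, 4, 2, 1, 8]), (0xc83574f2dcb7, [1, 8, 4, 2, 1, 8, 4, 2, 1]), (0xc9a1e15e8262, [1, 2, 1, 2, 7, 4, 2, 1, 5]), (0xcdc9001d688b, [1, 2, 1, 7]), (0xcf13528cb59d, [3, 7, 4]), (0xd3367855671d, [1, 2, 4, 2, 5, 7, 4]), (0xd3f53b794967, [1, 2, 8, 4, 2, 1, 2, 4, 8]), (0xd50d4bbdbf89, [1, 4, 8, 4, 2, 1, 3, 2]), (0xd6670877d65f, [1, 2, 1, 3, 4, 8]), (0xd8532c9c2f2a, [1, 2, 8, 4, 2, 1, 2]), (0xdbaf3e1eb978, [1, 3, 7, 4, 2, 1, 2, 4]), (0xde7f95537141, [1, 2, 7, 4, 2, 1, 5, 7, 4])]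

/-- Test values with their words, part 3. -/
def cj3 : List (ℕ × List ℕ) := [(0xe179e53aef04, [1, 2, 1, 5, 8, 4]), (0xe19b9c5946e9, [1, 2, 5, 1, 8, 4, 2]), (0xe350167a07ae, [1, 2, 4, 2, 7, 4, 2, 1, 3]), (0xe3cdd5aa8f9b, [1, 2, 1, 2, 5, 7, 4, 2, 7, 4]), (0xe5ce45f31495, [1, 2, 1, 8, 4, 7]), (0xe5d16bccade7, [1, 2, 4, 7, 4, 2, 1, 5]), (0xe6ca35fb46fe, [1, 4, 2, 3, 7, 4, 2, 1, 5]), (0xe7a699ee7007, [1, 3, 4, 8, 4, 2, 1, 2, 3]), (0xe7f031af8771, [1, 3, 4, 2, 1, 8]), (0xeb272b92b0b8, [1, 2, 1, 2, 5, 7, 4, 2]), (0xed016ecb8d06, [3, 2, 8, 4, 2, 1, 2, 4]), (0xede0748051cf, [1, 3, 4, 2, 3, 7, 4, 2, 1]), (0xee95044d3169, [1, 3, 8, 4, 2, 1, 2, 3, 8]), (0xf0f895d11694, [1, 2, 7, 4, 2, 1, 2, 3]), (0xf0fafdc93c9d, [1, 2, 4, 5, 7, 4, 2, 1]), (0xf164c639ab81, [1, 2, 3, 4, 2, 1, 3, 8]), (0xf194d0a26837, [1, 3, 4, 2, 3, 7, 4, 2, 7]), (0xf46e49161274, [1, 7, 4, 2, 1, 2, 3, 2]), (0xf601fc8dde3a, [1, 3, 7, 4, 2, 1, 7, 4, 8]), (0xf60f13e7be0f, [1, 2, 1,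 8, 4, 2, 3, 7, 4]), (0xf637cc2d5014, [1, 8, 4, 2, 1, 2, 3, 4]), (0xf71023e3a6d5, [1, 7, 4, 2, 3, 8, 4, 2]), (0xf8384c2fb668, [1, 4, 2, 7, 4, 2, 7]), (0x100269d0e6431, [1, 4, 2, 3, 7, 4, 2]), (0x100676526cebb, [1, 2, 4, 2, 3, 7, 4, 2, 1]), (0x100a375164090, [1, 8, 4, 2, 1, 8, 4, 2, 3]), (0x10130a7eec9fe, [1, 2, 5, 7, 4, 8]), (0x101c5eb03cc9d, [1, 2, 1, 5, 7, 4, 2, 1, 2, 4]), (0x1031e0e4e083e, [1, 2, 3, 4, 2, 8, 4, 2, 3]), (0x1038961458e33, [1, 2, 3, 4, 2, 1, 7]), (0x104b245877a5c, [1, 2, 4, 2, 3, 8, 4, 2, 3]), (0x107dfa615a570, [1, 2, 1, 7, 4, 2, 1, 2, 3, 2]), (0x10bd5d3b0fc50, [1, 2, 1, 7, 4, 2, 1, 2, 5, 1]), (0x111032735ef4e, [1, 4, 2, 1, 3, 8, 4, 7]), (0x11133377399cc, [1, 2, 1, 2, 7, 4, 2, 1, 2, 4]), (0x112176966bda9, [1, 7, 4, 2, 1, 2, 1, 4, 7]), (0x112cab0a25f54, [1, 2, 1, 4, 8, 4, 2, 3]), (0x1130ce363c702, [1, 2, 7, 4, 2, 1, 2, 3, 5]), (0x11567b31037ac, [1, 2, 3, 4, 2, 1, 8, 4, 7]), (0x11ab5c0de2115, [3, 7, 4, 2, 1, 2, 4, 5]),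 (0x11b28a1d8a6b0, [1, 2, 1, 4, 8, 4, 2, 1, 3]), (0x11da33f44ddae, [1, 4, 2, 8, 4, 2, 8]), (0x1226e4b620d53, [1, 2, 1, 7, 4, 2, 1, 5, 7]), (0x12400e3a0bd1c, [1, 2, 4, 2, 3, 8, 4]), (0x124327690d9db, [1, 8, 4, 2, 1, 5, 8, 4, 2]), (0x12581411df051, [1, 2, 3, 8, 4, 2, 3]), (0x1286ec58346bc, [3, 7, 4, 2, 1, 2, 1, 4]), (0x12a4218785804, [1, 2, 4, 2, 1, 2]), (0x12aa273b31602, [3, 2, 8, 4, 2]), (0x12c361749c614, [1, 2, 1, 2, 7, 4, 2, 1, 2]), (0x131648d505454, [1, 2, 8, 4, 2, 1, 2, 3, 8]), (0x1320af91da924, [1, 2, 1, 2, 8, 4, 2, 1, 2, 3]), (0x13218c12bef0b, [1, 2, 1, 7, 4, 2, 1, 3]), (0x1334e0ae54a03, [1, 3, 4, 2, 3, 8, 4, 2, 3]), (0x136cd949532f1, [1, 2, 1, 2, 5, 7, 4, 2, 1]), (0x136e81ec8b545, [1, 4, 2, 1, 5, 8, 4, 2]), (0x139e79cfc30dd, [1, 2, 3, 8, 4, 2, 1, 2, 5]), (0x13a50f2c6d58a, [1, 2, 3, 7, 4, 2, 7, 4, 8]), (0x13d495c469037, [1, 3, 7, 4, 8]), (0x13f078d57b51a, [1, 7, 4, 2, 1, 2, 4, 8]), (0x13fc837641548, [3, 2, 7, 4, 2, 1, 2, 5, 1]),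 (0x1461b6c2e1edd, [1, 4, 2, 7, 4, 2, 1, 5, 7]), (0x147e90f69bcd6, [1, 2, 8, 4, 2, 1, 3, 2, 4]), (0x149b5b66c13f3, [1, 2, 1, 8, 4, 2, 1, 2, 4])]

/-- Test values with their words, part 4. -/
def cj4 : List (ℕ × List ℕ) := [(0x14df4c97486ca, [1, 2, 1, 7, 4, 2, 1, 7]), (0x14e7b61af2b79, [1, 2, 5, 8]), (0x151054ff94384, [1, 8, 4, 2, 1, 3, 2, 8]), (0x152ad0b733130, [1, 2, 3, 7, 4, 2, 1, 3, 2]), (0x155a91bf45af3, [1, 4, 2, 1, 3, 7, 4, 8]), (0x15c52387b4a04, [4, 7, 4]), (0x15e9bb731ad66, [1, 3, 8, 4, 2, 1, 2, 3]), (0x15fe8dd79f82f, [1, 7, 4, 2, 1, 3, 8, 4, 2]), (0x16084299f789b, [1, 3, 8, 4, 2]), (0x163424329ad9d, [1, 3, 4, 2, 1, 2, 7]), (0x16383b9e73ca8, [1, 2, 1, 5, 8, 4, 2, 1, 8]), (0x1659eef35a62a, [1, 2, 5, 7, 4, 2, 3, 8]), (0x1670633293f15, [1, 2, 3, 2, 7, 4, 2, 3, 8]), (0x167a0dc070940, [1, 4, 2, 8, 4, 2, 3, 7]), (0x167a1ba500fe2, [1, 3, 8, 4, 2, 3]), (0x167df586b4ccb, [1, 2, 3, 7, 4, 2, 1, 3]), (0x16df56dc54c84, [4, 2]), (0x16e3320d58d6b,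 [1, 2, 5, 7, 4, 2, 7, 4]), (0x16ff8f8f3e932, [1, 2, 1, 7, 4, 2, 3, 8, 4]), (0x1700171d9db9a, [1, 2, 4, 2, 5, 7, 4, 2, 3]), (0x1718bf0ca09bf, [1, 3, 8, 4, 2, 1, 2, 7, 4]), (0x17190e1e1cdb4, [1, 2, 1, 2, 8, 4, 2, 1, 5]), (0x171a050eb8b28, [1, 3, 7, 4, 2, 1, 2, 1]), (0x175ce09c815c2, [1, 4, 2, 8, 4, 2, 1, 5]), (0x179dde6ccd75c, [1, 2, 5, 8, 4, 2, 8, 4]), (0x17a8f3da6af97, [1, 2, 8, 4, 2, 1, 3, 7]), (0x17b5f28de6b07, [1, 4, 7, 4, 2]), (0x17cfde2c3b868, [3, 7, 4, 2, 1, 2]), (0x17d97bab834d8, [3, 2, 7, 4, 2, 1, 3]), (0x17e8c507636ae, [1, 2, 3, 2, 4]), (0x180c65df65b81, [1, 7, 4, 2, 1, 2, 3]), (0x181e89da4cc7c, [1, 2, 3, 4, 2, 1, 8, 4]), (0x18212ee74d47d, [1, 2, 8, 4, 2, 1, 3]), (0x18221fb9f8da4, [1, 2, 7, 4, 2, 1, 2, 4]), (0x182cd2174354d, [3, 2, 7, 4, 2, 1]), (0x1879fe4e43272, [1, 2, 3, 2, 4, 2, 1, 2, 7]), (0x18812de166b50, [1, 3, 4, 8, 4, 2, 1, 2, 1]), (0x18af3dbecbdc4, [1, 2, 1, 3, 8, 4, 2, 1, 2, 1]), (0x18cfc9486fab2, [1, 8, 4, 2, 1,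 3, 7]), (0x18e7ce0703ab2, [1, 4, 7, 4, 2, 1, 3, 2, 1]), (0x190236adb531d, [1, 3, 4, 2, 3, 8, 4]), (0x19598d26f22ad, [1, 4, 8, 4, 2, 1, 3]), (0x196a693a12a3a, [1, 2, 1, 5, 7, 4, 2, 3, 8, 4]), (0x1979b00232998, [3, 7, 4, 2, 1, 2, 1]), (0x197a2578d51be, [1, 2, 5, 7, 4, 2, 1]), (0x1985762bba141, [1, 2, 4, 2, 5, 1, 8, 4]), (0x199abffdcc9f6, [1, 2, 1, 7, 4, 2, 1, 3, 2, 1]), (0x199bcf4ddee52, [1, 2, 8, 4, 2, 1, 2, 1, 3]), (0x19a84f72cab93, [1, 2, 4, 2, 1, 8]), (0x19aaee1c8fe8d, [3, 7, 4, 2, 1, 2, 1, 4, 2]), (0x19ab7f5431a80, [3, 2, 7, 4, 2, 3, 8]), (0x19c36c9bd2fbc, [3, 4, 7, 4, 2, 1, 2, 1, 3]), (0x19eba01f1d63c, [1, 2, 1, 8]), (0x19fc1d2c18f7d, [7]), (0x1a1f4df4cc859, [1, 2, 3, 4, 8, 4, 2, 3]), (0x1a2f4303b4f10, [3, 4, 8, 4, 2, 1, 2, 3, 4]), (0x1a61e99ca4836, [1, 2, 1, 5, 8, 4, 2, 8, 4]), (0x1a69d741937c5, [1, 8, 4, 2, 1, 3, 2]), (0x1a70e5f12c988, [1, 2, 1, 2, 8, 4]), (0x1a74f9d995c29, [1, 2, 1, 2, 7, 4, 2, 3]), (0x1abc9a59d4160, [3, 7, 4,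 2, 1, 2, 1, 8]), (0x1ac2a6824f5ee, [1, 2, 1, 2, 5, 7, 4, 2, 1, 7]), (0x1ad9efe96e673, [1, 2, 8, 4, 2, 1, 2, 7]), (0x1b38a3ce6cbe4, [1, 2, 4, 2, 1, 5, 7, 4, 2])]

/-- Test values with their words, part 5. -/
def cj5 : List (ℕ × List ℕ) := [(0x1b4aa5f3bd0ee, [1, 3, 4, 2, 3, 7, 4]), (0x1b54f7b1abed6, [3, 7, 4, 2, 1, 2, 1, 4, 8]), (0x1b5ecd9287b2b, [1, 8, 4, 2, 1, 5]), (0x1b6374f98c542, [3, 7, 4, 2, 1, 2, 3, 2]), (0x1b661cda0a73e, [1, 4, 7, 4, 2, 1, 3]), (0x1b750ce8519c1, [1, 2, 1, 4, 8, 4, 2, 1]), (0x1b93e5805d624, [1, 2, 1, 4, 5, 7, 4]), (0x1bad7b6de19a9, [1, 8, 4, 2, 3]), (0x1bbd5ec3eb632, [1, 2, 8, 4, 2, 3, 7, 4]), (0x1bd05f2d6c8b2, [1, 2, 5, 7, 4, 2, 1, 2, 3]), (0x1be338bb04c71, [1, 2, 1, 2, 5, 7, 4, 2, 3, 8]), (0x1bfeec48f393f, [1, 2, 1, 5, 8, 4, 2, 3]), (0x1c58771016f6f, [1, 2, 5, 1, 7, 4, 8]), (0x1ccb07b4b534d, [1, 2, 4, 2, 3, 8, 4, 2, 1]), (0x1d18389e93864, [1, 2, 3, 8, 4, 2, 1, 2]), (0x1d1b1b56472c3, [1, 2, 1, 2, 7, 4, 2, 7, 4]),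 (0x1d36d40a781a7, [1, 3, 4, 2, 3, 7]), (0x1d495bbdc2f62, [3, 7, 4, 2, 1, 2, 3]), (0x1d73b2b85bd97, [1, 2, 3, 7, 4, 2, 1, 2, 5]), (0x1dd5aabe57ad5, [1, 2, 3, 7]), (0x1de88ba35feec, [1, 2, 3, 4, 8, 4, 2, 1, 3]), (0x1dfa3ee0b7744, [3, 2, 7, 4, 2, 3]), (0x1e06dee15f22a, [1, 2, 3, 7, 4, 2, 7, 4]), (0x1e06e71de11a9, [1, 2, 7, 4, 2, 1, 3, 2, 7]), (0x1e06eb3871e1a, [1, 2, 4, 8, 4, 2, 1]), (0x1e06ff4c5a5cf, [1, 2, 7, 4, 2, 1, 2, 5]), (0x1e10dca5e35e0, [1, 2, 8, 4]), (0x1e3013360d9e7, [1, 4, 2, 3, 7, 4, 2, 1]), (0x1e369260334f4, [3, 2, 7, 4, 2, 1, 2, 4, 8]), (0x1e4e3ff38c874, [1, 4, 2, 7, 4]), (0x1e4ed7d587a8b, [1, 4, 2, 1, 5, 7]), (0x1e517d0d23598, [1, 2, 4, 5, 8, 4, 2]), (0x1ed4c12baa02d, [4, 8]), (0x1edc769948af6, [1, 8, 4, 2, 1, 2, 4, 5, 8]), (0x1ee04b52af2cf, [1, 2, 1, 2, 7, 4, 8]), (0x1ee688f4e6a11, [1, 2, 1, 4, 5, 7]), (0x1f0b76d022e9c, [1, 2, 1, 5, 7, 4, 2, 1, 7, 4]), (0x1f0fe8195fcfb, [1, 2, 3, 8, 4]), (0x1f475ec2f38bf, [1, 4, 2, 1,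 5]), (0x1f5b222ce8977, [1, 4, 7, 4, 2, 1, 2, 3, 5]), (0x1f73ea9603d56, [1, 2, 3, 2, 4, 7, 4, 2, 3]), (0x1f8353ad379e6, [1, 2, 5, 8, 4, 2, 1, 2, 1]), (0x1fa52f2f5126a, [1, 2, 8, 4, 2, 1, 2, 1, 4]), (0x1fc532ef27abf, [1, 2, 1, 3, 4, 7, 4, 2, 1, 2]), (0x1fd976fbe0222, [1, 3, 7, 4, 2, 1, 2, 3]), (0x1ff28c163e9a9, [1, 4, 2, 3, 8, 4, 2]), (0x1ff967cdf9fd7, [3, 4, 8, 4, 2, 1, 2, 3]), (0x200d492548a39, [1, 2, 5, 8, 4]), (0x200dbd8b53927, [1, 8, 4, 2, 3, 7, 4, 2, 7]), (0x201fca6717ace, [1, 2, 1, 7, 4]), (0x2022c61ddc9ef, [1, 4, 8, 4, 2, 3]), (0x2036bcc08d9b6, [1, 7, 4, 2, 1, 3, 2, 1, 4]), (0x204e68dcfb038, [1, 2, 3, 7, 4]), (0x206fbd3bdc161, [3, 4, 7, 4, 2, 1]), (0x207c29de44ce9, [1, 2, 4, 2, 1, 5, 7, 4]), (0x2085cbbe92d98, [1, 2, 1, 2, 7, 4, 2, 1, 2, 3]), (0x209b9553dd416, [1, 4, 2, 3, 8, 4, 2, 8, 4]), (0x20a2c23b892b8, [1, 4, 2, 3, 7, 4, 2, 3]), (0x20acaaced79a7, [1, 3, 4, 2, 7, 4, 2, 3, 8]), (0x20bcdf1f09979, [3, 2, 7, 4, 2, 1, 2, 8]), (0x20da505a8e7c0,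 [1, 2, 1, 5, 7]), (0x20ff7843da5a4, [1, 2, 4, 5, 8, 4, 2, 1]), (0x210e5f859939a, [1, 2, 4, 2, 8, 4, 2, 1, 2]), (0x2228b4853ce8e, [1, 2, 1, 3, 4, 2, 7, 4, 2, 3])]

/-- Test values with their words, part 6. -/
def cj6 : List (ℕ × List ℕ) := [(0x22a848d6db0f6, [1, 2, 1, 3, 4, 2, 7, 4, 8]), (0x22c8cf38c0fb8, [1, 2, 1, 2, 7, 4, 2, 1, 3, 2]), (0x22c8ec3df6b0f, [1, 2, 1, 2, 8, 4, 2, 1, 2, 5]), (0x22db2b18c1830, [1, 2, 4, 5, 1, 8, 4, 2, 1]), (0x2318a34ffc1cd, [1, 2, 1, 3, 7, 4, 2, 3, 8, 4]), (0x232579cab7cda, [3, 7, 4, 2, 1, 2, 3, 4, 5]), (0x234e0e9d60da1, [1, 2, 8, 4, 2, 8, 4]), (0x238f06f3b638a, [1, 4, 2, 3, 8, 4]), (0x2395915ddb13c, [3, 2, 7, 4, 2, 1, 2, 1, 8]), (0x239d0c2124fc3, [1, 2, 1, 8, 4, 2, 1]), (0x23b09c3ddc910, [3, 7, 4, 2, 1, 2, 3, 4]), (0x23b28b280872a, [3, 2, 7, 4, 2, 1, 2, 5]), (0x23cad9bbe9aac, [1]), (0x23e91733c26db, [1, 2, 5, 7, 4, 2]), (0x23eb769a196f9, [1, 2, 3, 2, 4, 8]), (0x240024159faf8, [1, 2, 7, 4, 2, 1, 2, 4, 8]),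 (0x2400f6089e24c, [3, 4, 8, 4, 2]), (0x240e36ef9a83d, [1, 3, 4, 2, 8, 4, 2, 1]), (0x242f12321dc2e, [1, 2, 4, 7, 4, 2, 1, 3]), (0x24301ca774a29, [1, 2, 1, 2, 5, 8, 4]), (0x245d8dacd91d5, [1, 2, 3, 8, 4, 2, 1, 2, 1]), (0x2484bcfe8a339, [1, 2, 1, 2, 5, 8, 4, 2]), (0x2486a77f3de02, [1, 2, 1, 5, 8, 4, 2, 8]), (0x248ca53ab38a2, [1, 2, 5, 8, 4, 2, 3, 7]), (0x2497bbe7f0528, [3, 4, 8, 4, 2, 1, 2, 1]), (0x24993812145b1, [1, 2, 7, 4, 2, 1, 5]), (0x24da78c03455c, [3, 2, 7, 4, 2, 1, 2, 3, 2]), (0x24dd890ebf7ed, [1, 2, 3, 8, 4, 7]), (0x24e797eeb9df2, [1, 2, 1, 3, 8, 4, 2, 3, 7]), (0x24f645815c134, [1, 4, 8, 4, 2]), (0x24fb26df4ce04, [1, 2, 1, 8, 4, 2, 3]), (0x250f6b9be2d87, [1, 2, 5, 1, 7]), (0x251de8b961b94, [1, 3, 4, 2, 8, 4, 2, 3, 7]), (0x25429f5baf2b1, [3, 7, 4, 2, 1, 2, 8, 4, 7]), (0x254e47dbc1416, [1, 3, 4, 2, 8, 4, 2, 1, 8]), (0x255160036fdd3, [1, 2, 7, 4, 2, 1, 2, 5, 8]), (0x2575dd09553bf, [1, 2, 1, 3, 8, 4, 2]), (0x25799e3c12d8e, [1, 2,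 1, 7, 4, 2, 1, 2, 8, 4]), (0x25998acf2b036, [1, 2, 1, 3, 8, 4, 2, 1, 5, 8]), (0x25deda61cb9d9, [1, 7, 4, 2, 1, 5, 7, 4, 8]), (0x260612085fd19, [1, 2, 1, 3, 8, 4, 2, 1, 2, 3]), (0x260ffe8c5e18f, [1, 2, 4, 2, 3, 5, 7]), (0x261840fc5d694, [1, 3, 7, 4, 2, 1]), (0x262720b64a89d, [1, 2, 1, 3, 8, 4, 2, 1, 5]), (0x267101b39100d, [1, 2, 3, 4, 7, 4, 2, 1, 3]), (0x26751331d2d9b, [3, 8]), (0x267ca09837a4e, [1, 3, 8, 4]), (0x26999c805ebc8, [1, 2, 7, 4, 2, 3]), (0x26a83a53f6d89, [1, 8, 4, 2, 1, 3, 2, 1, 8]), (0x26bca0bffe006, [1, 2, 4, 2, 1, 3, 8, 4]), (0x26c65f8105fbe, [1, 4, 2, 1, 5, 8, 4]), (0x26ee554082a90, [1, 2, 1, 2, 8, 4, 2]), (0x26f9175fd4ff2, [1, 4, 2, 8, 4, 2, 1, 5, 8]), (0x2725decaf9346, [3, 4, 8, 4, 2, 1, 2, 4, 7]), (0x27355300b46af, [1, 2, 8, 4, 2, 1, 2, 4, 5]), (0x274c2694704cd, [1, 2, 1, 4, 7, 4, 2, 3]), (0x277c6f44f4fb4, [3, 7, 4, 2, 3]), (0x278a49a44140c, [1, 3, 4]), (0x27a20279c7e19, [1, 2, 1, 3, 7, 4, 2, 1, 2, 3]), (0x27c2e4d4d658e,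 [1, 2, 1, 3, 7, 4, 2]), (0x27c2f60fb3a81, [1, 2, 3, 8, 4, 2, 1, 2, 3]), (0x27c80412f1aa0, [1, 2, 3, 7, 4, 2, 1, 5, 7]), (0x27cac73822aac, [1, 4, 2, 1, 3, 7, 4]), (0x27cfbbd623669, [1, 3, 8, 4, 2, 1, 8, 4, 7])]

/-- Test values with their words, part 7. -/
def cj7 : List (ℕ × List ℕ) := [(0x280e32d2ce6ea, [1, 2, 1, 5, 8, 4, 2, 1, 2]), (0x28539fe4b3613, [1, 2, 3, 4, 2, 3]), (0x2861c9832b804, [1, 2, 7, 4, 2, 1, 2, 4, 5]), (0x289eaf8f40832, [1, 4, 2, 3, 7, 4, 2, 3, 8]), (0x28deeb2b613a7, [1, 7, 4, 2, 1, 3, 8, 4, 7]), (0x28eb24bd86177, [1, 2, 1, 3, 7, 4, 2, 1, 7]), (0x29353651b3834, [3, 7, 4, 2, 1, 2, 4, 8]), (0x2986f3d13419b, [1, 2, 1, 5, 7, 4, 2, 1, 2, 1]), (0x299e00ddc8bf2, [3, 2, 8, 4, 2, 1]), (0x29a0e5293aaff, [4, 2, 7]), (0x29afc97818fe6, [1, 2, 1, 8, 4, 2, 1, 3, 7]), (0x29affe3560076, [1, 2, 1, 3, 7, 4, 2, 7]), (0x29b18d0de3723, [1, 2, 8, 4, 7]), (0x29d9fb1080e79, [1, 4, 2, 3, 7, 4, 2, 1, 3]), (0x29f4876779279, [1, 2, 1, 2, 7, 4,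 2]), (0x2a10ec3de8790, [1, 8, 4, 2, 1, 2, 4, 5]), (0x2a2b024af8548, [1, 4, 2, 1, 7, 4]), (0x2a4029cd9e5b8, [1, 2, 3, 2, 4, 7, 4]), (0x2aa1dd6f1447a, [3, 2, 8, 4, 2, 3]), (0x2aa8b789aacd8, [1, 2, 1, 3, 7, 4, 2, 3]), (0x2ab81007211a9, [1, 2, 3, 4, 2, 7, 4, 2]), (0x2ac58ba2e0af2, [1, 4]), (0x2b25c1dd4ffef, [1, 2, 4, 7, 4, 2, 1, 2, 3]), (0x2b2aeb8d9bdce, [1, 2, 8, 4, 2, 1, 2, 5, 7]), (0x2b3f0eb0ea7b8, [1, 2, 8, 4, 2, 1, 3, 2]), (0x2b4176357a6cb, [3, 7, 4, 2, 1, 2, 4, 7, 4]), (0x2b4e1ff4bee47, [3, 7, 4, 2, 1, 2, 4]), (0x2b9a61537be87, [3, 2, 8, 4, 2, 1, 2, 3]), (0x2ba5ff846a73c, [1, 2, 3, 2, 4, 8, 4]), (0x2babb5b6b5c4f, [8, 4, 2]), (0x2bc5f0e8a90d4, [3, 2, 7, 4, 2, 1, 2, 3]), (0x2bcb011315d2c, [1, 2, 1, 5, 7, 4, 2, 7, 4]), (0x2bdfe7aae33c0, [3, 4, 7, 4, 2, 1, 2, 4, 7]), (0x2c14daaca0234, [1, 2, 4, 2, 3, 5, 8, 4, 2]), (0x2c4e4f710d225, [1, 3, 7, 4, 2, 1, 2, 8]), (0x2c61bf3b56385, [3, 7, 4, 2, 1, 2, 5, 1]), (0x2c6360c40b543, [1, 3, 4, 2, 1,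 7]), (0x2c6d6863d8170, [1, 2, 1, 3, 4, 8, 4, 2, 1, 5]), (0x2c841ff5772a6, [1, 3, 8, 4, 2, 1, 2, 1, 3]), (0x2cef9b3c8a646, [1, 3, 4, 2, 8, 4, 7]), (0x2cf4266900a95, [1, 8]), (0x2d030f0318deb, [1, 4, 7]), (0x2d3851b322248, [1, 3, 4, 7, 4]), (0x2d56e7f53745f, [1, 7, 4, 2, 1, 3, 8]), (0x2d710c9d36b8e, [1, 2, 1, 7, 4, 2, 1, 2, 4, 7]), (0x2d996aa34f1bf, [1, 2, 1, 5, 7, 4, 8]), (0x2dbac2c7f0386, [3, 7, 4, 2, 1, 5]), (0x2e1b10555d8a0, [1, 2, 1, 8, 4, 2, 1, 3]), (0x2e3f8ec371e10, [1, 7, 4, 2, 1, 3, 2, 1, 2]), (0x2e47ebf29bdd4, [1, 2, 4, 2, 8, 4, 2]), (0x2e7245a0d0e2a, [1, 8, 4, 2, 1]), (0x2e73e5f450fe7, [1, 3, 4, 2, 1, 2, 8]), (0x2e96864e0b912, [1, 2, 8, 4, 2, 1, 8, 4]), (0x2ec1f48bf5348, [1, 4, 2, 8, 4, 2, 1, 3, 7]), (0x2ec337bfb59e9, [3, 8, 4, 2, 1, 2, 3, 4, 8]), (0x2f3712824c51a, [1, 7, 4, 2, 1, 7, 4, 8]), (0x2f37984848874, [1, 2, 3, 2, 4, 2, 8, 4]), (0x2f3b41b4ad7b9, [3, 7, 4, 8]), (0x2f3c02dc32b7b, [1, 2, 4, 2, 7, 4, 2, 1, 5]), (0x2f83c8c818d5b,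 [1, 2, 1, 7, 4, 2, 1, 2, 4, 5]), (0x2fa218bc9b110, [1, 2, 4, 2, 1, 7, 4, 2, 1]), (0x2fbdd9b3b1c79, [1, 2, 3, 2, 7, 4, 2, 3]), (0x2fc521351532a, [1, 2, 1, 5, 8]), (0x2fd22dfb2e50a, [1, 2, 3, 4, 2, 1, 7, 4, 2])]

/-- Test values with their words, part 8. -/
def cj8 : List (ℕ × List ℕ) := [(0x2fedb0d21c193, [3, 7, 4, 2, 1, 2, 3, 4, 2]), (0x2ffc9957db466, [1, 2, 4, 2, 3]), (0x3009cf523fb9a, [1, 2, 1, 4, 7, 4, 2]), (0x30175ee731670, [1, 2, 4, 5, 1, 2, 7, 4, 2]), (0x304c69c012b62, [1, 2, 4, 5, 1, 2]), (0x306f0f39641fc, [1, 4, 2, 1, 5, 7, 4, 2, 1]), (0x307366036c971, [1, 4, 2, 8, 4, 7]), (0x30a3a40c15a60, [3, 7, 4, 2, 1, 2, 4, 5, 7]), (0x30cdf230f6f22, [1, 2, 1, 5, 7, 4]), (0x3112ac6fea975, [1, 2, 3, 8, 4, 2, 3, 7]), (0x311ceca56ef14, [1, 2, 1, 2, 8, 4, 2, 1, 2, 4]), (0x3120d2217e14c, [1, 3, 7, 4, 2, 7, 4, 8]), (0x3125a21ba5b8e, [3, 7, 4, 2, 1, 2, 3, 4, 7]), (0x312633488e75c, [1, 2, 3, 8, 4, 2, 1, 3]), (0x314dd2b9e8b03, [1, 8, 4, 2, 1, 2,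 3, 4, 2]), (0x3159de1ce67ea, [1, 2, 3, 7, 4, 2, 3, 8]), (0x315da3700d74a, [1, 2, 4, 5, 8, 4, 2, 3]), (0x31697612fe7f2, [3, 4, 7, 4, 2, 1, 2, 4, 8]), (0x317866701b905, [3, 2, 7, 4, 2, 1, 3, 8]), (0x317e26999f524, [1, 4, 7, 4, 2, 1, 5]), (0x31829a1b35f64, [3, 2, 7, 4, 2, 1, 2]), (0x319449c685550, [1, 2, 4, 2, 1, 2, 7, 4, 2]), (0x31a53a877619e, [3, 2, 7, 4, 2, 1, 2, 5, 8]), (0x31a917aa93779, [1, 3, 4, 2, 3, 8]), (0x31aa5391d66da, [1, 2, 1, 4]), (0x31bd9588fdb86, [1, 2, 7, 4, 2, 1, 3]), (0x31d261b511ebf, [1, 3, 8, 4, 7]), (0x320fcb71cfdff, [1, 7, 4, 2, 1, 2, 8, 4, 2]), (0x3228c09e18f6a, [1, 2, 3, 8, 4, 2, 1, 5]), (0x324a00acbb9a2, [1, 2, 3, 7, 4, 2, 3, 8, 4]), (0x324beb1b883cf, [1, 2, 1, 7, 4, 2, 1, 2, 4, 8]), (0x327836871cb02, [1, 2, 1, 5, 8, 4, 2, 1, 2, 3]), (0x3279789ce2f3e, [1, 2, 1, 4, 7]), (0x327e667d7eeeb, [1, 3, 4, 2, 8, 4]), (0x32b6839f5b19d, [1, 3, 7, 4, 2, 3, 8, 4, 2]), (0x32b9647a65fda, [3, 4, 8, 4, 2, 1, 2, 4, 8]), (0x32d193855b814,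 [1, 2, 4, 5, 1, 7, 4, 2, 1]), (0x32dce26a9a8ba, [1, 2, 3, 2, 4, 7, 4, 2, 1]), (0x32f290308363a, [3, 2, 8, 4, 2, 1, 2, 1]), (0x3303552b43dce, [1, 3]), (0x3340eeb09f277, [3, 2, 7, 4, 2, 1, 3, 2, 4]), (0x3350db7c07c46, [1, 2, 5, 1, 7, 4, 2, 7, 4]), (0x3352650b6e47e, [1, 4, 2, 8]), (0x33564ea7eb714, [1, 3, 8, 4, 2, 3, 7, 4, 8]), (0x3366e4cde5ebc, [1, 2, 7, 4, 2, 7, 4]), (0x336f4dcaac732, [3, 2, 7, 4, 2, 1, 2, 3, 7]), (0x33a3c63a1eb32, [1, 7, 4, 2, 1, 2, 3, 5]), (0x33a47b4eed85e, [1, 8, 4, 2, 1, 2, 3, 5]), (0x33ecab76cb67d, [3, 8, 4, 2, 1, 2, 1, 3, 2]), (0x340c1601fe270, [1, 7, 4, 2, 1, 2, 1, 4]), (0x340d8366719a5, [1, 2, 4, 2, 5, 7, 4, 2, 1]), (0x3415291d83946, [1, 2, 1, 4, 5, 8, 4, 2]), (0x3454d5ab26f8a, [1, 4, 2, 3, 8, 4, 2, 3, 7]), (0x347f69f5fef70, [1, 7, 4, 2, 1, 2, 5, 8]), (0x349e041a4a019, [3, 8, 4, 2, 1, 2, 1, 4, 7]), (0x349ee567329c1, [1, 2, 3, 4, 2, 3, 7, 4]), (0x34a2e7e2a4502, [1, 2, 1, 4, 5, 8, 4, 2, 3]), (0x34a9d074f4103, [1,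 2, 1, 3, 8, 4, 2, 1, 8, 4]), (0x34b044dbc065f, [3, 4, 8, 4]), (0x34f00f6717173, [1, 7, 4, 2, 1, 5, 7]), (0x34f44169f96a6, [1, 2, 1, 4, 5, 8, 4]), (0x35115da52f1ca, [1, 2, 1, 3, 4, 7, 4, 2, 3]), (0x351ec524fbb13, [1, 4, 2, 1, 8, 4, 7]), (0x35510471e1f6a, [1, 2, 7, 4, 2, 1, 2, 5, 1])]

/-- Test values with their words, part 9. -/
def cj9 : List (ℕ × List ℕ) := [(0x355e824a41948, [3, 2, 7, 4, 2, 1, 2, 3, 4]), (0x357c7ad216973, [1, 4, 2, 7, 4, 2, 1, 7]), (0x357ea32f1f76f, [1, 4, 7, 4]), (0x35881399aae9d, [1, 4, 2, 8, 4, 2, 1, 3]), (0x358bff2603de6, [3, 8, 4, 2, 1, 2, 1, 3]), (0x35bb5e24e779e, [1, 2, 1, 2, 7, 4]), (0x35d13e121423c, [7, 4, 2]), (0x35d8dc17dcee5, [1, 2, 4, 5, 1]), (0x35eda88634a48, [1, 7, 4, 2, 1, 2, 8, 4]), (0x3631552206a9a, [3, 8, 4, 2, 3]), (0x3662de4209e6c, [1, 4, 2, 8, 4, 2, 1, 2, 3]), (0x36704ff517212, [1, 2]), (0x368632b2af61e, [3, 2, 7, 4, 2, 1, 2, 4, 5]), (0x368e2cba88aa7, [1, 2, 4, 2, 5]), (0x36a7a3c43c91e, [1, 2,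 1, 2, 5, 7]), (0x36cb65d5d7307, [1, 2, 8, 4, 2, 1, 2, 3, 2]), (0x36d210524c210, [1, 2, 1, 2, 5, 8, 4, 2, 3]), (0x36f128b5767aa, [1, 2, 4, 2, 5, 8]), (0x36fe0ff38510a, [1, 2, 4, 5, 1, 7, 4]), (0x371c36695d007, [1, 3, 4, 7, 4, 2, 1, 2]), (0x3727effc9d3dc, [1, 4, 2, 1]), (0x372db93ef9aac, [1, 7, 4, 2, 1, 2, 3, 4, 5]), (0x373b76d99c9b6, [3, 7, 4, 2, 1, 2, 8, 4]), (0x374d7017c5c7c, [1, 2, 3, 2, 4, 2, 1, 7, 4]), (0x37594ecb2c26f, [1, 2, 1, 3, 4, 7, 4, 2, 1, 5]), (0x37670977bec3a, [1, 2, 3, 2, 8, 4, 2, 3, 7]), (0x376e0eeca2a9a, [1, 2, 3, 4, 2, 1, 7, 4]), (0x3774b67cd86ce, [1, 2, 7]), (0x37a4416db24b4, [1, 2, 4, 2, 1, 5]), (0x37ae405d2eb10, [1, 7, 4, 2, 1, 3, 2, 7, 4]), (0x37b4011f7245d, [1, 7, 4, 2, 1, 2, 1, 3, 2]), (0x37f2a308ddd77, [1, 2, 1, 2, 7]), (0x3804fa8c77280, [1, 3, 7, 4, 2, 1, 7]), (0x381b3a34a4e5a, [3, 8, 4, 2, 1, 2, 3, 4]), (0x3887e20dda699, [1, 2, 1, 8, 4, 2, 1, 2]), (0x38a3b30417e02, [1, 4, 2, 1, 7, 4, 2, 1, 7]), (0x38a52d927a0db,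 [1, 2, 7, 4, 2, 3, 8, 4]), (0x38be89936208b, [1, 2, 1, 2, 5, 8, 4, 2, 1, 2]), (0x38c71f19b114d, [3, 7, 4, 2, 1, 2, 3, 2, 4]), (0x38eeefcdd1838, [1, 2, 4, 8, 4, 2, 1, 2, 4]), (0x38f9e671652ea, [1, 2, 3, 4, 7, 4, 2, 3]), (0x3912ec0d15888, [1, 2, 1, 2]), (0x3916812f43dd8, [1, 2, 1, 7, 4, 2, 1, 2, 1]), (0x3917902323284, [1, 2, 7, 4, 2, 1, 2, 4, 7]), (0x3921e37413592, [1, 2, 4, 7, 4, 2, 1]), (0x3962f25f0fe90, [3, 8, 4, 2, 1, 2, 3]), (0x397859288c449, [1, 7, 4, 2, 7, 4]), (0x397e345a04e62, [1, 2, 1, 5, 7, 4, 2, 1, 7]), (0x39a8b177fe7d6, [3, 8, 4, 2, 1, 2, 3, 4, 2]), (0x39baef67368ce, [1, 8, 4, 2, 3, 7, 4, 2]), (0x39c02b80f4d14, [1, 2, 1, 4, 5]), (0x3a28f25b1386f, [1, 2, 3, 2, 7, 4, 2, 7]), (0x3a5610a159091, [1, 2, 3, 2, 7, 4, 2, 1]), (0x3a5fff38c4c1e, [1, 4, 7, 4, 2, 1]), (0x3a9831267d8d1, [1, 2, 3, 2, 4, 8, 4, 2, 3]), (0x3a9b6715eeda3, [1, 2, 4, 5, 1, 7, 4, 2, 3]), (0x3ab2d7c98773b, [1, 2, 1, 4, 5, 8, 4, 2, 1, 2]), (0x3ad3f10ee73b0, [1,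 2, 1, 3, 4, 2, 8, 4, 2, 1]), (0x3afe0f244b858, [1, 2, 7, 4, 2, 1, 3, 8]), (0x3b17f0fc48f47, [1, 4, 2, 7, 4, 2, 1, 3, 8]), (0x3b1b0cc153c74, [1, 2, 1, 5, 8, 4, 2, 1, 2, 7]), (0x3b4e69360fd9f, [1, 3, 4, 2, 8, 4, 2, 1, 2]), (0x3b75ef9061e94, [3, 7, 4, 2, 1, 2, 5]), (0x3b76baeffc7c1, [1, 2, 4, 2, 1, 7])]

/-- Test values with their words, part 10. -/
def cj10 : List (ℕ × List ℕ) := [(0x3b9468ab7e492, [1, 2, 1, 2, 5, 7, 4]), (0x3bade148bfc23, [1, 8, 4, 2, 1, 3, 2, 4, 8]), (0x3bc52786b51f0, [1, 2, 5, 8, 4, 2, 1]), (0x3bdc91df4b4ff, [1, 2, 1, 5, 7, 4, 2, 3]), (0x3be65cac6137f, [1, 2, 3, 7, 4, 2, 1]), (0x3c0efdcbc2c4c, [1, 2, 3, 4, 2, 8, 4, 7]), (0x3c3aaf4250e1f, [1, 8, 4, 2, 1, 2, 4, 8]), (0x3c464e2d05a04, [1, 3, 8, 4, 2, 1, 2, 4]), (0x3c651dc47ce5e, [1, 2, 3, 4, 2, 7, 4, 2, 7]), (0x3c6532d491801, [1, 4, 2, 1, 7, 4, 2, 1, 2]), (0x3c9a02d5295e4, [1, 2, 1, 3, 8, 4]), (0x3c9adbdba95e5, [1, 2, 5, 1, 8, 4]), (0x3d6c46de5e46b, [1, 8, 4, 2, 1, 3]),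 (0x3d968c565ddbb, [1, 3, 4, 2, 3]), (0x3d9ed1f40c5b3, [1, 8, 4, 2, 8]), (0x3da9f8ae7112b, [1, 2, 3, 2, 7, 4]), (0x3dc92482ab1d8, [1, 2, 3, 8, 4, 2, 3, 7, 4]), (0x3dd385f15898d, [1, 2, 3, 2, 8]), (0x3dd39bfa41d48, [1, 3, 8]), (0x3dff414d99679, [1, 2, 3, 2, 8, 4, 2, 1, 8]), (0x3e68678e530cc, [1, 2, 4, 8, 4, 2, 1, 2]), (0x3e9005b7ba8f3, [1, 4, 2, 1, 3, 2]), (0x3e9a05325114f, [7, 4]), (0x3ec774ae182ce, [1, 2, 4, 5, 1, 2, 7, 4, 8]), (0x3ee0c49c0899f, [3, 4, 8, 4, 2, 1, 2, 4]), (0x3ef15851fc89e, [1, 2, 1, 5, 8, 4, 2, 1]), (0x3f01ea47a6cf8, [3]), (0x3f0a3b7154700, [1, 2, 1, 4, 7, 4, 2, 1, 2, 5]), (0x3f300ec8af137, [4, 7]), (0x3f3b8a016dc98, [1, 4, 2, 7, 4, 2]), (0x3f75675da6484, [1, 2, 4, 2, 3, 5, 8, 4]), (0x3f8ad87e94e00, [1, 2, 1, 4, 7, 4]), (0x3f976f96abc77, [1, 2, 5, 1, 7, 4, 2, 3]), (0x3f9b1e814d02f, [3, 4, 8, 4, 2, 1, 2]), (0x3f9d0d9d75593, [1, 2, 4, 8]), (0x3f9f85d4b9d13, [1, 2, 7, 4, 2, 1, 2, 1, 3]), (0x3ff0dd0a42200, [1, 3, 4, 2,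 7, 4, 8]), (0x3fffd456886da, [1, 2, 3, 4, 2, 1, 3, 7, 4]), (0x400cbdc6aea44, [1, 2, 1, 3, 8, 4, 2, 1, 2, 5]), (0x4024db8a222d7, [1, 2, 5, 8, 4, 2]), (0x4043a505f3a38, [1, 2, 4, 5, 1, 7, 4, 2]), (0x4044920471967, [1, 2, 1, 2, 7, 4, 2, 1, 7, 4]), (0x405c75d70a92d, [3, 8, 4, 2, 1, 2, 4, 8]), (0x406fdaec54bcf, [1, 4, 2, 7, 4, 2, 1]), (0x4078f12adea64, [1, 3, 7, 4, 2, 1, 2, 1, 4]), (0x407edd0f6ee37, [1, 2, 1, 2, 7, 4, 2, 1, 3]), (0x408679e9c74a8, [1, 4, 8, 4, 2, 1, 2, 5]), (0x4087c3a604114, [1, 3, 7, 4, 2, 3]), (0x408f5fe8fa509, [1, 2, 1, 3, 7, 4, 2, 1, 3]), (0x409316ce33d5f, [1, 2, 1, 3, 7, 4, 2, 1, 3, 2]), (0x40987201ed74a, [1, 2, 3, 4, 2, 1, 3]), (0x409e1331a7ddc, [3, 4, 8, 4, 2, 1, 2, 1, 3]), (0x40b59065f8a32, [3, 7, 4, 2, 1, 2, 1, 3, 4]), (0x40be1c36413c5, [1, 2, 1, 3, 7]), (0x40d066be6e508, [1, 2, 5]), (0x40e0455bb62b5, [1, 2, 8, 4, 2, 1, 5, 8, 4]), (0x410f88dc43807, [1, 2, 1, 3, 7, 4, 2, 1]), (0x4140b6d35bf00, [1, 2, 1, 3, 4, 7, 4,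 2, 1, 3]), (0x41413f8aa7610, [1, 3, 4, 8, 4]), (0x41642954e5b39, [1, 2, 7, 4, 2, 7]), (0x418424b69021a, [1, 2, 3, 2, 4, 2, 3, 8, 4]), (0x418f2cde7284f, [1, 4, 2, 8, 4, 2, 1, 2, 1]), (0x419aee8459674, [3, 4, 7, 4, 2, 1, 2, 1, 4]), (0x419f63b5e6db4, [1, 7, 4, 2, 1, 7])]

/-- Test values with their words, part 11. -/
def cj11 : List (ℕ × List ℕ) := [(0x41ac4471a78c6, [3, 4, 7, 4, 2, 1, 2, 4]), (0x41b05d0048167, [3, 8, 4, 2, 1, 2, 1]), (0x41f5dfecab956, [1, 2, 1, 2, 7, 4, 2, 3, 8]), (0x4205b8705e867, [1, 2, 1, 3, 4, 2, 8, 4]), (0x420c03b2f42c0, [1, 2, 4, 2, 8, 4, 2, 1, 3]), (0x4213946d151d0, [1, 2, 5, 1, 8, 4, 2, 3, 7]), (0x424462f90cc20, [1, 2, 3, 4, 2, 1, 5, 7, 4]), (0x425ada58d41e4, [3, 2, 7, 4, 2, 1, 2, 4]), (0x42909caea3b10, [1, 2, 1, 5]), (0x4295d11bc20c3, [1, 2, 5, 1]), (0x429e330837172, [1, 2, 3, 2, 8, 4, 2, 1]), (0x42aeaa14a8640, [1, 2, 1, 3, 4, 2]), (0x42d983d7ed334, [3, 8, 4, 2, 1, 2, 1, 4]), (0x42edcdb93e835, [1, 2, 1, 7, 4,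 2]), (0x42fa8e83f1df8, [1, 2, 3, 4, 2, 8, 4, 2, 8]), (0x42fbb62d7f2ae, [1, 7, 4, 2, 1, 2, 4, 5, 8]), (0x430fade2231ef, [1, 2, 8, 4, 2, 8]), (0x431ed51e68000, [1, 2, 5, 8, 4, 2, 1, 2, 7]), (0x4340d8c5aad42, [3, 8, 4, 2, 1, 2]), (0x4346254b4c8f1, [1, 7, 4, 2, 1, 2, 8]), (0x435a95adecaf6, [1, 2, 3, 4]), (0x436109e4df5e4, [1, 3, 8, 4, 2, 8, 4, 7]), (0x4392fcacf325a, [1, 7, 4, 2, 1, 3, 2, 7]), (0x439a0deb77e83, [1, 2, 3, 2, 8, 4, 2, 8]), (0x4404eb47e33cc, [1, 8, 4, 2, 1, 2, 3, 4, 5]), (0x44174f86f7b68, [1, 4, 7, 4, 2, 1, 2, 4]), (0x441e056e61d63, [1, 2, 7, 4, 2, 1, 7, 4, 2]), (0x443c2ebf363ac, [1, 2, 3, 2, 8, 4, 2, 1, 2]), (0x44b62850c636c, [1, 2, 1, 8, 4, 2, 1, 3, 2]), (0x44c36094e68ee, [1, 2, 4, 7, 4, 2, 1, 2, 5]), (0x44cb0d037295f, [1, 7, 4, 8]), (0x44f2dab46863b, [1, 7, 4, 2, 3, 8, 4, 7]), (0x45038c47c9438, [1, 2, 7, 4, 2, 1, 2, 1, 4]), (0x456a9a3a15bac, [1, 2, 3, 4, 7, 4, 2, 1, 5]), (0x4579137923809, [1, 2, 8, 4, 2, 1, 3, 2, 8]), (0x45ad813a7fd97,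 [1, 2, 1, 3, 7, 4, 2, 1, 7, 4]), (0x45b9c08d3fdba, [1, 2, 4, 2, 3, 5, 7, 4, 2]), (0x45ba60c30bc34, [3, 4, 7, 4, 2, 1, 2, 3, 4]), (0x45ca7f68c6ef8, [3, 4, 7, 4, 2, 1, 2, 1]), (0x45dfba3a19112, [1, 2, 8, 4, 2, 1, 3, 2, 1]), (0x463674c4950ac, [1, 2, 5, 8, 4, 2, 1, 2]), (0x46879ff8e4d5a, [1, 2, 1, 7, 4, 2, 1, 2, 1, 5]), (0x468ff68aeac1a, [3, 4, 7, 4, 2, 1, 2, 3]), (0x469a234ff4c7f, [1, 8, 4, 2, 1, 8]), (0x469f467d933a6, [1, 2, 5, 1, 8, 4, 2, 1, 8]), (0x46ab7c6849333, [1, 4, 2, 1, 5, 8, 4, 2, 1]), (0x46c4b30ac290a, [1, 2, 1, 3, 8, 4, 2, 1, 2, 4]), (0x46e2f920a8738, [1, 2, 1, 3, 7, 4, 2, 7, 4]), (0x47238ff59afa0, [1, 7, 4, 2, 1, 7, 4, 2, 7]), (0x4772415a25e65, [1, 2, 1, 7, 4, 2, 1, 2, 4]), (0x47a39b4c1a9f3, [1, 2, 1, 8, 4, 2, 1, 2, 1]), (0x47ae30461745a, [1, 2, 3, 2, 4, 2, 8, 4, 2]), (0x47b690fff5b98, [1, 3, 4, 2, 3, 7, 4, 2]), (0x47c6a4e5cfdd6, [1, 2, 7, 4, 2, 1]), (0x47cbee8283561, [3, 2, 7, 4, 2, 1, 2, 1, 3]), (0x47cbf6d76b6e9, [1, 2,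 4, 2, 3, 5, 8]), (0x47e0ff9e48dd2, [1, 2, 5, 1, 7, 4, 2, 3, 8]), (0x48042e8b67dac, [1, 2, 1, 2, 7, 4, 2, 1, 2, 1]), (0x4806e63d74833, [1, 8, 4, 2, 1, 5, 8, 4]), (0x480bae8623046, [1, 2, 1, 8, 4, 2]), (0x480e48e6073b1, [1, 2, 1, 3, 7, 4, 2, 1, 2, 1]), (0x48310c9f29b6d, [1, 2, 1]), (0x484b30ac7b71e, [1, 7, 4, 2, 3, 8, 4]), (0x48510cb989c19, [1, 2, 4, 5, 8])]

/-- Test values with their words, part 12. -/
def cj12 : List (ℕ × List ℕ) := [(0x485131b7af931, [3, 7, 4, 2, 1, 2, 1, 3, 2]), (0x4877ddb68200f, [1, 4, 2, 8, 4, 2, 1]), (0x48b4024ae4c26, [1, 2, 4, 2, 5, 1, 7]), (0x48db7b4c1f6c0, [3, 2, 8, 4, 2, 1, 2, 4, 7]), (0x48eb484d6380f, [1, 4, 2, 3, 8, 4, 2, 1, 5]), (0x48ed6126a817a, [1, 2, 7, 4, 2, 1, 2]), (0x48fe585681b0b, [1, 3, 7, 4, 2, 1, 2, 8, 4]), (0x4927526ca7a42, [1, 2, 4, 2, 1, 2, 5, 8]), (0x493128e3bf0aa, [1, 7, 4, 2, 1, 7, 4]), (0x4940f6b1dc278, [1, 2, 4, 7]), (0x496a00ce69fd9, [1, 4, 2, 1, 5, 7, 4, 8]), (0x496c86e20f820, [1, 2,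 1, 3, 4, 7, 4]), (0x498b4b40843ac, [1, 2, 1, 2, 8, 4, 2, 1, 3, 2]), (0x49a52288214d8, [1, 4, 2, 1, 8, 4, 2]), (0x49d7ce5fa0931, [1, 2, 1, 7, 4, 2, 1, 2, 3, 7]), (0x49e1240627572, [1, 3, 8, 4, 2, 1, 2, 1, 4]), (0x49fb718a48ca2, [1, 2, 3, 2, 4, 2, 1, 8]), (0x49fff832149ec, [1, 2, 1, 3, 4, 7]), (0x4a3c586694ad0, [3, 2, 7, 4, 8]), (0x4a54eb978266f, [1, 3, 7, 4, 2, 1, 2, 1, 8]), (0x4a5a7c3352762, [1, 2, 4, 5, 8, 4, 2, 1, 2]), (0x4aa365080b006, [1, 7, 4, 2, 1, 3, 8, 4]), (0x4aad245ee92bb, [1, 2, 3, 7, 4, 2, 1, 2]), (0x4abd1f843e113, [1, 8, 4, 2, 1, 3, 2, 1, 2]), (0x4b2f4d422c0d9, [1, 2, 3, 4, 2, 8, 4, 2, 1]), (0x4b3651cf29e64, [1, 2, 4, 5, 1, 2, 7]), (0x4b436ba1fc982, [1, 2, 4, 2, 3, 5]), (0x4b5e4a4b42f98, [1, 2, 3, 7, 4, 2, 1, 2, 4]), (0x4b71b1343c4b3, [1, 2, 3, 4, 2, 3, 7, 4, 8]), (0x4ba7b3c55a270, [1, 4, 2, 3, 8, 4, 2, 1]), (0x4bd1077fe038e, [1, 2, 3, 2, 4, 2, 1, 2]), (0x4bfcd44a25606, [1, 4, 2, 7, 4, 2, 1, 2]), (0x4c0d94fadacf1, [1, 3,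 4, 7, 4, 2, 1, 2, 1]), (0x4c1607b850c19, [1, 2, 1, 5, 7, 4, 2, 1, 2, 8]), (0x4c19537f56827, [1, 2, 4, 8, 4, 2]), (0x4c1b88ccb1355, [1, 3, 4, 2, 7, 4, 2]), (0x4c2da6125c16c, [1, 2, 3, 7, 4, 2, 1, 3, 8]), (0x4c41190e1bc06, [1, 7, 4, 2, 1, 2, 4, 7]), (0x4c8388b87d157, [1, 2, 1, 7, 4, 2, 1, 2, 8]), (0x4c8cdc7f7b569, [1, 2, 3, 2, 4, 8, 4, 2]), (0x4ccfed4f8393f, [1, 2, 3, 7, 4, 2, 1, 5]), (0x4d135014b0975, [1, 7, 4, 2, 1, 5, 7, 4]), (0x4d1680246729d, [1, 2, 4, 2, 1, 2, 5, 7, 4]), (0x4d211c7e9dde0, [1, 2, 1, 8, 4, 2, 1, 8]), (0x4d2b75aa877c7, [3, 2, 7, 4, 2]), (0x4d617e5c95454, [1, 2, 1, 4, 7, 4, 2, 1, 2, 4]), (0x4d7695c0f05cf, [1, 3, 4, 2, 8, 4, 2]), (0x4d7b41707e74a, [1, 7, 4, 2, 1, 2, 1, 3]), (0x4d8acfceda2bd, [1, 2, 4, 8, 4, 2, 1, 3, 2]), (0x4d8b29cee28b7, [1, 2, 1, 2, 5, 7, 4, 2, 3]), (0x4da9c756df175, [1, 2, 5, 7, 4, 2, 3, 8, 4]), (0x4dad28e0d9778, [1, 2, 4, 2, 1, 2, 5, 8, 4]), (0x4dad36ec4cd52, [1, 4, 2, 1, 8, 4, 2, 8, 4]), (0x4dad36ed46b0a,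 [1, 4, 2, 1, 5, 8]), (0x4dc87b6905064, [4, 8, 4]), (0x4e01c9b0608cc, [1, 2, 3, 4, 2, 7, 4, 8]), (0x4e086bf18c071, [1, 4, 7, 4, 2, 1, 2]), (0x4e13cf2fd3761, [1, 2, 5, 8, 4, 7]), (0x4e1a5460fc482, [1, 7, 4, 2, 1, 5]), (0x4e63f7255c7ac, [1, 2, 1, 2, 8, 4, 2, 1, 2]), (0x4e6499fcea0be, [1, 4, 2, 3, 8, 4, 2, 3]), (0x4ea535c108737, [1, 2, 3, 4, 2, 7, 4, 2, 3]), (0x4f321ed98b5f4, [1, 2, 8, 4, 2]), (0x4f494b49a8574, [1, 2, 4, 5, 1, 8, 4, 2, 3])]

/-- Test values with their words, part 13. -/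
def cj13 : List (ℕ × List ℕ) := [(0x4f6aa635601b4, [1, 2, 5, 1, 7, 4, 2, 1, 2]), (0x4f6ff9f4ede60, [1, 2, 1, 3, 7, 4, 2, 1, 2]), (0x4f74aa4bd1786, [1, 4, 2, 8, 4, 2, 1, 2, 4]), (0x4f90d123c9320, [3, 2, 7]), (0x4f92fbc1bf3be, [1, 2, 1, 3, 4, 2, 7, 4, 2, 1]), (0x4fbad3ed26b9c, [1, 7, 4, 2, 1, 2, 4, 5, 7]), (0x4fcf029983b84, [1, 2, 7, 4, 2, 1, 2, 8, 4]), (0x4ff200c9b81c1, [1, 2, 1, 4, 5, 7, 4, 2]), (0x500a8af8add6e, [1, 2, 3, 4, 2, 1, 8, 4, 2]), (0x500cbae56f30d, [1, 2, 1, 8, 4, 2, 8, 4]), (0x500e0be43927a, [1, 2, 1, 3, 4, 7, 4, 2]), (0x501911d0037ff, [1, 2, 3, 7, 4, 2, 1, 2, 3]), (0x503f948ea6a4d, [1, 2, 3, 4, 2, 1, 7, 4, 8]), (0x50589e2e86e07, [1, 8, 4, 2, 8, 4]), (0x50744dc119792, [1, 2, 1, 3, 8, 4, 2, 3]), (0x50754fd3ad805, [1, 2, 3, 8, 4, 2, 1, 2, 7]), (0x5082fdd3b5a3f, [1, 4, 7, 4, 2, 1, 2, 4, 5]), (0x508a2597648c7, [1, 2, 3, 8, 4, 2, 1, 8]), (0x50bd2f3aff015, [1, 2, 1, 7, 4, 2, 1, 2, 5, 8]), (0x514d40f33bf5c, [3, 2, 7, 4]), (0x516674b9b391a,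 [1, 2, 4, 7, 4, 2, 1, 2, 1]), (0x51a850707970f, [3, 4]), (0x51aab2f51c35d, [1, 2, 3, 8, 4, 2, 1, 2, 4]), (0x51af36f8eaed6, [1, 4, 2, 7, 4, 2, 3]), (0x51b6908025cae, [8, 4]), (0x51cc7c6c11ea8, [1, 2, 7, 4, 2, 1, 2, 1]), (0x51e6db905eb57, [1, 2, 4, 2, 5, 8, 4, 2, 1]), (0x51f1b1ab9d535, [1, 2, 1, 3, 8, 4, 2, 1, 3, 2]), (0x51fac925c0c3a, [1, 2, 4, 8, 4, 2, 1, 2, 5]), (0x520fb2f3eeda1, [1, 2, 1, 3, 7, 4, 2, 1, 2, 5]), (0x52239371adf9e, [1, 2, 1, 3, 4, 8, 4]), (0x527a00d5cb066, [1, 7, 4, 2, 1, 3, 2, 4, 7]), (0x527a508a7c39d, [1, 2, 8, 4, 2, 1, 2, 4, 7]), (0x52c4f797a5eb5, [1, 2, 1, 2, 5, 7, 4, 2, 1, 2]), (0x52da17ca58674, [1, 2, 3, 2, 4, 2, 7, 4]), (0x52e90b2df9a04, [1, 3, 7, 4, 2, 1, 7, 4]), (0x52ebe86768a92, [3, 4, 7]), (0x531b0f16688fd, [1, 4, 2, 8, 4, 2, 1, 2, 7]), (0x534574d5e5515, [1, 7, 4, 2, 1, 2, 4, 7, 4]), (0x5352b7de8402e, [1, 2, 5, 7, 4, 2, 1, 2, 1]), (0x53587e4d8d61c, [1, 2, 1, 3, 8, 4, 2, 1, 8]), (0x535ef42b3e9c8, [1, 2, 1,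 5, 8, 4, 2, 1, 2, 4]), (0x536001c7a04c3, [1, 2, 1, 3, 8, 4, 2, 1, 3]), (0x5362939c0dbaa, [1, 2, 1, 3, 4, 8, 4, 2, 3]), (0x536cb2546a0d3, [1, 4, 2, 1, 8, 4]), (0x53705f36be2bb, [1, 2, 1, 7, 4, 2, 1, 2, 5]), (0x53a76f3c80e34, [1, 2, 3, 4, 2, 8, 4, 2]), (0x53aa95557f1c0, [1, 2, 4, 2, 1, 5, 8, 4]), (0x53ac582d10eab, [1, 3, 4, 2, 7, 4, 2, 7]), (0x53d2747dd61e4, [3, 8, 4, 2, 1, 2, 4]), (0x53e13db65390c, [1, 2, 1, 3, 4, 2, 7]), (0x53eb99900a9f1, [1, 2, 5, 7, 4, 2, 7]), (0x54047a3054bac, [1, 2, 4, 2, 1, 2, 8, 4, 2]), (0x54230c2428e15, [1, 3, 4, 2, 7, 4, 2, 3]), (0x5443152ca4a42, [1, 2, 3, 7, 4, 2, 3]), (0x5495d1344a513, [1, 8, 4, 2, 3, 7]), (0x549e280280836, [1, 2, 4, 8, 4, 2, 1, 2, 1]), (0x54b583b9fc5df, [1, 4, 2, 1, 7, 4, 2, 7, 4]), (0x54b67d015dc96, [1, 2, 4, 2, 5, 8, 4]), (0x54e4165b9f406, [1, 2, 1, 4, 8, 4, 2, 1, 2, 4]), (0x55050fa6e93d4, [1, 2, 4, 8, 4, 2, 1, 2, 3]), (0x550a66341a6de, [1, 2, 4, 2, 7, 4]), (0x557655227a438, [1, 2, 3, 4,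 2, 8, 4]), (0x5579fae91d78e, [1, 2, 3, 2, 4, 2, 3, 7, 4])]

/-- Test values with their words, part 14. -/
def cj14 : List (ℕ × List ℕ) := [(0x5584d6cc06d3f, [1, 3, 4, 8, 4, 2, 1, 2, 4]), (0x55b8afbe481ed, [1, 7, 4, 2, 1, 5, 7, 4, 2]), (0x55efd929f789c, [1, 2, 4, 5, 7, 4, 2, 3]), (0x562e3e66bd2e4, [1, 2, 3, 2, 4, 2, 1, 8, 4]), (0x5637810bd4255, [1, 2, 3, 7, 4, 2, 1, 2, 1]), (0x567235b5c4f49, [1, 2, 1, 8, 4, 2, 1, 5]), (0x5698c08db5fde, [1, 2, 7, 4, 8]), (0x56a13f252824a, [1, 2, 7, 4, 2, 3, 8, 4, 2]), (0x56aaae31ef1a3, [8]), (0x56c8d0fed9bbe, [1, 2, 4, 8, 4, 2, 1, 3]), (0x573801a2d6161, [1, 2, 4, 2, 1, 5, 8]), (0x573fec9bc7ae0, [1, 4, 2, 1, 8, 4, 2, 1, 8]), (0x5755433bc501c, [3, 8, 4, 2, 1, 2, 1, 5]), (0x5759d97221f49, [1, 2, 1, 7, 4, 2, 1, 2, 1, 3]), (0x578ece073fa19, [1, 2, 5, 7, 4, 2, 1, 2, 4]), (0x579a314fc4bc2, [1, 2, 8, 4, 2, 3, 7, 4, 2]), (0x57a9d7d866070, [1, 2, 3, 4, 2, 1]), (0x57be3c6292c56, [1, 2, 4, 2, 3, 7, 4, 2]), (0x57e2b0397a54e,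 [1, 2, 3, 8, 4, 2]), (0x57edfbf86130b, [1, 2, 1, 8, 4, 2, 1, 2, 5]), (0x580f147517461, [1, 7, 4, 2, 1, 7, 4, 2]), (0x5811b5d860817, [3, 4, 8, 4, 2, 1]), (0x583f34bc09585, [1, 2, 3, 2, 8, 4, 2, 3]), (0x5846e3ac552c6, [1, 8, 4, 2, 1, 5, 8]), (0x5882f670f794a, [1, 2, 1, 8, 4, 2, 1, 8, 4]), (0x58b2cfa746d89, [1, 2, 3, 4, 2, 3, 8, 4, 7]), (0x58f6aec93b09c, [1, 2, 1, 3, 8, 4, 2, 1, 2, 7]), (0x59146be2b5557, [1, 2, 1, 4, 7, 4, 2, 1, 5]), (0x596607406f4d7, [1, 2, 4, 2, 1, 7, 4, 2]), (0x59b82adb6d168, [1, 2, 4, 5]), (0x59c06b1f23005, [1, 2, 5, 1, 7, 4, 2, 1]), (0x59c6b970be095, [1, 8, 4, 2, 1, 5, 8, 4, 7]), (0x5a0db23240f82, [1, 2, 1, 2, 7, 4, 2, 1, 2, 5]), (0x5a1e603221289, [1, 2, 3, 2, 4, 7, 4, 2]), (0x5a230b861cc3a, [1, 4, 2, 3, 7, 4, 8]), (0x5a2c188845a67, [1, 2, 4, 2, 1, 3, 7]), (0x5a46c72467647, [1, 4, 2, 8, 4, 2, 3]), (0x5a6aedbeb43ce, [1, 2, 4, 2, 7, 4, 2, 3]), (0x5a7521decbeef, [1, 4, 8, 4]), (0x5a7c28f5ca05c, [1, 2, 1, 3, 8, 4, 7]),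 (0x5a7d27f4423f8, [1, 2, 1, 5, 7, 4, 2, 1, 2]), (0x5a987209eb286, [1, 8, 4, 2, 1, 2, 3]), (0x5b151b9484648, [1, 2, 8, 4, 2, 1, 5, 8]), (0x5b612e4a1f9e1, [1, 2, 5, 8, 4, 2, 1, 2, 4]), (0x5b83bda28d4b3, [1, 2, 5, 7, 4, 2, 1, 7]), (0x5ba72a9464a8a, [1, 2, 4, 2, 3, 8, 4, 2]), (0x5bafbb117e277, [1, 2, 1, 4, 7, 4, 2, 1, 3]), (0x5bfa27327ed99, [1, 3, 4, 2, 1, 2]), (0x5c62e802291ee, [1, 2, 1, 5, 8, 4, 2, 1, 8, 4]), (0x5c72abad07989, [1, 2, 1, 4, 8, 4, 2, 1, 2, 1]), (0x5c84b02a2702a, [1, 2, 4, 2, 1, 5, 7]), (0x5c8efdedcbf92, [1, 2, 1, 7, 4, 2, 1, 5]), (0x5c91e35fff47e, [1, 2, 3, 8]), (0x5cb439a277174, [1, 2, 1, 3]), (0x5cc0d048ff666, [3, 2, 8, 4, 2, 1, 2, 1, 4]), (0x5d04cd593f388, [3, 8, 4, 2, 1, 2, 1, 4, 8]), (0x5d2a2e9426070, [1, 2, 4, 2, 3, 5, 7, 4]), (0x5d2d16f87149a, [1, 3, 4, 7, 4, 2, 1, 2, 4]), (0x5d321a93cb597, [1, 7, 4, 2, 1, 2, 1, 4, 5]), (0x5d36d13312a2e, [1, 2, 4, 2, 1, 7, 4]), (0x5d381f9444abd, [1, 2, 3, 4, 7, 4, 2, 1, 2]), (0x5d611158d0b0e,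 [1, 7, 4, 2, 1, 3]), (0x5d6eee3c2da60, [1, 4, 2, 7, 4, 2, 1, 3, 2]), (0x5d98e97d683fc, [1, 2, 3, 4, 2, 1, 5])]

/-- Test values with their words, part 15. -/
def cj15 : List (ℕ × List ℕ) := [(0x5da2ca19b0faf, [1, 4, 2, 8, 4, 2, 1, 2]), (0x5df2e2c5dc6f5, [1, 2, 3, 4, 2, 7]), (0x5e16f3ebb42e1, [1, 3, 7, 4, 2, 3, 8, 4]), (0x5e3dcd87cef72, [1, 3, 4, 2, 1, 7, 4]), (0x5e4a7b48f4702, [1, 2, 1, 2, 7, 4, 2, 1, 7]), (0x5e53c66be0d64, [1, 3, 4, 2, 7]), (0x5e675f49f78ea, [1, 3, 4, 8, 4, 2, 1]), (0x5e7bdf0338f53, [1, 2, 3, 4, 2, 1, 5, 8, 4]), (0x5ea0869ebda9c, [1, 2, 3, 4, 8, 4, 2]), (0x5ea14bf46a3fe, [3, 2, 8, 4, 2, 1, 2, 3, 4]), (0x5ea51cbf4a775, [1, 2, 1, 7, 4, 2, 1, 2, 1, 4]), (0x5eb15ac0607d8, [1, 2, 1, 3, 4, 7, 4, 2, 1]), (0x5edac9bedae07, [1, 3, 4, 2]), (0x5f1ed5ed2f9f8, [1, 2, 1, 3, 8]), (0x5f1ed8b9d4088, [1, 2, 3, 4, 8]), (0x5f1edee026340, [3, 2, 7, 4, 2, 1, 3, 2, 1]), (0x5f213674470a4, [1, 3, 8, 4, 2, 1, 2, 1, 5]), (0x5f37bd02d1cd4, [1,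 3, 4, 7, 4, 2]), (0x5f3f1dee3a99a, [1, 4, 2, 7, 4, 2, 1, 2, 1]), (0x5f6bc67fe462a, [1, 4, 2, 1, 5, 7, 4]), (0x5f7c3d72d55ea, [1, 2, 3, 7, 4, 2, 7]), (0x60027205b820a, [1, 2, 1, 2, 8, 4, 2, 3]), (0x603ec3b76c6ba, [1, 2, 4, 5, 1, 2, 8, 4, 2]), (0x60607e7f1eb70, [1, 4, 8]), (0x60698bbc4470a, [1, 4, 2, 1, 7, 4, 2]), (0x60d7fcfcb3f9c, [1, 2, 3, 2, 7, 4, 2, 1, 7]), (0x60e9eb8057010, [3, 2]), (0x613d6f97ad4f3, [1, 2, 3, 2, 4, 2, 7]), (0x615c1affd97d2, [1, 2, 5, 8, 4, 2, 1, 8, 4]), (0x61e3edfeff599, [1, 2, 1, 3, 8, 4, 2, 1, 2]), (0x62290fd749d67, [1, 2, 4, 5, 8, 4]), (0x62464a1198930, [1, 2, 5, 1, 7, 4]), (0x62472708793f6, [1, 2, 1, 3, 7, 4]), (0x62871a6f9c5c2, [1, 2, 5, 1, 8, 4, 2, 1, 2]), (0x629c5f04d30ae, [1, 3, 4, 7, 4, 2, 3]), (0x62d317972c914, [1, 7, 4, 2, 1, 2, 1]), (0x62e52dcff194e, [1, 8, 4, 2, 1, 2, 4]), (0x62ec644bd41af, [1, 2, 5, 1, 8, 4, 2, 8, 4]), (0x63063a7b16412, [1, 3, 8, 4, 2, 1, 2, 4, 8]), (0x634a494d30367, [1, 2, 3, 4, 8,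 4, 2, 1]), (0x635cd24ea9c6c, [1, 2, 3, 2, 4, 2, 1, 7]), (0x638e7b0e8eb59, [1, 8, 4, 2, 1, 3, 7, 4, 2]), (0x6394fafe71274, [3, 7, 4, 2, 1, 2, 4, 5, 8]), (0x63b055515e348, [1, 4, 2, 1, 8]), (0x63b05eb66b3fd, [1, 2, 8, 4, 2, 1, 2, 3]), (0x63b4048dc14f5, [1, 4, 2, 1, 3, 2, 7]), (0x63dce2d606fef, [3, 7]), (0x63f9250c8f0aa, [1, 2, 1, 4, 8, 4, 2, 1, 2, 5]), (0x640cef16e7e52, [1, 2, 1, 7, 4, 2, 1]), (0x640f4f72d53b4, [1, 2, 1, 3, 4, 2, 8, 4, 2, 3]), (0x6420fd3ae4058, [1, 3, 7, 4, 2, 1, 2]), (0x642881338005e, [1, 2, 3, 2, 4, 2, 8]), (0x6433164191f6d, [1, 4, 2, 1, 3, 2, 8]), (0x6444b7340aee0, [1, 4, 2, 1, 3, 8]), (0x64491b2b5b7bf, [1, 4, 7, 4, 2, 1, 2, 5]), (0x6464808da0e1c, [1, 2, 1, 5, 7, 4, 2]), (0x64a7799157f9e, [1, 2, 1, 8, 4]), (0x64ab867b361e6, [1, 2, 7, 4, 2, 3, 8]), (0x64b30034e34b4, [3, 2, 7, 4, 2, 1, 2, 1]), (0x64b71cb4c4419, [1, 2, 3, 7, 4, 8]), (0x64b9fc370b830, [1, 2, 5, 7, 4, 2, 3]), (0x64bd3e3cd41c3, [1, 2, 4, 2, 8]), (0x64dd84b001171,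 [1, 4, 2, 3, 7, 4, 2, 7, 4]), (0x653769c82452e, [1, 4, 2, 1, 3, 7])]

/-- Test values with their words, part 16. -/
def cj16 : List (ℕ × List ℕ) := [(0x65658f589075d, [1, 4, 2, 8, 4, 2, 1, 8]), (0x6565a303d2930, [1, 2, 3, 4, 2, 1, 5, 8]), (0x65676b4e5567e, [1, 2, 7, 4, 2, 1, 3, 2]), (0x656e671be96c5, [1, 2, 8, 4, 2, 3]), (0x65926affd8b36, [1, 2, 1, 3, 7, 4, 2, 1, 5, 7]), (0x663407f5d0f58, [1, 2, 3, 4, 2, 3, 8, 4, 2]), (0x6662103f9577f, [1, 3, 7, 4, 2, 1, 2, 4, 7]), (0x66a87fc871869, [1, 4, 2, 8, 4]), (0x66c456471448c, [1, 2, 4, 2, 1, 8, 4]), (0x6717fe96678ea, [1, 2, 1, 5, 7, 4, 2, 1, 2, 3]), (0x6737c0e6203c0, [1, 2, 4, 7, 4, 2, 1, 3, 2]), (0x6743dc4757e6f, [1, 2, 1, 4, 7, 4, 2, 1, 2, 1]), (0x675d9d5220b4e, [1, 7, 4, 2, 1, 3, 2, 1, 7]), (0x67850cbd93868, [1, 4, 8, 4, 2, 1, 2]), (0x678a955237333, [1, 8, 4, 2, 1, 8, 4, 7]), (0x67ae997c0d896, [1, 3, 4, 2, 3, 8, 4, 2, 1]), (0x67b5c61005f1b, [1, 2, 1, 4, 5, 7, 4, 2, 1]), (0x67b79af744d16,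 [3, 7, 4, 2, 1, 2, 1, 4, 7]), (0x67c7a11aa3776, [1, 2, 4, 2, 5, 1]), (0x67dbe12e9164c, [3, 2, 8, 4, 2, 1, 2, 1, 3]), (0x67f8a29af5e11, [1, 2, 7, 4, 2, 1, 3, 2, 1]), (0x6806cca5da9fc, [1, 3, 7, 4, 2, 1, 2, 4, 8]), (0x6811a4476005b, [1, 3, 7, 4, 2, 3, 8]), (0x681f49933d1c4, [1, 2, 3, 4, 2, 1, 3, 2, 8]), (0x6831ec0ff6c3e, [3, 7, 4, 2, 1, 2, 4, 5, 1]), (0x684e0018ea382, [1, 2, 4, 2, 5, 8, 4, 2]), (0x684f5c8745912, [3, 8, 4, 2, 1, 2, 1, 3, 4]), (0x68608e62856dc, [1, 2, 3, 2, 8, 4]), (0x687bba068ce74, [1, 3, 4, 2, 3, 8, 4, 2]), (0x6912ebcb3de2c, [1, 4, 2, 8, 4, 2, 1, 2, 5]), (0x6950ddb3fe73e, [1, 2, 3, 8, 4, 2, 1, 8, 4]), (0x695338df3ecc0, [1, 2, 1, 2, 7, 4, 2, 1, 3, 8]), (0x6962f8abf31ef, [1, 3, 7]), (0x698a32df68e1c, [1, 2, 7, 4]), (0x698c3b07b328c, [1, 2, 5, 1, 8, 4, 7]), (0x69bb777fa6207, [1, 2, 4, 2, 1, 8, 4, 2, 1]), (0x69d20685a3d89, [1, 2, 3, 2, 4, 2, 7, 4, 2]), (0x6a01478dc2231, [1, 2, 4, 2, 5, 7, 4, 2]), (0x6a2b5f429b687, [1, 2,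 1, 5, 8, 4, 7]), (0x6a4136f822ce6, [1, 2, 1, 4, 7, 4, 2, 1]), (0x6a7b47d6beb76, [1, 3, 7, 4, 2, 1, 7, 4, 2]), (0x6a8eb65791130, [1, 2, 4, 7, 4]), (0x6a9b66d4bf568, [1, 2, 1, 7, 4, 2, 1, 7, 4]), (0x6a9f7541fb574, [1, 2, 1, 3, 7, 4, 8]), (0x6aca4b93ad609, [1, 4, 2, 7, 4, 2, 3, 8]), (0x6acac664773ed, [1, 2, 3, 4, 8, 4]), (0x6acb9842cf710, [1, 2, 7, 4, 2, 1, 5, 7]), (0x6ade15dd4d282, [1, 3, 4, 2, 3, 7, 4, 8]), (0x6b137fe906799, [1, 3, 8, 4, 2, 1, 2]), (0x6b15bb2e47843, [1, 7, 4, 2, 1, 2, 5]), (0x6b2cb0f4e0d8c, [1, 4, 2, 7, 4, 8]), (0x6b33a35a63534, [1, 2, 4]), (0x6b5b8b67a78a1, [1, 2, 8, 4, 2, 1]), (0x6b71cd43a0fe4, [1, 7, 4, 2, 1, 2, 4]), (0x6b819a46b4e7f, [1, 3, 4, 8, 4, 2, 1, 2]), (0x6b863312ec598, [1, 4, 2, 3, 7, 4, 2, 1, 7]), (0x6bbcd47c94844, [1, 8, 4, 2, 3, 7, 4]), (0x6c1ca96059b6c, [1, 7, 4, 2, 1, 2, 4, 5, 1]), (0x6c30769d21a48, [1, 2, 1, 3, 4, 8, 4, 2]), (0x6c36dbf7d0c44, [3, 8, 4, 2, 1, 2, 1, 4, 5]), (0x6c815725670f6, [1, 7, 4,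 2, 1, 2, 1, 4, 2]), (0x6cccb70383638, [3, 7, 4, 2, 1, 2, 3, 5]), (0x6cce1eab06298, [1, 2, 3, 8, 4, 2, 1]), (0x6d1f50310dece, [1, 7, 4, 2, 1, 2, 3, 7])]

/-- Test values with their words, part 17. -/
def cj17 : List (ℕ × List ℕ) := [(0x6d2b4a82712a1, [1, 2, 7, 4, 2, 1, 2, 3, 4]), (0x6d373b20bf623, [1, 2, 3, 2, 8, 4, 2]), (0x6d3a1030c90d4, [1, 2, 3, 2, 4, 7]), (0x6d7630e08f05f, [1, 8, 4, 2, 1, 2, 3, 2]), (0x6d8c434bdc218, [1, 7, 4, 2, 1, 7, 4, 2, 3]), (0x6dd3efa0f974a, [1, 3, 4, 2, 7, 4, 2, 1]), (0x6dddeac84af67, [1, 2, 4, 7, 4, 2, 3]), (0x6de24d862356f, [1, 2, 5, 7, 4, 2, 1, 2]), (0x6e4b1b31b359f, [1, 7]), (0x6e55eb277acde, [1, 2, 1, 2, 5, 8]), (0x6e5b3d2d7fda0, [3, 8, 4, 2]), (0x6e696b867b0f7, [1, 4, 2, 1, 5, 8, 4, 7]), (0x6e74e57bec06d, [1, 2, 4, 2, 1, 2, 5]), (0x6e8bdf071fefc, [1, 2, 4, 2, 5, 7]), (0x6e9373f2509e3, [1, 3, 8, 4, 2, 1, 8]), (0x6ef2af7af873b, [1, 8, 4, 2, 1, 3, 2, 4, 7]), (0x6f0350a9497e0, [1, 7, 4, 2, 1, 3, 2, 1]),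 (0x6f097a141e4fe, [3, 8, 4, 2, 1, 2, 4, 7]), (0x6f0d4d004aed8, [1, 2, 4, 2, 1, 2, 7]), (0x6f3f6debf1667, [1, 4, 2, 3, 8, 4, 2, 1, 3]), (0x6f4151a23d984, [1, 2, 3, 4, 2, 1, 3, 2, 7]), (0x6f592429be6c5, [1, 8, 4, 2, 1, 8, 4, 2]), (0x6f59e3f05b06b, [1, 7, 4, 2, 1, 7, 4, 2, 1]), (0x6f8fbee28486f, [1, 3, 8, 4, 2, 1, 8, 4]), (0x6fa8ce838bdf4, [1, 2, 1, 7, 4, 2, 1, 2]), (0x6fb16b1167713, [1, 2, 3, 4, 7, 4, 2, 1]), (0x6ff4482e3d0f3, [1, 2, 1, 4, 7, 4, 2, 1, 3, 2]), (0x7004fbc87ef46, [1, 7, 4, 2, 1, 2, 4, 5]), (0x700b7d62cd57f, [1, 2, 3, 4, 7, 4]), (0x7013ba123edc4, [1, 2, 3, 4, 2, 1, 8]), (0x7013c979e28ee, [1, 2, 4, 2]), (0x7022ebf2888df, [1, 2, 4, 2, 5, 8, 4, 2, 3]), (0x706365100082d, [1, 7, 4, 2, 1, 2, 3, 2, 8]), (0x7076c9a517fb0, [1, 4, 2, 1, 3, 8, 4]), (0x707a2e717b3b3, [1, 4, 8, 4, 2, 1]), (0x708a056f63718, [1, 4, 2, 1, 7, 4, 2, 7]), (0x709c30b41aea5, [1, 8, 4, 7]), (0x70a3da292e9fd, [1, 2, 1, 3, 8, 4, 2, 1]), (0x71277e3e7b606, [1, 2,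 3, 4, 7]), (0x712ea6d02de4f, [1, 2, 3]), (0x713758f544eaf, [1, 2, 3, 4, 2, 8]), (0x7137d837caeb8, [1, 2, 1, 5, 8, 4, 2]), (0x713ca0ac1abb3, [1, 3, 4, 2, 3, 8, 4, 7]), (0x7143a87dfb7bc, [1, 2, 1, 5, 8, 4, 2, 1, 2, 1]), (0x71442c2675f98, [1, 2, 3, 8, 4, 2, 8, 4]), (0x714c5cd3f9f70, [1, 2, 1, 4, 8, 4, 2, 1, 5]), (0x7164925b5d068, [1, 2, 1, 3, 7, 4, 2, 1, 2, 4]), (0x71891444c2a89, [3, 2, 7, 4, 2, 1, 2, 1, 5]), (0x71999e9ee4bd3, [1, 2, 3, 8, 4, 2, 1, 3, 2]), (0x71bdb1dcbbe25, [1, 2, 5, 8, 4, 2, 3, 7, 4]), (0x71bf722e7b606, [1, 2, 7, 4, 2, 1, 7]), (0x71c83cecc178d, [1, 2, 1, 2, 5]), (0x71df6ffa9413b, [1, 2, 7, 4, 2, 1, 2, 1, 8]), (0x71f91d09117ce, [1, 2, 1, 3, 7, 4, 2, 7, 4, 8]), (0x721c2117ed12a, [1, 4, 2, 3, 7, 4]), (0x722e6590795f1, [1, 2, 4, 5, 1, 7]), (0x7236c3d331394, [1, 3, 8, 4, 2, 3, 7, 4, 2]), (0x7243233fd05bf, [1, 4, 2, 1, 5, 7, 4, 2]), (0x72655e329b9c1, [1, 8, 4]), (0x726a50cf5481a, [1, 3, 8, 4, 2, 1, 2, 4, 7]), (0x726af23e63a94,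 [1, 2, 1, 3, 8, 4, 2, 8]), (0x72b594cd6fd0d, [1, 2, 1, 4, 8, 4]), (0x72ef8d0db0ab9, [1, 2, 7, 4, 2, 1, 2, 3, 7]), (0x72fb5e910542e, [1, 2, 4, 2, 8, 4, 2, 1, 5])]

/-- Test values with their words, part 18. -/
def cj18 : List (ℕ × List ℕ) := [(0x7355f88960a49, [1, 2, 8, 4, 2, 1, 2, 1]), (0x7356894cec863, [1, 2, 4, 5, 7, 4]), (0x735861009c42e, [1, 2, 1, 7, 4, 2, 1, 3, 2]), (0x7373e695cd595, [1, 4, 2, 1, 7, 4, 8]), (0x73843a59ac70a, [1, 3, 7, 4]), (0x73a19d46d8c86, [1, 2, 1, 3, 8, 4, 2, 8, 4]), (0x73c2e92f87a81, [1, 8, 4, 2, 1, 2, 4, 7]), (0x73c5e29e2915a, [1, 2, 1, 4, 5, 7, 4, 2, 3]), (0x73da4e6db14d3, [1, 4, 2, 7, 4, 2, 1, 5]), (0x73f1e63f5e85b, [1, 8, 4, 2, 1, 2, 3, 2, 4]), (0x73f62fa9795e2, [1, 7, 4, 2, 1, 2, 3, 4]), (0x740e479c9541d, [1, 2, 4, 2, 1, 3, 8]), (0x7427934613f8c, [1, 4, 2, 3, 8]), (0x746895fec3357, [3, 4, 7, 4, 2]), (0x74748bfd49789, [1, 2, 1, 7, 4, 2, 7, 4]), (0x74839013110c0, [1, 2, 8, 4, 2, 3, 7]), (0x748689c2024bd,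 [1, 2, 5, 7, 4, 2, 1, 7, 4]), (0x7486c625d025f, [1, 2, 4, 2, 3, 7]), (0x74890f616a720, [1, 7, 4, 2, 1, 2]), (0x748db1029376c, [1, 8, 4, 2, 1, 3, 2, 1]), (0x74e68bc62cd1e, [1, 2, 4, 5, 1, 2, 8, 4]), (0x7522661a2c1c1, [1, 2, 8, 4, 2, 1, 2, 5]), (0x7526805870e1c, [1, 2, 7, 4, 2, 1, 2, 3, 2]), (0x7591eb1dad355, [1, 4, 7, 4, 2, 3]), (0x7594ea58b4bec, [1, 2, 3, 2, 7, 4, 2]), (0x7595072a557d1, [1, 4, 2, 3, 7, 4, 2, 7]), (0x75a57cf28f7b9, [1, 2, 3, 2, 7, 4, 2, 1, 2]), (0x75c0631f621aa, [1, 3, 8, 4, 2, 1, 2, 1]), (0x75ddc53996f90, [1, 3, 4, 2, 7, 4, 2, 1, 7]), (0x7615521de0aec, [1, 2, 8, 4, 2, 1, 2, 7, 4]), (0x76292c1635445, [1, 2, 3, 8, 4, 2, 1, 5, 8]), (0x7642be8b41044, [1, 2, 1, 2, 7, 4, 2, 1, 5, 7]), (0x764eb7f1bdfd7, [1, 2, 3, 2, 4, 2, 3, 7]), (0x76cdca1087d1f, [1, 2, 1, 4, 5, 8, 4, 2, 1]), (0x76e8f12303ed7, [1, 2, 1, 4, 7, 4, 2, 1, 2, 3]), (0x76f844fbee924, [1, 2, 7, 4, 2, 1, 3, 8, 4]), (0x770260b00fbd0, [1, 8, 4, 2, 1, 2, 5, 1]), (0x77116a25092d6,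 [3, 4, 8, 4, 2, 1, 2, 1, 4]), (0x7719627334e30, [1, 2, 4, 2, 1, 2, 7, 4]), (0x772879dcaceef, [3, 8, 4]), (0x772e248bbc86b, [1, 2, 4, 5, 1, 8, 4]), (0x77300e599c154, [1, 2, 1, 3, 4, 2, 7, 4, 2, 7]), (0x77382e16a5131, [1, 3, 8, 4, 2, 1, 2, 1, 7]), (0x7740a71075e04, [4, 2, 8]), (0x77658270faaa9, [1, 2, 1, 3, 4, 2, 8]), (0x779c61b580c4b, [1, 4, 2, 8, 4, 2]), (0x77a3c98bbe2ce, [3, 2, 8]), (0x77ab533846602, [3, 8, 4, 2, 1]), (0x77bf5764521ac, [1, 2, 3, 4, 2, 3, 8]), (0x77bf6a6a69a10, [1, 3, 7, 4, 2, 1, 2, 1, 5]), (0x77c9f86f6c7bf, [1, 2, 1, 3, 7, 4, 2, 3, 8]), (0x77cb06795987f, [1, 3, 8, 4, 2, 1]), (0x77ef8bbb1ac37, [1, 3, 4, 7, 4, 2, 1]), (0x785c0f8968cd2, [1, 2, 3, 4, 2, 1, 3, 2]), (0x78cc67d354e23, [1, 2, 3, 8, 4, 2, 8]), (0x78d7ca168a62e, [1, 7, 4, 2, 3]), (0x78e6750095aee, [1, 2, 3, 4, 2, 7, 4]), (0x78fa6104393fe, [1, 3, 8, 4, 2, 1, 2, 3, 4]), (0x78fef78b70a72, [1, 2, 1, 8, 4, 2, 1, 2, 7]), (0x792faf2a6d30b, [1, 3, 7, 4, 2, 1, 2, 3,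 7]), (0x794cd052f818a, [3, 8, 4, 2, 1, 2, 1, 4, 2]), (0x796e19874ac13, [1, 2, 3, 7, 4, 2, 1, 2, 8]), (0x7978d750ff579, [1, 2, 3, 4, 2, 3, 7]), (0x79a961201ac94, [1, 2, 1, 3, 4, 8, 4, 2, 1])]

/-- Test values with their words, part 19. -/
def cj19 : List (ℕ × List ℕ) := [(0x79d09ce917f3a, [1, 2, 3, 7, 4, 2, 1, 7]), (0x79e6b5f4b2c75, [1, 4, 2, 1, 7, 4, 2, 1]), (0x79eab45a0f33a, []), (0x79f7d78d07e14, [1, 2, 1, 7, 4, 2, 1, 3, 8]), (0x79f7fb1a29861, [1, 2, 3, 4, 2, 1, 5, 7]), (0x7a943f6e69a42, [1, 2, 4, 2, 3, 8]), (0x7ab8f8c5f701b, [1, 2, 4, 2, 7, 4, 2]), (0x7ac0e97aad3f8, [1, 4, 2, 3, 7, 4, 2, 1, 2]), (0x7ad52d62f20ae, [1, 2, 5, 8, 4, 2, 1, 2, 3]), (0x7ae431d18cfa1, [1, 2, 3, 2, 7]), (0x7b31854864be3, [1, 2, 1, 2, 7, 4, 2, 1]), (0x7b3d96ee4f383, [1, 2, 3, 2, 4, 2]), (0x7b4725296d2bb, [1, 2, 1, 4, 8, 4, 2, 1, 3, 2]), (0x7b71df3eb05a6, [1, 7, 4, 2, 1, 3, 2, 4, 8]), (0x7b89ab76b9295, [1, 2, 5, 1, 8, 4, 2, 1]), (0x7bc35d2949292, [1, 3, 8,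 4, 2, 3, 7, 4]), (0x7bc3c4af7bbf2, [1, 2, 5, 7, 4]), (0x7bcdd503d236b, [1, 7, 4, 2, 1, 3, 2, 4]), (0x7bd61ef31dbc5, [1, 2, 4, 5, 7]), (0x7be0d94839de6, [1, 2, 1, 7, 4, 2, 3, 8]), (0x7c2c64872000b, [1, 2, 7, 4, 2, 1, 2, 1, 5]), (0x7c3efd47e7735, [1, 2, 3, 4, 2, 7, 4, 2, 1]), (0x7c412ddabd889, [1, 2, 5, 1, 7, 4, 2, 1, 7]), (0x7c59af054f196, [1, 2, 4, 2, 8, 4]), (0x7c6b9bfda5ead, [1, 2, 5, 1, 8, 4, 2, 3]), (0x7c7b0a8599bfe, [1, 2, 1, 4, 7, 4, 2, 1, 2]), (0x7cd89b62105f5, [1, 2, 3, 4, 8, 4, 2, 1, 5]), (0x7ce540e94bfce, [1, 2, 4, 2, 8, 4, 2, 3]), (0x7cee9785b001f, [1, 2, 1, 4, 5, 7, 4, 2, 1, 2]), (0x7cf1aebde9138, [1, 2, 1, 2, 5, 7, 4, 8]), (0x7d04177b14a31, [1, 2, 3, 4, 2, 1, 3, 8, 4]), (0x7d0489eade449, [1, 2, 1, 2, 8]), (0x7d04eecf86c50, [1, 7, 4, 2, 1, 2, 3, 2, 4]), (0x7d0f361187ba0, [1, 8, 4, 2, 1, 3, 2, 8, 4]), (0x7d2d5e4d0b722, [1, 2, 4, 8, 4, 2, 1, 5]), (0x7d361d7d6e9be, [1, 2, 4, 7, 4, 2, 1, 2, 4]), (0x7d5a4675aed76, [3, 7, 4, 2,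 1, 2, 1, 8, 4]), (0x7d771cb480a2c, [1, 3, 4, 2, 8, 4, 2, 3]), (0x7d99fd610a7b0, [1, 4, 2, 1, 7]), (0x7da1960cc6402, [1, 2, 1, 3, 4, 2, 7, 4]), (0x7dd06dc16930f, [1, 7, 4, 2, 1, 2, 1, 5]), (0x7dd20c1202631, [1, 8, 4, 2, 8, 4, 7]), (0x7dd85ac65fd41, [1, 3, 7, 4, 2, 7, 4]), (0x7debe3306a87d, [1, 2, 1, 4, 8, 4, 2, 1, 2]), (0x7e1f8be5a5c32, [1, 4, 2, 3, 8, 4, 2, 1, 2]), (0x7e44093ad81a6, [3, 2, 8, 4, 2, 1, 2]), (0x7eabe27b4b4b4, [1, 2, 3, 4, 2, 3, 8, 4]), (0x7eacbe9c32b5b, [1, 2, 8, 4, 2, 1, 2, 1, 5]), (0x7eaea819248c0, [1, 2, 8, 4, 2, 1, 2, 5, 1]), (0x7eb4dca949760, [1, 7, 4]), (0x7ec25f7c0a683, [3, 2, 7, 4, 2, 1, 5]), (0x7ec271782d3fb, [3, 2, 7, 4, 2, 1, 2, 3, 5]), (0x7ece3f639eaa1, [1, 2, 4, 2, 7, 4, 2, 1]), (0x7eee03747475d, [1, 2, 8, 4, 2, 1, 2, 3, 4]), (0x7eefc2e23ca67, [1, 2, 1, 8, 4, 2, 1, 5, 8]), (0x7f06c9c72c219, [1, 4, 2, 1, 3]), (0x7f6587c79a842, [1, 2, 1, 8, 4, 2, 1, 2, 3]), (0x7f681d6c59793, [1, 8, 4, 2, 1, 2, 5]), (0x7f91169f3db5b,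 [1, 2, 4, 2, 1, 5, 8, 4, 2]), (0x7f96fad782738, [1, 2, 5, 8, 4, 2, 1, 8]), (0x7fafa718871b0, [1, 2, 7, 4, 2]), (0x7fd8c81d48dd6, [1, 2, 5, 1, 8]), (0x7fd8e4422ded9, [1, 2, 4, 2, 8, 4, 2, 1]), (0x7fee7a2285600, [1, 2, 1, 3, 4, 8, 4, 2, 1, 2])]

/-- All parts. -/
def cjParts : List (List (ℕ × List ℕ)) := [cj0, cj1, cj2, cj3, cj4, cj5, cj6, cj7, cj8, cj9, cj10, cj11, cj12, cj13, cj14, cj15, cj16, cj17, cj18, cj19]

end CfsgLib.HeModel
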