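import Cfsg.Agent.Lib.HeModel.Count
import Cfsg.Agent.Lib.HeModel.OrbitData
import Cfsg.Agent.Lib.Presented.HeOrder

/-! An upper bound for the centralizer of an involution of the Held group. -/

set_option autoImplicit false

namespace CfsgLib.HeModel

open CfsgLib.Sporadic CfsgLib.Presented CfsgLib.Fusion48.RepTable

instance finite_He : Finite Cfsg.Spor.He := Nat.finite_of_card_ne_zero HeOrder.card_le.1

/-- A row vector as a matrix with one nonzero row. -/
noncomputable def V (v : ℕ) : Matrix (Fin 51) (Fin 51) (ZMod 2) := decF2 51 v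

theorem V_mul {c : ℕ} {x : Cfsg.Spor.He} (h : code.Rep c x) (v : ℕ) :
    V v * (rho x : Matrix (Fin 51) (Fin 51) (ZMod 2)) = V (mulF2 51 v c) := by
  rw [V, V, decF2_mulF2, h.2]

theorem V_inj {a b : ℕ} (ha : canonF2 51 a = true) (hb : canonF2 51 b = true) (h : V a = V b) : a = b :=
  decF2_injOn ha hb h

/-- The involution. -/
def zEl : Cfsg.Spor.He := PresentedGroup.of Cfsg.Spor.He.Gen.d

/-- Its code. -/
noncomputable def zC : ℕ := gens.getD 3 idC

theorem zEl_rep : code.Rep zC zEl := rep_gen .d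

/-- The stabilizer of the base vector. -/
noncomputable def stabV : Subgroup Cfsg.Spor.He := fixer rho (V baseVec)

/-- What is checked at a point. -/
noncomputable def ptOK (i : ℕ) : Bool :=
  canonF2 51 (ptTab.get i) &&
  (i == 2057 || Nat.blt (ptTab.get i) (ptTab.get (i + 1))) &&
  (i == baseIdx || Nat.blt (ptPar.get i / 8) 2058 && Nat.blt (ptDep.get (ptPar.get i / 8)) (ptDep.get i) &&
    mulF2 51 (ptTab.get (ptPar.get i / 8)) (gens.getD (ptPar.get i % 8) idC) == ptTab.get i) &&
  (List.range 7).all (fun g => Nat.blt (ptImg.get (i * 7 + g)) 2058 &&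
    mulF2 51 (ptTab.get i) (gens.getD g idC) == ptTab.get (ptImg.get (i * 7 + g))) &&
  (!(mulF2 51 (ptTab.get i) zC == ptTab.get i) || fixIdx.contains i)

theorem pts0 : allFrom 0 686 ptOK = true := by decide +kernel
theorem pts1 : allFrom 686 686 ptOK = true := by decide +kernel
theorem pts2 : allFrom 1372 686 ptOK = true := by decide +kernel

theorem base_ok : (Nat.blt baseIdx 2058 && ptTab.get baseIdx == baseVec && mulF2 51 baseVec zC == baseVec &&
    fixIdx.length == 42) = true := by decide +kernel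

/-- The facts at a point. -/
theorem pt_facts {i : ℕ} (hi : i < 2058) :
    canonF2 51 (ptTab.get i) = true ∧
    (i = 2057 ∨ ptTab.get i < ptTab.get (i + 1)) ∧
    (i = baseIdx ∨ ptPar.get i / 8 < 2058 ∧ ptDep.get (ptPar.get i / 8) < ptDep.get i ∧
      mulF2 51 (ptTab.get (ptPar.get i / 8)) (gens.getD (ptPar.get i % 8) idC) = ptTab.get i) ∧
    (∀ g < 7, ptImg.get (i * 7 + g) < 2058 ∧
      mulF2 51 (ptTab.get i) (gens.getD g idC) = ptTab.get (ptImg.get (i * 7 + g))) ∧
    (mulF2 51 (ptTab.get i) zC = ptTab.get i → i ∈ fixIdx) := by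
  have h := of_allFrom_zero (allFrom_append (allFrom_append pts0 pts1) pts2) (i := i) hi
  simp only [ptOK, Bool.and_eq_true, Bool.or_eq_true, beq_iff_eq, Nat.blt_eq, List.all_eq_true, List.mem_range,
    Bool.not_eq_true', beq_eq_false_iff_ne, List.contains_eq_mem, decide_eq_true_eq] at h
  obtain ⟨⟨⟨⟨h1, h2⟩, h3⟩, h4⟩, h5⟩ := h
  exact ⟨h1, h2, h3.imp id (fun q => ⟨q.1.1, q.1.2, q.2⟩), h4, fun e => h5.resolve_left (fun ne => ne e)⟩

theorem base_facts : baseIdx < 2058 ∧ ptTab.get baseIdx = baseVec ∧ mulF2 51 baseVec zC = baseVec ∧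
    fixIdx.length = 42 := by
  have h := base_ok
  simp only [Bool.and_eq_true, beq_iff_eq, Nat.blt_eq] at h
  exact ⟨h.1.1.1, h.1.1.2, h.1.2, h.2⟩

theorem pt_inj {i j : ℕ} (hj : j < 2058) (hij : i < j) : ptTab.get i < ptTab.get j := by
  induction j with
  | zero => omega
  | succ j ih =>
    have h := ((pt_facts (show j < 2058 by omega)).2.1).resolve_left (by omega)
    rcases Nat.lt_succ_iff_lt_or_eq.mp hij with hlt | rfl
    · exact (ih (by omega) hlt).trans h
    · exact h

theorem reach : ∀ d i, i < 2058 → ptDep.get i = d →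
    ∃ x : Cfsg.Spor.He, V baseVec * (rho x : Matrix (Fin 51) (Fin 51) (ZMod 2)) = V (ptTab.get i) := by
  intro d
  induction d using Nat.strong_induction_on with
  | _ d ih =>
    intro i hi hd
    rcases (pt_facts hi).2.2.1 with rfl | ⟨hp, hlt, he⟩
    · exact ⟨1, by rw [base_facts.2.1, map_one, Units.val_one, mul_one]⟩
    · obtain ⟨x, hx⟩ := ih _ (hd ▸ hlt) _ hp rfl
      obtain ⟨g, hg⟩ := exists_gen (ptPar.get i % 8)
      exact ⟨x * g, step_mul rho hx ((V_mul hg _).trans (congrArg V he))⟩

theorem closed (x : Cfsg.Spor.He) : ∀ i < 2058, ∃ j < 2058,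
    V (ptTab.get i) * (rho x : Matrix (Fin 51) (Fin 51) (ZMod 2)) = V (ptTab.get j) := by
  have hx : x ∈ Submonoid.closure (Set.range (PresentedGroup.of : Cfsg.Spor.He.Gen → Cfsg.Spor.He)) := by
    rw [← Subgroup.closure_toSubmonoid_of_finite, PresentedGroup.closure_range_of]
    trivial
  induction hx using Submonoid.closure_induction with
  | one => exact fun i hi => ⟨i, hi, by rw [map_one, Units.val_one, mul_one]⟩
  | mul a b _ _ iha ihb =>
    intro i hi
    obtain ⟨j, hj, e⟩ := iha i hi
    obtain ⟨k, hk, e'⟩ := ihb j hj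
    exact ⟨k, hk, step_mul rho e e'⟩
  | mem g hg =>
    obtain ⟨a, rfl⟩ := hg
    intro i hi
    have h7 : HeCosets.idxOf a < 7 := by cases a <;> decide
    obtain ⟨h1, h2⟩ := (pt_facts hi).2.2.2.1 _ h7
    exact ⟨_, h1, (V_mul (rep_gen a) _).trans (congrArg V h2)⟩

theorem card_stabV : Nat.card stabV * 2058 ≤ 4030387200 := by
  choose f hf using fun i : Fin 2058 => reach _ i.1 i.2 rfl
  have h := card_mul_le_of_sep (le_top : stabV ≤ ⊤) f (fun _ => Subgroup.mem_top _) (fun i j hij => by
    have e : V (ptTab.get i.1) = V (ptTab.get j.1) := by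
      rw [← hf i, ← hf j]
      have := step_mul rho (mem_fixer.mp hij) (rfl : V baseVec * (rho (f j) : Matrix _ _ (ZMod 2)) = _)
      rwa [inv_mul_cancel_right] at this
    have e' := V_inj (pt_facts i.2).1 (pt_facts j.2).1 e
    rcases lt_trichotomy i.1 j.1 with h | h | h
    · exact absurd e' (pt_inj j.2 h).ne
    · exact Fin.ext h
    · exact absurd e' (pt_inj i.2 h).ne')
  rwa [Nat.card_congr Subgroup.topEquiv.toEquiv, HeOrder.card_eq] at h

/-- Strictly increasing. -/
def incrB : List ℕ → Bool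
  | a :: b :: l => Nat.blt a b && incrB (b :: l)
  | _ => true

theorem pairwise_of_incrB : ∀ {l : List ℕ}, incrB l = true → l.Pairwise (· < ·)
  | [], _ => List.Pairwise.nil
  | [_], _ => List.pairwise_singleton _ _
  | a :: b :: l, h => by
    simp only [incrB, Bool.and_eq_true, Nat.blt_eq] at h
    have ih := pairwise_of_incrB h.2
    refine List.pairwise_cons.mpr ⟨fun c hc => ?_, ih⟩
    rcases List.mem_cons.mp hc with rfl | hc'
    · exact h.1
    · exact h.1.trans ((List.pairwise_cons.mp ih).1 c hc')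

/-- A word in the stabilizer applied to a vector. -/
noncomputable def fwd (w : List ℕ) (v : ℕ) : ℕ := w.foldl (fun u j => mulF2 51 u (stabTab.getD j idC)) v

/-- The inverse word applied to a vector. -/
noncomputable def bwd (w : List ℕ) (v : ℕ) : ℕ :=
  w.reverse.foldl (fun u j => mulF2 51 u (stabTab.getD (stabInv.getD j 9) idC)) v

/-- What is checked at a conjugate. -/
noncomputable def cjOK (p : ℕ × List ℕ) : Bool :=
  canonF2 51 p.1 && fwd p.2 (mulF2 51 (bwd p.2 testVec) zC) == p.1

theorem stab_ok : (stabTab.length == 9 && stabInv.length == 9 && (List.range 9).all (fun j =>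
    word (stabWords.getD j []) == stabTab.getD j idC && mulF2 51 baseVec (stabTab.getD j idC) == baseVec &&
    mulF2 51 (stabTab.getD j idC) (stabTab.getD (stabInv.getD j 9) idC) == idC)) = true := by decide +kernel

theorem cjA0 : (cjParts.take 5).all (fun l => l.all cjOK) = true := by decide +kernel
theorem cjA1 : ((cjParts.drop 5).take 5).all (fun l => l.all cjOK) = true := by decide +kernel
theorem cjA2 : ((cjParts.drop 10).take 5).all (fun l => l.all cjOK) = true := by decide +kernel
theorem cjA3 : (cjParts.drop 15).all (fun l => l.all cjOK) = true := by decide +kernel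
theorem cj_incr : (incrB (cjParts.flatten.map Prod.fst) && cjParts.flatten.length == 1280) = true := by
  decide +kernel

theorem cj_all : ∀ p ∈ cjParts.flatten, cjOK p = true := by
  intro p hp
  obtain ⟨l, hl, hpl⟩ := List.mem_flatten.mp hp
  have h : l ∈ cjParts.take 5 ++ ((cjParts.drop 5).take 5 ++ ((cjParts.drop 10).take 5 ++ cjParts.drop 15)) := hl
  rcases List.mem_append.mp h with h | h
  · exact List.all_eq_true.mp (List.all_eq_true.mp cjA0 l h) p hpl
  rcases List.mem_append.mp h with h | h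
  · exact List.all_eq_true.mp (List.all_eq_true.mp cjA1 l h) p hpl
  rcases List.mem_append.mp h with h | h
  · exact List.all_eq_true.mp (List.all_eq_true.mp cjA2 l h) p hpl
  · exact List.all_eq_true.mp (List.all_eq_true.mp cjA3 l h) p hpl

theorem exists_word : ∀ w : List ℕ, ∃ x, code.Rep (word w) x
  | [] => ⟨1, code.rep_one⟩
  | i :: w => by
    obtain ⟨g, hg⟩ := exists_gen i
    obtain ⟨x, hx⟩ := exists_word w
    exact ⟨g * x, code.rep_mul hg hx⟩

theorem stab_elem (j : ℕ) : ∃ x ∈ stabV, code.Rep (stabTab.getD j idC) x ∧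
    code.Rep (stabTab.getD (stabInv.getD j 9) idC) x⁻¹ := by
  have h := stab_ok
  simp only [Bool.and_eq_true, beq_iff_eq, List.all_eq_true, List.mem_range] at h
  obtain ⟨⟨h1, h2⟩, h3⟩ := h
  have hall : ∀ k, ∃ y, code.Rep (stabTab.getD k idC) y := fun k => by
    rcases Nat.lt_or_ge k 9 with hk | hk
    · rw [← (h3 k hk).1.1]; exact exists_word _
    · rw [List.getD_eq_default _ _ (h1.trans_le hk)]; exact ⟨1, code.rep_one⟩
  rcases Nat.lt_or_ge j 9 with hj | hj
  · obtain ⟨x, hx⟩ := hall j
    obtain ⟨y, hy⟩ := hall (stabInv.getD j 9)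
    have hm := code.rep_mul hx hy
    rw [show code.mul (stabTab.getD j idC) (stabTab.getD (stabInv.getD j 9) idC) = idC from (h3 j hj).2] at hm
    have hxy : x * y = 1 := code.rep_uniq hm code.rep_one
    exact ⟨x, (V_mul hx _).trans (congrArg V (h3 j hj).1.2), hx, (eq_inv_of_mul_eq_one_right hxy) ▸ hy⟩
  · refine ⟨1, one_mem _, ?_, ?_⟩
    · rw [List.getD_eq_default _ _ (h1.trans_le hj)]; exact code.rep_one
    · rw [inv_one, List.getD_eq_default stabInv _ (h2.trans_le hj), List.getD_eq_default _ _ (h1.le)]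
      exact code.rep_one

theorem word_elem : ∀ w : List ℕ, ∃ x ∈ stabV, ∀ v, V v * (rho x : Matrix (Fin 51) (Fin 51) (ZMod 2)) = V (fwd w v) ∧
    V v * (rho x⁻¹ : Matrix (Fin 51) (Fin 51) (ZMod 2)) = V (bwd w v)
  | [] => ⟨1, one_mem _, fun v => ⟨by rw [map_one, Units.val_one, mul_one]; rfl,
      by rw [inv_one, map_one, Units.val_one, mul_one]; rfl⟩⟩
  | j :: w => by
    obtain ⟨g, hg, hg1, hg2⟩ := stab_elem j
    obtain ⟨x, hx, hv⟩ := word_elem w
    refine ⟨g * x, mul_mem hg hx, fun v => ⟨step_mul rho (V_mul hg1 v) (hv _).1, ?_⟩⟩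
    rw [mul_inv_rev]
    refine step_mul rho (hv v).2 ((V_mul hg2 _).trans ?_)
    rw [bwd, bwd, List.reverse_cons, List.foldl_append]
    rfl

theorem card_cent_stabV : Nat.card (Subgroup.centralizer {zEl} ⊓ stabV : Subgroup Cfsg.Spor.He) * 1280 ≤
    Nat.card stabV := by
  have hinc := cj_incr
  simp only [Bool.and_eq_true, beq_iff_eq] at hinc
  have hnd := (pairwise_of_incrB hinc.1).imp (S := (· ≠ ·)) (fun h => h.ne)
  choose f hfK hf using fun i : Fin cjParts.flatten.length => word_elem (cjParts.flatten[i.1]).2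
  have hkey : ∀ i : Fin cjParts.flatten.length,
      V testVec * (rho ((f i)⁻¹ * zEl * f i) : Matrix (Fin 51) (Fin 51) (ZMod 2)) = V (cjParts.flatten[i.1]).1 := by
    intro i
    have h := cj_all _ (List.getElem_mem i.2)
    simp only [cjOK, Bool.and_eq_true, beq_iff_eq] at h
    exact step_mul rho (step_mul rho (hf i testVec).2 (V_mul zEl_rep _)) (((hf i _).1).trans (congrArg V h.2))
  have h := card_mul_le_of_sep (inf_le_right : Subgroup.centralizer {zEl} ⊓ stabV ≤ stabV) f hfK (fun i j hij => by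
    have hc := Subgroup.mem_centralizer_singleton_iff.mp (Subgroup.mem_inf.mp hij).1
    have e : (f i)⁻¹ * zEl * f i = (f j)⁻¹ * zEl * f j := by
      calc (f i)⁻¹ * zEl * f i = (f i)⁻¹ * (zEl * (f i * (f j)⁻¹)) * f j := by group
        _ = (f i)⁻¹ * ((f i * (f j)⁻¹) * zEl) * f j := by rw [hc]
        _ = (f j)⁻¹ * zEl * f j := by group
    have e' := hkey i
    rw [e, hkey j] at e'
    have hc1 : ∀ k : Fin cjParts.flatten.length, canonF2 51 (cjParts.flatten[k.1]).1 = true := fun k => by
      have h := cj_all _ (List.getElem_mem k.2)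
      simp only [cjOK, Bool.and_eq_true] at h
      exact h.1
    have e'' := V_inj (hc1 j) (hc1 i) e'
    by_contra hne
    have hnd' : (cjParts.flatten.map Prod.fst).Nodup := hnd
    have := (List.Nodup.getElem_inj_iff hnd' (i := i.1) (j := j.1)
      (hi := by rw [List.length_map]; exact i.2) (hj := by rw [List.length_map]; exact j.2)).mp
      (by rw [List.getElem_map, List.getElem_map]; exact e''.symm)
    exact hne (Fin.ext this))
  rw [hinc.2] at h
  exact h

theorem zEl_mem_stabV : zEl ∈ stabV := (V_mul zEl_rep _).trans (congrArg V base_facts.2.2.1)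

theorem card_cent_le : Nat.card (Subgroup.centralizer ({zEl} : Set Cfsg.Spor.He)) ≤
    42 * Nat.card (Subgroup.centralizer {zEl} ⊓ stabV : Subgroup Cfsg.Spor.He) := by
  have hex : ∀ x : Subgroup.centralizer ({zEl} : Set Cfsg.Spor.He), ∃ k : {i // i ∈ fixIdx.toFinset},
      V baseVec * (rho (x : Cfsg.Spor.He) : Matrix (Fin 51) (Fin 51) (ZMod 2)) = V (ptTab.get k.1) := by
    intro x
    obtain ⟨j, hj, e⟩ := closed x baseIdx base_facts.1
    rw [base_facts.2.1] at e
    refine ⟨⟨j, List.mem_toFinset.mpr ((pt_facts hj).2.2.2.2 (V_inj (canon_mul _ _) (pt_facts hj).1 ?_))⟩, e⟩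
    have h1 := step_mul rho e (V_mul zEl_rep (ptTab.get j))
    rw [Subgroup.mem_centralizer_singleton_iff.mp x.2] at h1
    exact h1.symm.trans (step_mul rho (mem_fixer.mp zEl_mem_stabV) e)
  choose f hf using hex
  refine (card_le_of_fibres (H := Subgroup.centralizer {zEl} ⊓ stabV) f (fun x y e => Subgroup.mem_inf.mpr
    ⟨mul_mem x.2 (inv_mem y.2), step_div rho (hf x) (e ▸ hf y)⟩)).trans (Nat.mul_le_mul_right _ ?_)
  rw [Nat.card_eq_fintype_card, Fintype.card_coe]
  exact (List.toFinset_card_le _).trans base_facts.2.2.2.le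

theorem card_cent_bound : Nat.card (Subgroup.centralizer ({zEl} : Set Cfsg.Spor.He)) < 64512 := by
  have h1 := card_cent_le
  have h2 := card_cent_stabV
  have h3 := card_stabV
  omega

end CfsgLib.HeModel
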