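import Cfsg.Agent.Lib.HeModel.LinkData
import Cfsg.Agent.Lib.HeModel.Orbit
import Cfsg.Agent.Lib.Sporadic.He

/-! The presented Held group is the 51-dimensional matrix group: transposes of inverses. -/

set_option autoImplicit false

namespace CfsgLib.HeModel

open CfsgLib.Sporadic CfsgLib.Fusion48.RepTable Matrix CfsgLib.Presented

/-- Transpose of the inverse, generic. -/
def tinvHom {n R : Type*} [Fintype n] [DecidableEq n] [CommRing R] : GL n R →* GL n R where
  toFun u := ⟨(u⁻¹ : GL n R).1ᵀ, u.1ᵀ, by rw [← transpose_mul, Units.mul_inv, transpose_one],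
    by rw [← transpose_mul, Units.inv_mul, transpose_one]⟩
  map_one' := Units.ext (by simp)
  map_mul' u v := Units.ext (by simp [_root_.mul_inv_rev, transpose_mul])

theorem tinvHom_val {n R : Type*} [Fintype n] [DecidableEq n] [CommRing R] (u : GL n R) :
    (tinvHom u).1 = (u⁻¹ : GL n R).1ᵀ := rfl

theorem tinvHom_injective {n R : Type*} [Fintype n] [DecidableEq n] [CommRing R] :
    Function.Injective (tinvHom : GL n R →* GL n R) := by
  intro u v h
  have h' : (u⁻¹ : GL n R).1ᵀ = (v⁻¹ : GL n R).1ᵀ := congrArg Units.val h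
  exact inv_injective (Units.ext (transpose_injective h'))

/-- The matrix group's codes. -/
noncomputable def hcode : Coded He.heGroup where
  Rep a x := canonF2 51 a = true ∧ He.emb x.1 = He.dec a
  mul := mulF2 51
  one := He.one
  rep_one := ⟨by decide +kernel, by rw [OneMemClass.coe_one, map_one, He.dec_one]⟩
  rep_mul := fun ha hb => ⟨canon_mul _ _, by rw [Subgroup.coe_mul, map_mul, ha.2, hb.2, He.dec_mul]⟩
  rep_uniq := fun ha hb => Subtype.ext (He.emb_injective (ha.2.trans hb.2.symm))
  rep_code := fun ha hb => decF2_injOn ha.1 hb.1 (ha.2.symm.trans hb.2)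

theorem link_ok : slpOK (mulF2 51) He.one He.topGens linkVals linkProg = true := by decide +kernel

theorem top_canon : He.topGens.all (fun c => canonF2 51 c) = true := by decide +kernel

theorem link_transpose : ((List.range 7).all fun k => (List.range 51).all fun i => (List.range 51).all fun j =>
    (linkVals.getD (linkPos.getD k 0) He.one).testBit (i * 51 + j) ==
      (gens.getD k idC).testBit (j * 51 + i)) = true := by decide +kernel

theorem exists_link (i : ℕ) : ∃ x, hcode.Rep (linkVals.getD i He.one) x := by
  refine slp_spec hcode (fun c hc => ?_) link_ok i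
  obtain ⟨g, hg, e⟩ := He.topGens_mem c hc
  exact ⟨⟨g, hg⟩, List.all_eq_true.mp top_canon c hc, e⟩

theorem tinv_gen (a : Cfsg.Spor.He.Gen) : tinvHom (rho (PresentedGroup.of a)) ∈ He.heGroup := by
  obtain ⟨x, hx⟩ := exists_link (linkPos.getD (HeCosets.idxOf a) 0)
  have h7 : HeCosets.idxOf a < 7 := by cases a <;> decide
  have hsq : code.Rep code.one (PresentedGroup.of a * PresentedGroup.of a) := by
    have h := code.rep_mul (rep_gen a) (rep_gen a)
    have hm : gens.getD (HeCosets.idxOf a) idC ∈ gens := by
      rw [List.getD_eq_getElem _ _ (by rw [gens_facts.1]; exact h7)]; exact List.getElem_mem _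
    rwa [show code.mul (gens.getD (HeCosets.idxOf a) idC) (gens.getD (HeCosets.idxOf a) idC) = code.one from
      (gens_facts.2.1 _ hm).2] at h
  have hinv : (rho (PresentedGroup.of a))⁻¹ = rho (PresentedGroup.of a) := by
    rw [← map_inv, inv_eq_of_mul_eq_one_right (code.rep_uniq hsq code.rep_one)]
  have hval : (tinvHom (rho (PresentedGroup.of a))).1 = He.dec (linkVals.getD (linkPos.getD (HeCosets.idxOf a) 0) He.one) := by
    rw [tinvHom_val, hinv, (rep_gen a).2]
    ext i j
    have h := List.all_eq_true.mp (List.all_eq_true.mp (List.all_eq_true.mp link_transpose _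
      (List.mem_range.mpr h7)) i.1 (List.mem_range.mpr i.2)) j.1 (List.mem_range.mpr j.2)
    rw [beq_iff_eq] at h
    simp only [He.dec, decF2, transpose_apply, of_apply, h]
  rw [He.emb_injective (show He.emb (tinvHom (rho (PresentedGroup.of a))) = He.emb x.1 from hval.trans hx.2.symm)]
  exact x.2

theorem tinv_mem (g : Cfsg.Spor.He) : (tinvHom.comp rho) g ∈ He.heGroup := by
  have hg : g ∈ Subgroup.closure (Set.range (PresentedGroup.of : Cfsg.Spor.He.Gen → Cfsg.Spor.He)) := by
    rw [PresentedGroup.closure_range_of]; trivial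
  induction hg using Subgroup.closure_induction with
  | mem x hx => obtain ⟨a, rfl⟩ := hx; exact tinv_gen a
  | one => rw [map_one]; exact one_mem _
  | mul x y _ _ hx hy => rw [map_mul]; exact mul_mem hx hy
  | inv x _ hx => rw [map_inv]; exact inv_mem hx

/-- The map into the matrix group. -/
noncomputable def toMat : Cfsg.Spor.He →* He.heGroup :=
  (tinvHom.comp rho).codRestrict He.heGroup tinv_mem

theorem exists_fieldFour : ∃ ω : GaloisField 2 2, J3.FieldFour (GaloisField 2 2) ω := by
  classical
  have hc : Nat.card (GaloisField 2 2) = 4 := by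
    rw [GaloisField.card 2 2 two_ne_zero]; norm_num
  let _ : Fintype (GaloisField 2 2) := Fintype.ofFinite _
  obtain ⟨a, ha⟩ : ∃ a : GaloisField 2 2, a ≠ 0 ∧ a ≠ 1 := by
    by_contra hne
    have hsub : (Finset.univ : Finset (GaloisField 2 2)) ⊆ {0, 1} := fun x _ => by
      by_contra hx
      simp only [Finset.mem_insert, Finset.mem_singleton, not_or] at hx
      exact hne ⟨x, hx.1, hx.2⟩
    have := (Finset.card_le_card hsub).trans Finset.card_le_two
    rw [Finset.card_univ, Fintype.card_eq_nat_card, hc] at this
    omega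
  have h3 : a ^ 3 = 1 := by
    have := FiniteField.pow_card_sub_one_eq_one a ha.1
    rwa [Fintype.card_eq_nat_card, hc] at this
  exact ⟨a, hc, (mul_eq_zero.1 (show (a - 1) * (a ^ 2 + a + 1) = 0 by
    linear_combination h3)).resolve_left (sub_ne_zero.2 ha.2)⟩

theorem toMat_bijective : Function.Bijective toMat := by
  obtain ⟨ω, h⟩ := exists_fieldFour
  refine (Nat.bijective_iff_injective_and_card toMat).mpr ⟨?_, by rw [HeOrder.card_eq, He.card_heGroup h]⟩
  intro x y e
  exact rho_injective (tinvHom_injective (congrArg Subtype.val e))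

/-- The presented group is the matrix group. -/
noncomputable def heIso : Cfsg.Spor.He ≃* He.heGroup := MulEquiv.ofBijective toMat toMat_bijective

end CfsgLib.HeModel
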