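import Cfsg.Agent.Lib.HeModel.Link

/-! Centralizers of elements of order 17 in the matrix group. -/

set_option autoImplicit false

namespace CfsgLib.HeModel

open CfsgLib.Sporadic Matrix

/-- The commutant of the element of order 17 in the block is generated by this matrix. -/
def genEight : ℕ := 0x56fd68d4d6bdac58

/-- The first rows of the powers of the element. -/
def cycEight : ℕ := 0x7defde0ed1e4701

/-- The inverse of that matrix. -/
def cycEightInv : ℕ := 0xc6825428adb43501

/-- The element of order 17 in the block. -/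
def sdEight : ℕ := He.sdGens.getD 0 0

/-- Powers of a code. -/
noncomputable def pow8 (c : ℕ) : ℕ → ℕ := fun n => Nat.rec (oneF2 8) (fun _ r => mulF2 8 r c) n

theorem dec_pow8 (c : ℕ) : ∀ n, decF2 8 (pow8 c n) = decF2 8 c ^ n
  | 0 => by rw [pow_zero]; exact decF2_oneF2
  | n + 1 => by
    show decF2 8 (mulF2 8 (pow8 c n) c) = _
    rw [decF2_mulF2, dec_pow8 c n, pow_succ]

theorem eight_ok : (mulF2 8 genEight sdEight == mulF2 8 sdEight genEight &&
    mulF2 8 cycEightInv cycEight == oneF2 8 && pow8 genEight 255 == oneF2 8 &&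
    (List.range 8).all (fun i => cycEight / 2 ^ (8 * i) % 256 == pow8 sdEight i % 256)) = true := by
  decide +kernel

theorem eight_cover : ((List.range 255).map fun i => pow8 genEight i % 256).Nodup ∧
    ((List.range 255).all fun i => pow8 genEight i % 256 != 0) = true := by decide +kernel

theorem row_mod (a : ℕ) (j : Fin 8) : decF2 8 (a % 256) 0 j = decF2 8 a 0 j := by
  simp only [decF2, of_apply, show (256 : ℕ) = 2 ^ 8 from rfl, Nat.testBit_mod_two_pow]
  simp [show (0 : Fin 8).1 * 8 + j.1 < 8 by simpa using j.2]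

theorem cyc_row (i j : Fin 8) : decF2 8 cycEight i j = (decF2 8 sdEight ^ i.1) 0 j := by
  have h := eight_ok
  simp only [Bool.and_eq_true, List.all_eq_true, beq_iff_eq, List.mem_range] at h
  rw [← dec_pow8, ← row_mod, ← h.2 i.1 i.2, row_mod]
  simp only [decF2, of_apply, Nat.testBit_div_two_pow]
  congr 3
  simp [Nat.add_comm, Nat.mul_comm]

/-- A matrix commuting with the element is determined by its first row. -/
theorem eq_of_row {A B : Matrix (Fin 8) (Fin 8) (ZMod 2)} (hA : A * decF2 8 sdEight = decF2 8 sdEight * A)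
    (hB : B * decF2 8 sdEight = decF2 8 sdEight * B) (h : A 0 = B 0) : A = B := by
  have hP : decF2 8 cycEightInv * decF2 8 cycEight = 1 := by
    have h := eight_ok
    simp only [Bool.and_eq_true, beq_iff_eq] at h
    rw [← decF2_mulF2, h.1.1.2, decF2_oneF2]
  have key : decF2 8 cycEight * A = decF2 8 cycEight * B := by
    ext i j
    have e : ∀ C : Matrix (Fin 8) (Fin 8) (ZMod 2), C * decF2 8 sdEight = decF2 8 sdEight * C →
        (decF2 8 cycEight * C) i j = (C * decF2 8 sdEight ^ i.1) 0 j := by
      intro C hC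
      rw [(show Commute C (decF2 8 sdEight) from hC).pow_right i.1 |>.eq, mul_apply, mul_apply]
      exact Finset.sum_congr rfl fun k _ => by rw [cyc_row]
    rw [e A hA, e B hB, mul_apply, mul_apply, h]
  rw [← Matrix.one_mul A, ← hP, Matrix.mul_assoc, key, ← Matrix.mul_assoc, hP, Matrix.one_mul]

/-- An invertible matrix commuting with the element is a power of the generator. -/
theorem eq_pow_gen {A : Matrix (Fin 8) (Fin 8) (ZMod 2)} (hu : IsUnit A)
    (hA : A * decF2 8 sdEight = decF2 8 sdEight * A) : ∃ i, A = decF2 8 genEight ^ i := by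
  classical
  have hg : Commute (decF2 8 genEight) (decF2 8 sdEight) := by
    have h := eight_ok
    simp only [Bool.and_eq_true, beq_iff_eq] at h
    rw [Commute, SemiconjBy, ← decF2_mulF2, h.1.1.1, decF2_mulF2]
  let f : Fin 255 → {v : Fin 8 → ZMod 2 // v ≠ 0} := fun i => ⟨(decF2 8 genEight ^ i.1) 0, by
    intro h0
    have h1 := List.all_eq_true.mp eight_cover.2 i.1 (List.mem_range.mpr i.2)
    simp only [bne_iff_ne] at h1
    refine h1 (Nat.eq_of_testBit_eq fun m => ?_)
    rw [Nat.zero_testBit, show (256 : ℕ) = 2 ^ 8 from rfl, Nat.testBit_mod_two_pow]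
    by_cases hm : m < 8
    · have h2 := congrFun h0 ⟨m, hm⟩
      rw [← dec_pow8] at h2
      simp only [decF2, of_apply, Pi.zero_apply, Fin.val_zero, Nat.zero_mul, Nat.zero_add] at h2
      cases hb : (pow8 genEight i.1).testBit m
      · simp
      · rw [hb] at h2; exact absurd h2 (by decide)
    · simp [hm]⟩
  have hf : Function.Injective f := by
    intro i j e
    have e' : (decF2 8 (pow8 genEight i.1)) 0 = (decF2 8 (pow8 genEight j.1)) 0 := by
      rw [dec_pow8, dec_pow8]; exact congrArg Subtype.val e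
    have hn : pow8 genEight i.1 % 256 = pow8 genEight j.1 % 256 := Nat.eq_of_testBit_eq fun m => by
      rw [show (256 : ℕ) = 2 ^ 8 from rfl, Nat.testBit_mod_two_pow, Nat.testBit_mod_two_pow]
      by_cases hm : m < 8
      · have h2 := congrFun e' ⟨m, hm⟩
        simp only [decF2, of_apply, Fin.val_zero, Nat.zero_mul, Nat.zero_add] at h2
        cases ha : (pow8 genEight i.1).testBit m <;> cases hb : (pow8 genEight j.1).testBit m <;>
          rw [ha, hb] at h2 <;> first | rfl | exact absurd h2 (by decide)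
      · simp [hm]
    exact Fin.ext ((List.Nodup.getElem_inj_iff eight_cover.1 (hi := by simp) (hj := by simp)).mp (by simpa using hn))
  have hcard : Fintype.card {v : Fin 8 → ZMod 2 // v ≠ 0} = 255 := by
    rw [Fintype.card_subtype_compl, Fintype.card_subtype_eq]
    simp
  have hsurj := ((Fintype.bijective_iff_injective_and_card f).mpr ⟨hf, by rw [hcard, Fintype.card_fin]⟩).2
  have hne : A 0 ≠ 0 := by
    intro h0
    have := det_eq_zero_of_row_eq_zero (A := A) 0 (congrFun h0)
    exact ((isUnit_iff_isUnit_det A).mp hu).ne_zero this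
  obtain ⟨i, hi⟩ := hsurj ⟨A 0, hne⟩
  exact ⟨i.1, eq_of_row hA (hg.pow_left i.1).eq (congrArg Subtype.val hi).symm⟩

/-- The element of order 17. -/
theorem exists_x0 : ∃ x : GL (Fin 51) (ZMod 2), x ∈ He.hGroup ∧ He.emb x = He.dec (He.sdGens51.getD 0 0) := by
  have h : He.sdGens51.getD 0 0 = wordCode (mulF2 51) He.one He.hChain (He.sdVals.getD 0 0) := by decide +kernel
  rw [h]
  exact wordCode_mem (emb := He.emb) (dec := He.dec) (mul := mulF2 51) (one := He.one) He.dec_mul He.dec_one
    He.hChain He.kLower_mem _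

/-- The element of order 17. -/
noncomputable def xZero : GL (Fin 51) (ZMod 2) := exists_x0.choose

theorem xZero_mem : xZero ∈ He.hGroup := exists_x0.choose_spec.1

theorem xZero_code : He.emb xZero = He.dec (He.sdGens51.getD 0 0) := exists_x0.choose_spec.2

/-- It moves every point but one. -/
noncomputable def moveOK (i : ℕ) : Bool :=
  i == 0 || Nat.blt (colVec 51 (mulF2 51 (He.sdGens51.getD 0 0) (He.topT.get i))) (2 ^ 51) &&
    colVec 51 (mulF2 51 (He.sdGens51.getD 0 0) (He.topT.get i)) != He.colT.get i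

theorem move_ok : allFrom 0 2058 moveOK = true := by decide +kernel

theorem xZero_ne : xZero ^ 17 = 1 ∧ xZero ≠ 1 := by
  let c := He.sdGens51.getD 0 0
  have h : (genWord (mulF2 51) He.one [c] (List.replicate 17 0) == He.one && c != He.one && canonF2 51 c) = true := by
    decide +kernel
  simp only [Bool.and_eq_true, beq_iff_eq, bne_iff_ne] at h
  refine ⟨He.emb_injective ?_, fun e => h.1.2 (decF2_injOn h.2 (by decide +kernel) ?_)⟩
  · rw [map_pow, xZero_code, ← He.dec_genWord_replicate, h.1.1, He.dec_one, map_one]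
  · show He.dec c = He.dec He.one
    rw [← xZero_code, e, map_one, He.dec_one]

variable {g : GL (Fin 51) (ZMod 2)}

/-- The centralizer fixes the point. -/
theorem cent_le_kGroup (hg : g ∈ He.heGroup) (hc : g * xZero = xZero * g) : g ∈ He.kGroup := by
  have hfac := allFrom_append (allFrom_append (allFrom_append He.top_fac0 He.top_fac1) He.top_fac2) He.top_fac3
  have hsub := exists_factor (emb := He.emb) (dec := He.dec) (mul := mulF2 51) (one := He.one) He.dec_mul He.dec_one
    (S := genSet He.emb He.dec He.topGens) (K := He.kGroup) (gens := He.topGens) (n := 2058) (T := He.topT)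
    (fac := He.topFac) (lower := [(2, He.kT), (425, He.hT), (9, He.pT), (256, He.qT)]) (by norm_num)
    (by decide +kernel) (fun s hs => hs) He.topLower_mem
    (by rw [show He.topGens.length * 2058 = 1029 + 1029 + 1029 + 1029 by decide +kernel]; exact hfac) hg
  obtain ⟨t, ⟨i, hi, ht⟩, k, hk, rfl⟩ := hsub
  show t * k ∈ He.kGroup
  replace hc : t * k * xZero = xZero * (t * k) := hc
  have hm := of_allFrom_zero move_ok hi
  simp only [moveOK, Bool.or_eq_true, Bool.and_eq_true, beq_iff_eq, bne_iff_ne, Nat.blt_eq] at hm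
  rcases hm with rfl | ⟨hlt, hne⟩
  · have h0 : He.topT.get 0 = He.one := by decide +kernel
    rw [h0, He.dec_one, ← map_one He.emb] at ht
    rw [He.emb_injective ht, one_mul]
    exact hk
  · exfalso
    have hv := congrArg (fun u : GL (Fin 51) (ZMod 2) => u.1.mulVec (Pi.single 0 1)) hc
    simp only [Units.val_mul, ← mulVec_mulVec, He.kGroup_fix hk, He.kGroup_fix (He.hGroup_le xZero_mem)] at hv
    have hcol : ∀ {u : GL (Fin 51) (ZMod 2)} {c : ℕ}, He.emb u = He.dec c →
        u.1.mulVec (Pi.single 0 1) = decVecF2 51 (colVec 51 c) := by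
      intro u c hu
      rw [decVecF2_colVec (by norm_num : 0 < 51)]
      funext j
      rw [mulVec_single_one, col_apply, ← He.emb_apply, hu]
      rfl
    have hxt : He.emb (xZero * t) = He.dec (mulF2 51 (He.sdGens51.getD 0 0) (He.topT.get i)) := by
      rw [map_mul, He.dec_mul, xZero_code, ht]
    have h1 := hcol ht
    have h2 := hcol hxt
    rw [Units.val_mul, ← mulVec_mulVec, ← hv, h1] at h2
    have hT := of_allFrom_zero He.colT_ok hi
    rw [beq_iff_eq] at hT
    have hd := of_allFrom_zero He.col_dist hi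
    simp only [distinctOK, Bool.and_eq_true, Nat.blt_eq] at hd
    rw [← hT] at hne hd
    refine hne (Nat.eq_of_testBit_eq fun m => ?_)
    rcases Nat.lt_or_ge m 51 with hm | hm
    · have := congrFun h2 ⟨m, hm⟩
      simp only [decVecF2] at this
      revert this
      generalize (colVec 51 (mulF2 51 _ _)).testBit m = p
      generalize (colVec 51 (He.topT.get i)).testBit m = q
      revert p q; decide
    · have hle : 2 ^ 51 ≤ 2 ^ m := Nat.pow_le_pow_right (by norm_num) hm
      rw [Nat.testBit_lt_two_pow (hlt.trans_le hle), Nat.testBit_lt_two_pow (hd.1.1.1.1.trans_le hle)]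

/-- The centralizer inside the symplectic subgroup. -/
theorem card_cent_hGroup :
    Nat.card (Subgroup.centralizer {xZero} ⊓ He.hGroup : Subgroup (GL (Fin 51) (ZMod 2))) ∣ 255 := by
  obtain ⟨ω, h⟩ := exists_fieldFour
  set C := (Subgroup.centralizer {xZero} ⊓ He.hGroup : Subgroup (GL (Fin 51) (ZMod 2))) with hC
  let ψ : He.hGroup →* Matrix (Fin 8) (Fin 8) (ZMod 2) := (He.embSp h).comp (He.toSp h)
  have hψ : Function.Injective ψ := (He.embSp_injective h).comp (He.toSp_bijective h).1
  let φ : C →* Matrix (Fin 8) (Fin 8) (ZMod 2) := ψ.comp (Subgroup.inclusion (inf_le_right : C ≤ He.hGroup))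
  have hφ : Function.Injective φ := hψ.comp (Subgroup.inclusion_injective _)
  have hx8 : ψ ⟨xZero, xZero_mem⟩ = decF2 8 sdEight := by
    refine (He.toSp_spec h _).trans ?_
    ext i j
    have hb := He.sd_blocks ⟨0, by decide +kernel⟩ (i, j)
    rw [He.blockOf, diagBlock, of_apply, ← He.emb_apply, xZero_code]
    have hl : He.sdGens51.getD 0 He.one = He.sdGens51.getD 0 0 := by decide +kernel
    have hl8 : He.sdGens.getD 0 He.one8 = sdEight := by decide +kernel
    simp only [hl, hl8] at hb
    exact hb
  have hgen : IsUnit (decF2 8 genEight) := by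
    have h := eight_ok
    simp only [Bool.and_eq_true, beq_iff_eq] at h
    refine IsUnit.of_pow_eq_one (n := 255) ?_ (by norm_num)
    rw [← dec_pow8, h.1.2, decF2_oneF2]
  have hrange : φ.toHomUnits.range ≤ Subgroup.zpowers hgen.unit := by
    rintro _ ⟨u, rfl⟩
    have hcomm : φ u * decF2 8 sdEight = decF2 8 sdEight * φ u := by
      rw [← hx8]
      show ψ _ * ψ _ = ψ _ * ψ _
      rw [← map_mul, ← map_mul]
      exact congrArg ψ (Subtype.ext (Subgroup.mem_centralizer_singleton_iff.mp u.2.1))
    obtain ⟨i, hi⟩ := eq_pow_gen ((φ.toHomUnits u).isUnit) hcomm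
    exact ⟨i, Units.ext (by simpa using hi.symm)⟩
  have hinj : Function.Injective φ.toHomUnits := fun a b e => hφ (congrArg Units.val e)
  rw [Nat.card_congr (MonoidHom.ofInjective hinj).toEquiv]
  refine (Subgroup.card_dvd_of_le hrange).trans ?_
  rw [Nat.card_zpowers]
  refine orderOf_dvd_of_pow_eq_one (Units.ext ?_)
  have h := eight_ok
  simp only [Bool.and_eq_true, beq_iff_eq] at h
  rw [Units.val_pow_eq_pow_val, IsUnit.unit_spec, ← dec_pow8, h.1.2, decF2_oneF2, Units.val_one]

/-- The order of the centralizer is an odd divisor of 255 or twice one. -/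
theorem card_cent_xZero :
    ∃ d, d ∣ 255 ∧ (Nat.card (Subgroup.centralizer {xZero} ⊓ He.heGroup : Subgroup (GL (Fin 51) (ZMod 2))) = d ∨
      Nat.card (Subgroup.centralizer {xZero} ⊓ He.heGroup : Subgroup (GL (Fin 51) (ZMod 2))) = 2 * d) := by
  classical
  obtain ⟨ω, h⟩ := exists_fieldFour
  refine ⟨_, card_cent_hGroup, ?_⟩
  set C := (Subgroup.centralizer {xZero} ⊓ He.heGroup : Subgroup (GL (Fin 51) (ZMod 2))) with hC
  set D := (Subgroup.centralizer {xZero} ⊓ He.hGroup : Subgroup (GL (Fin 51) (ZMod 2))) with hD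
  have hDC : D ≤ C := inf_le_inf_left _ (He.hGroup_le.trans He.kGroup_le)
  have hcomm : ∀ {u : GL (Fin 51) (ZMod 2)}, u ∈ Subgroup.centralizer {xZero} → u * xZero = xZero * u :=
    fun hu => (Subgroup.mem_centralizer_iff.mp hu xZero (Set.mem_singleton xZero)).symm
  have hK : ∀ x : C, (x : GL (Fin 51) (ZMod 2)) ∈ He.kGroup := fun x => by
    obtain ⟨h1, h2⟩ := Subgroup.mem_inf.mp x.2
    exact cent_le_kGroup h2 (hcomm h1)
  have hidx : (He.hGroup.subgroupOf He.kGroup).index = 2 := by
    have e := (He.hGroup.subgroupOf He.kGroup).card_mul_index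
    rw [Nat.card_congr (Subgroup.subgroupOfEquivOfLe He.hGroup_le).toEquiv, He.card_hGroup h, He.card_kGroup h] at e
    omega
  have hle : Nat.card C ≤ 2 * Nat.card D := by
    have h2 := card_le_of_fibres (C := C) (H := D) (ι := Bool)
      (fun x => decide ((x : GL (Fin 51) (ZMod 2)) ∈ He.hGroup)) (fun x y e => ?_)
    · rwa [show Nat.card Bool = 2 by simp] at h2
    · refine Subgroup.mem_inf.mpr ⟨mul_mem (Subgroup.mem_inf.mp x.2).1 (inv_mem (Subgroup.mem_inf.mp y.2).1), ?_⟩
      have h3 := Subgroup.mul_mem_iff_of_index_two hidx (a := (⟨x, hK x⟩ : He.kGroup)) (b := ⟨y, hK y⟩⁻¹)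
      simp only [Subgroup.mem_subgroupOf, inv_mem_iff] at h3
      exact h3.mpr (by simpa using e)
  obtain ⟨k, hk⟩ := Subgroup.card_dvd_of_le hDC
  have hp : 0 < Nat.card D := Nat.card_pos
  have hpC : 0 < Nat.card C := Nat.card_pos
  have aux : ∀ c d k : ℕ, c = d * k → c ≤ 2 * d → 0 < d → k ≤ 2 := fun c d k e h0 h1 => by subst e; nlinarith
  have hk2 : k ≤ 2 := aux _ _ _ hk hle hp
  interval_cases k
  · omega
  · left; omega
  · right; omega

end CfsgLib.HeModel
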