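import Mathlib

/-! Counting the normalizer of a Sylow subgroup of order 17 in a group of order 4030387200. -/

set_option autoImplicit false

namespace CfsgLib.HeModel

variable {G : Type*} [Group G] [Finite G]

/-- The arithmetic of the count. -/
theorem cent_arith {n c e d : ℕ} (hn : n * (c * e) = 4030387200) (hmod : n % 17 = 1) (h17 : 17 ∣ c)
    (hd : d ∣ 255) (hc : c = d ∨ c = 2 * d) (he : e ∣ 16) (he8 : 8 ∣ e) : c = 17 := by
  have key : ((List.range 256).all fun k => !(255 % k == 0) || [1, 3, 5, 15, 17, 51, 85, 255].contains k) = true := by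
    decide +kernel
  have hd' := List.all_eq_true.mp key d (List.mem_range.mpr (Nat.lt_succ_of_le (Nat.le_of_dvd (by norm_num) hd)))
  rw [show (255 % d == 0) = true from beq_iff_eq.mpr (Nat.mod_eq_zero_of_dvd hd), Bool.not_true, Bool.false_or,
    List.contains_eq_mem, decide_eq_true_eq] at hd'
  have he' : e = 8 ∨ e = 16 := by
    have : e ≤ 16 := Nat.le_of_dvd (by norm_num) he
    interval_cases e <;> first | omega | (exfalso; omega)
  simp only [List.mem_cons, List.not_mem_nil, or_false] at hd'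
  have hn' : n = 4030387200 / (c * e) := by
    rw [← hn, Nat.mul_div_cancel]
    rcases Nat.eq_zero_or_pos (c * e) with h | h
    · rw [h, Nat.mul_zero] at hn; norm_num at hn
    · exact h
  rcases hd' with rfl | rfl | rfl | rfl | rfl | rfl | rfl | rfl <;>
    rcases hc with rfl | rfl <;> rcases he' with rfl | rfl <;> first | rfl | (rw [hn'] at hmod; revert hmod h17; norm_num)

/-- If an element of order 17 has centralizer of order `d` or `2 d` with `d ∣ 255` and a second one
induces an automorphism of order 8 on it, then it is self-centralising. -/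
theorem card_cent_eq [hp : Fact (Nat.Prime 17)] (hG : Nat.card G = 4030387200) {a b : G}
    (ha : orderOf a = 17) (hb : b * a * b⁻¹ = a ^ 2) {d : ℕ} (hd : d ∣ 255)
    (hc : Nat.card (Subgroup.centralizer ({a} : Set G)) = d ∨
      Nat.card (Subgroup.centralizer ({a} : Set G)) = 2 * d) :
    Nat.card (Subgroup.centralizer ({a} : Set G)) = 17 := by
  classical
  set P := Subgroup.zpowers a with hP
  have hPc : Nat.card P = 17 := by rw [Nat.card_zpowers, ha]
  have hfac : (Nat.card G).factorization 17 = 1 := by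
    rw [hG]
    have h := Nat.factorization_mul (a := 17) (b := 237081600) (by norm_num) (by norm_num)
    rw [show (4030387200 : ℕ) = 17 * 237081600 by norm_num, h, Finsupp.add_apply,
      (show Nat.Prime 17 by norm_num).factorization_self,
      Nat.factorization_eq_zero_of_not_dvd (by norm_num : ¬ 17 ∣ 237081600)]
  let S : Sylow 17 G := Sylow.ofCard P (by rw [hPc, hfac, pow_one])
  have hn := card_sylow_modEq_one (G := G) (p := 17)
  rw [S.card_eq_index_normalizer] at hn
  have hcC : Subgroup.centralizer (P : Set G) = Subgroup.centralizer ({a} : Set G) := by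
    rw [hP, Subgroup.zpowers_eq_closure, Subgroup.centralizer_closure]
  set N := Subgroup.normalizer (P : Set G) with hN
  let φ := P.normalizerMonoidHom
  have hker : Nat.card φ.ker = Nat.card (Subgroup.centralizer ({a} : Set G)) := by
    rw [show φ.ker = (Subgroup.centralizer (P : Set G)).subgroupOf N from Subgroup.normalizerMonoidHom_ker (H := P)]
    rw [Nat.card_congr (Subgroup.subgroupOfEquivOfLe
      (show Subgroup.centralizer (P : Set G) ≤ N from Subgroup.centralizer_le_normalizer _)).toEquiv, hcC]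
  have he : Nat.card φ.range ∣ 16 := by
    have h := Subgroup.card_subgroup_dvd_card φ.range
    rwa [IsCyclic.card_mulAut, hPc, Nat.totient_prime (by norm_num : Nat.Prime 17)] at h
  have hbi : ∀ i : ℕ, b ^ i * a * (b ^ i)⁻¹ = a ^ (2 ^ i) := by
    intro i
    induction i with
    | zero => simp
    | succ i ih =>
      calc b ^ (i + 1) * a * (b ^ (i + 1))⁻¹ = b * (b ^ i * a * (b ^ i)⁻¹) * b⁻¹ := by
            rw [pow_succ']; group
        _ = (b * a * b⁻¹) ^ (2 ^ i) := by rw [ih, conj_pow]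
        _ = a ^ (2 ^ (i + 1)) := by rw [hb, ← pow_mul, pow_succ']
  have hbN : b ∈ N := by
    refine Subgroup.mem_normalizer_fintype fun v hv => ?_
    obtain ⟨k, rfl⟩ := Subgroup.mem_zpowers_iff.mp hv
    rw [← conj_zpow, hb, ← zpow_natCast, ← zpow_mul]
    exact Subgroup.mem_zpowers_iff.mpr ⟨_, rfl⟩
  have hval : ∀ i : ℕ, ((φ (⟨b, hbN⟩ ^ i)) ⟨a, Subgroup.mem_zpowers a⟩ : G) = b ^ i * a * (b ^ i)⁻¹ := fun i => rfl
  have ho : orderOf (φ ⟨b, hbN⟩) = 2 ^ (2 + 1) := by
    refine orderOf_eq_prime_pow (fun h1 => ?_) ?_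
    · have h := hval 4
      rw [map_pow, show (4 : ℕ) = 2 ^ 2 from rfl, h1, MulAut.one_apply, hbi] at h
      have h' := pow_inj_mod.mp (show a ^ 1 = a ^ 2 ^ 2 ^ 2 by rw [pow_one]; exact h)
      rw [ha] at h'
      norm_num at h'
    · rw [← map_pow]
      refine MulEquiv.ext fun ⟨v, hv⟩ => Subtype.ext ?_
      obtain ⟨k, rfl⟩ := Subgroup.mem_zpowers_iff.mp hv
      show b ^ (2 ^ (2 + 1)) * a ^ k * (b ^ (2 ^ (2 + 1)))⁻¹ = a ^ k
      rw [← conj_zpow, hbi]
      congr 1
      have h : a ^ (2 ^ 2 ^ (2 + 1)) = a ^ 1 := pow_inj_mod.mpr (by rw [ha]; norm_num)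
      rw [h, pow_one]
  have he8 : 8 ∣ Nat.card φ.range := by
    have h := orderOf_dvd_natCard (⟨φ ⟨b, hbN⟩, ⟨_, rfl⟩⟩ : φ.range)
    rwa [← Subgroup.orderOf_coe, ho] at h
  have hNcard : Nat.card N = Nat.card (Subgroup.centralizer ({a} : Set G)) * Nat.card φ.range := by
    rw [← hker, ← Subgroup.index_ker φ, Subgroup.card_mul_index]
  have hidx := Subgroup.card_mul_index N
  rw [hG, hNcard] at hidx
  have h17 : 17 ∣ Nat.card (Subgroup.centralizer ({a} : Set G)) := by
    rw [← ha, ← Subgroup.orderOf_mk a (Subgroup.mem_centralizer_singleton_iff.mpr rfl)]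
    exact orderOf_dvd_natCard _
  refine cent_arith (n := N.index) (by rw [mul_comm]; exact hidx) ?_ h17 hd hc he he8
  exact hn

omit [Finite G] in
/-- Centralizers of elements of order 17 correspond under an isomorphism with a subgroup. -/
theorem card_cent_iso {M : Type*} [Group M] (S : Subgroup M) [Finite S] (e : G ≃* S)
    (hS : Nat.card S = 4030387200) {x : G} (hx : orderOf x = 17) {y : M} (hy : y ∈ S) (hy1 : y ^ 17 = 1)
    (hy2 : y ≠ 1) :
    Nat.card (Subgroup.centralizer ({x} : Set G)) = Nat.card (Subgroup.centralizer {y} ⊓ S : Subgroup M) := by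
  have : Fact (Nat.Prime 17) := ⟨by norm_num⟩
  obtain ⟨x0, hx0v⟩ : ∃ x0 : S, (x0 : M) = y := ⟨⟨y, hy⟩, rfl⟩
  have h0 : orderOf x0 = 17 := by
    refine orderOf_eq_prime (Subtype.ext ?_) fun he => hy2 ?_
    · rw [Subgroup.coe_pow, hx0v]; exact hy1
    · rw [← hx0v, he]; rfl
  have h1 : orderOf (e x) = 17 := by rw [MulEquiv.orderOf_eq, hx]
  have hfac : (Nat.card S).factorization 17 = 1 := by
    rw [hS, show (4030387200 : ℕ) = 17 * 237081600 by norm_num,
      Nat.factorization_mul (by norm_num) (by norm_num), Finsupp.add_apply,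
      (show Nat.Prime 17 by norm_num).factorization_self,
      Nat.factorization_eq_zero_of_not_dvd (by norm_num : ¬ 17 ∣ 237081600)]
  let P0 : Sylow 17 S := Sylow.ofCard (Subgroup.zpowers x0) (by rw [Nat.card_zpowers, h0, hfac, pow_one])
  let P1 : Sylow 17 S := Sylow.ofCard (Subgroup.zpowers (e x)) (by rw [Nat.card_zpowers, h1, hfac, pow_one])
  obtain ⟨g, hg⟩ := MulAction.exists_smul_eq S P1 P0
  have hmap : g * e x * g⁻¹ ∈ Subgroup.zpowers x0 := by
    have h2 : MulAut.conj g • e x ∈ ((g • P1 : Sylow 17 S) : Subgroup S) :=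
      Set.smul_mem_smul_set (Subgroup.mem_zpowers (e x))
    rw [hg] at h2
    exact h2
  have he : Subgroup.zpowers (g * e x * g⁻¹) = Subgroup.zpowers x0 := by
    refine Subgroup.eq_of_le_of_card_ge (Subgroup.zpowers_le.mpr hmap) (le_of_eq ?_)
    rw [Nat.card_zpowers, Nat.card_zpowers, h0, ← h1]
    exact (orderOf_injective (MulAut.conj g).toMonoidHom (MulAut.conj g).injective (e x)).symm
  obtain ⟨k, hk⟩ := Subgroup.mem_zpowers_iff.mp hmap
  obtain ⟨l, hl⟩ := Subgroup.mem_zpowers_iff.mp (show x0 ∈ Subgroup.zpowers (g * e x * g⁻¹) by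
    rw [he]; exact Subgroup.mem_zpowers x0)
  refine Nat.card_congr (Equiv.ofBijective (fun u => ⟨(g * e (u : G) * g⁻¹ : S), ?_⟩) ⟨?_, ?_⟩)
  · refine Subgroup.mem_inf.mpr ⟨Subgroup.mem_centralizer_singleton_iff.mpr ?_, SetLike.coe_mem _⟩
    have hu : Commute (u : G) x := Subgroup.mem_centralizer_singleton_iff.mp u.2
    have hcm : Commute (g * e (u : G) * g⁻¹) (g * e x * g⁻¹) :=
      (hu.map e.toMonoidHom).map (MulAut.conj g).toMonoidHom
    have hcx := hcm.zpow_right l
    rw [hl] at hcx
    rw [← hx0v]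
    exact congrArg Subtype.val hcx.eq
  · intro u v huv
    have h2 : ((g * e (u : G) * g⁻¹ : S) : M) = ((g * e (v : G) * g⁻¹ : S) : M) :=
      congrArg (fun z : (Subgroup.centralizer {y} ⊓ S : Subgroup M) => (z : M)) huv
    have e' : g * e (u : G) * g⁻¹ = g * e (v : G) * g⁻¹ := Subtype.ext h2
    exact Subtype.ext (e.injective (mul_left_cancel (mul_right_cancel e')))
  · rintro ⟨w, hw⟩
    obtain ⟨hw1, hw2⟩ := Subgroup.mem_inf.mp hw
    let w' : S := ⟨w, hw2⟩
    have hcw : Commute w' x0 := Subtype.ext (by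
      have := Subgroup.mem_centralizer_singleton_iff.mp hw1
      rw [← hx0v] at this
      exact this)
    have hcw' : Commute w' (g * e x * g⁻¹) := hk ▸ hcw.zpow_right k
    have hu : Commute (e.symm (g⁻¹ * w' * g)) x := by
      have h := (hcw'.map (MulAut.conj g⁻¹).toMonoidHom).map e.symm.toMonoidHom
      simp only [MulEquiv.coe_toMonoidHom, MulAut.conj_apply, inv_inv] at h
      rwa [show g⁻¹ * (g * e x * g⁻¹) * g = e x by group, MulEquiv.symm_apply_apply] at h
    refine ⟨⟨_, Subgroup.mem_centralizer_singleton_iff.mpr hu.eq⟩, Subtype.ext ?_⟩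
    show ((g * e (e.symm (g⁻¹ * w' * g)) * g⁻¹ : S) : M) = w
    rw [MulEquiv.apply_symm_apply, show g * (g⁻¹ * w' * g) * g⁻¹ = w' by group]

end CfsgLib.HeModel
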