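import Cfsg.Agent.Lib.HeModel.CentIso
import Cfsg.Agent.Lib.HeModel.Seventeen
import Cfsg.Agent.Lib.HeModel.Sylow
import Cfsg.Agent.Lib.HeModel.OutData

/-! Elements for the automorphism group of the Held group. -/

set_option autoImplicit false

namespace CfsgLib.HeModel

open CfsgLib.Sporadic CfsgLib.Fusion48.RepTable CfsgLib.Presented

theorem mem_cent_one {G : Type*} [Group G] {a u : G} : u ∈ Subgroup.centralizer ({a} : Set G) ↔ u * a = a * u :=
  Subgroup.mem_centralizer_singleton_iff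

/-- Powers of a code. -/
noncomputable def cpow (c : ℕ) : ℕ → ℕ := fun n => Nat.rec idC (fun _ r => mulF2 51 r c) n

theorem rep_cpow {c : ℕ} {x : Cfsg.Spor.He} (hx : code.Rep c x) : ∀ n, code.Rep (cpow c n) (x ^ n)
  | 0 => by rw [pow_zero]; exact code.rep_one
  | n + 1 => by rw [pow_succ]; exact code.rep_mul (rep_cpow hx n) hx

theorem x_ok : (word xWord == xTab && cpow xTab 17 == idC && xTab != idC && cpow xTab 3 == xTab3 &&
    mulF2 51 bTab xTab == mulF2 51 (cpow xTab 2) bTab && cpow bTab 4 == zC) = true := by decide +kernel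

theorem pair_ok : (hi (code2.mul (cqTab.getD bPair.1 code2.one) (ctTab.getD bPair.2 code2.one)) == bTab &&
    lo (code2.mul (cqTab.getD bPair.1 code2.one) (ctTab.getD bPair.2 code2.one)) == bSmall &&
    lcTab == lcPairs.map fun p => hi (code2.mul (cqTab.getD p.1 code2.one) (ctTab.getD p.2 code2.one))) = true := by
  decide +kernel

/-- What is checked at a pair. -/
noncomputable def pairLcOK (a i : ℕ) : Bool :=
  !(mulF2 5 (mulF2 5 (lo (cqTab.getD a code2.one)) (lo (ctTab.getD i code2.one))) bSmall ==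
      mulF2 5 (mulF2 5 (mulF2 5 bSmall bSmall) bSmall) (mulF2 5 (lo (cqTab.getD a code2.one)) (lo (ctTab.getD i code2.one)))) ||
    lcPairs.contains (a, i)

theorem lc0 : allFrom 0 5376 (fun v => pairLcOK (v % 128) (v / 128)) = true := by decide +kernel
theorem lc1 : allFrom 5376 5376 (fun v => pairLcOK (v % 128) (v / 128)) = true := by decide +kernel
theorem lc2 : allFrom 10752 5376 (fun v => pairLcOK (v % 128) (v / 128)) = true := by decide +kernel
theorem lc3 : allFrom 16128 5376 (fun v => pairLcOK (v % 128) (v / 128)) = true := by decide +kernel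

theorem xExists : ∃ x, code.Rep xTab x := by
  have h := x_ok
  simp only [Bool.and_eq_true, beq_iff_eq] at h
  rw [← h.1.1.1.1.1]
  exact exists_word _

/-- The element of order 17. -/
noncomputable def xEl : Cfsg.Spor.He := xExists.choose

theorem xEl_rep : code.Rep xTab xEl := xExists.choose_spec

theorem orderOf_xEl : orderOf xEl = 17 := by
  have h := x_ok
  simp only [Bool.and_eq_true, beq_iff_eq, bne_iff_ne] at h
  have : Fact (Nat.Prime 17) := ⟨by norm_num⟩
  have h17 := rep_cpow xEl_rep 17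
  rw [h.1.1.1.1.2] at h17
  refine orderOf_eq_prime (code.rep_uniq h17 code.rep_one) fun e => ?_
  exact h.1.1.1.2 (code.rep_code xEl_rep (e ▸ code.rep_one))

theorem pair_elem (a i : ℕ) : ∃ p ∈ pairs,
    code2.Rep (code2.mul (cqTab.getD a code2.one) (ctTab.getD i code2.one)) p := by
  obtain ⟨hq1, -, -⟩ := tab_spec code2 exists_cq cq_tab_ok
  obtain ⟨t, ht, htr⟩ := ct_facts.2.2 i
  rcases getD_cases cqTab a code2.one with ha | ha
  · obtain ⟨q, hq, hqr⟩ := hq1 _ ha
    exact ⟨q * t, mul_mem (qPairs_le hq) ht, code2.rep_mul hqr htr⟩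
  · rw [ha]
    exact ⟨1 * t, by rw [one_mul]; exact ht, code2.rep_mul code2.rep_one htr⟩

/-- The pair of the element of order 8. -/
noncomputable def bP : Cfsg.Spor.He × SL5 := (pair_elem bPair.1 bPair.2).choose

theorem bP_mem : bP ∈ pairs := (pair_elem bPair.1 bPair.2).choose_spec.1

theorem bP_rep : code.Rep bTab bP.1 ∧ Rep5 bSmall bP.2 := by
  have h := pair_ok
  simp only [Bool.and_eq_true, beq_iff_eq] at h
  have hr := (pair_elem bPair.1 bPair.2).choose_spec.2
  exact ⟨h.1.1 ▸ hr.1, h.1.2 ▸ hr.2⟩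

/-- The element of order 8. -/
noncomputable def bEl : Cfsg.Spor.He := bP.1

theorem conj_x : bEl * xEl * bEl⁻¹ = xEl ^ 2 := by
  have h := x_ok
  simp only [Bool.and_eq_true, beq_iff_eq] at h
  exact conj_eq code bP_rep.1 xEl_rep (rep_cpow xEl_rep 2) h.1.2

theorem b_four : bEl ^ 4 = zEl := by
  have h := x_ok
  simp only [Bool.and_eq_true, beq_iff_eq] at h
  exact code.rep_uniq (h.2 ▸ rep_cpow bP_rep.1 4) zEl_rep

/-- The elements acting on it like the third generator. -/
noncomputable def lcEl (j : ℕ) : Cfsg.Spor.He :=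
  (pair_elem (lcPairs.getD j (0, 0)).1 (lcPairs.getD j (0, 0)).2).choose.1

theorem lcEl_rep {j : ℕ} (hj : j < lcPairs.length) : code.Rep (lcTab.getD j 0) (lcEl j) := by
  have h := pair_ok
  simp only [Bool.and_eq_true, beq_iff_eq] at h
  have hr := (pair_elem (lcPairs.getD j (0, 0)).1 (lcPairs.getD j (0, 0)).2).choose_spec.2.1
  rw [h.2, List.getD_eq_getElem _ _ (by rw [List.length_map]; exact hj), List.getElem_map,
    ← List.getD_eq_getElem lcPairs (0, 0) hj]
  exact hr

theorem exists_sEl : ∃ s : SL5, mat s = decF2 5 sC := by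
  obtain ⟨s, hs⟩ := exists_sl (a := sC) (b := sC) (by decide +kernel) (by decide +kernel)
  exact ⟨s, hs.2⟩

theorem exists_pair {x : Cfsg.Spor.He} (hx : x * zEl = zEl * x) : ∃ p ∈ pairs, p.1 = x := by
  obtain ⟨s, hs⟩ := exists_sEl
  obtain ⟨-, ⟨e⟩⟩ := cent_iso s (hs.trans sC_eq)
  let f : pairs →* Subgroup.centralizer ({zEl} : Set Cfsg.Spor.He) :=
    MonoidHom.codRestrict ((MonoidHom.fst _ _).comp pairs.subtype) _
      (fun y => Subgroup.mem_centralizer_singleton_iff.mpr (cent_mem y.2 hs).1)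
  have hf : Function.Injective f := (injective_iff_map_eq_one f).mpr fun y hy =>
    Subtype.ext (pairs_sep y.2 (Or.inl (congrArg Subtype.val hy)))
  have hge := card_pairs_ge s hs
  have hle := card_cent_sl (hs.trans sC_eq)
  have hc := Nat.card_congr e.toEquiv
  have hb : Function.Bijective f := (Nat.bijective_iff_injective_and_card f).mpr
    ⟨hf, le_antisymm (Nat.card_le_card_of_injective _ hf) (by omega)⟩
  obtain ⟨y, hy⟩ := hb.2 ⟨x, Subgroup.mem_centralizer_singleton_iff.mpr hx⟩
  exact ⟨y.1, y.2, congrArg Subtype.val hy⟩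

/-- The complete list. -/
theorem lc_complete {x : Cfsg.Spor.He} (hx : x * bEl * x⁻¹ = bEl ^ 3) :
    ∃ j < lcPairs.length, x = lcEl j := by
  have hz : x * zEl = zEl * x := by
    have h1 : x * zEl * x⁻¹ = zEl := by
      have hz2 : bEl ^ 8 = 1 := by
        rw [show (8 : ℕ) = 4 * 2 from rfl, pow_mul, b_four, sq]
        have hm : gens.getD 3 idC ∈ gens := by
          rw [List.getD_eq_getElem _ _ (by rw [gens_facts.1]; norm_num)]; exact List.getElem_mem _
        refine code.rep_uniq ?_ code.rep_one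
        have h := code.rep_mul zEl_rep zEl_rep
        rwa [show code.mul zC zC = code.one from (gens_facts.2.1 _ hm).2] at h
      calc x * zEl * x⁻¹ = (x * bEl * x⁻¹) ^ 4 := by rw [conj_pow, b_four]
        _ = bEl ^ 4 * bEl ^ 8 := by rw [hx, ← pow_mul, ← pow_add]
        _ = zEl := by rw [hz2, mul_one, b_four]
    exact (mul_inv_eq_iff_eq_mul.mp h1)
  obtain ⟨p, hp, rfl⟩ := exists_pair hz
  obtain ⟨q, hq, i, hi, t, ht, rfl⟩ := pairs_cover hp
  obtain ⟨-, hq2, -⟩ := tab_spec code2 exists_cq cq_tab_ok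
  obtain ⟨c, hc, hr⟩ := (hq2 q).mp hq
  obtain ⟨a, ha, rfl⟩ := List.getElem_of_mem hc
  have e : (q * t) * bP * (q * t)⁻¹ = bP ^ 3 := by
    refine mul_inv_eq_one.mp (pairs_sep (mul_mem (mul_mem (mul_mem hp bP_mem) (inv_mem hp))
      (inv_mem (pow_mem bP_mem 3))) (Or.inl ?_))
    simp only [Prod.fst_mul, Prod.fst_inv, Prod.pow_fst]
    exact mul_inv_eq_one.mpr hx
  have e5 : mat (q * t).2 * mat bP.2 = mat bP.2 * mat bP.2 * mat bP.2 * mat (q * t).2 := by
    have := congrArg (fun u : Cfsg.Spor.He × SL5 => mat u.2) (mul_inv_eq_iff_eq_mul.mp e)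
    simpa only [Prod.snd_mul, Prod.pow_snd, mat_mul, pow_succ, pow_zero, one_mul, mul_assoc] using this
  rw [← List.getD_eq_getElem cqTab code2.one ha] at hr
  have hl : cqTab.length = 128 := by decide +kernel
  have hv := of_allFrom_zero (allFrom_append (allFrom_append (allFrom_append lc0 lc1) lc2) lc3)
    (i := i * 128 + a) (by omega)
  rw [show (i * 128 + a) % 128 = a by omega, show (i * 128 + a) / 128 = i by omega] at hv
  simp only [pairLcOK, Bool.or_eq_true, Bool.not_eq_true', beq_eq_false_iff_ne, List.contains_eq_mem,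
    decide_eq_true_eq] at hv
  have hmem : (a, i) ∈ lcPairs := hv.resolve_left fun hne => hne (decF2_injOn (canon_mul5 _ _) (canon_mul5 _ _) (by
    simp only [decF2_mulF2]
    rw [← hr.2.2, ← ht.2.2, ← bP_rep.2.2, ← mat_mul q.2 t.2]
    exact e5))
  obtain ⟨j, hj, he⟩ := List.getElem_of_mem hmem
  refine ⟨j, hj, ?_⟩
  have hj' : lcPairs.getD j (0, 0) = (a, i) := (List.getD_eq_getElem _ _ hj).trans he
  have h := (pair_elem (lcPairs.getD j (0, 0)).1 (lcPairs.getD j (0, 0)).2).choose_spec.2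
  unfold lcEl
  generalize hP : (pair_elem (lcPairs.getD j (0, 0)).1 (lcPairs.getD j (0, 0)).2).choose = P at h
  rw [hj'] at h
  exact congrArg Prod.fst (code2.rep_uniq (code2.rep_mul hr ht) h)

theorem card_cent_xEl : Nat.card (Subgroup.centralizer ({xEl} : Set Cfsg.Spor.He)) = 17 := by
  classical
  have : Fact (Nat.Prime 17) := ⟨by norm_num⟩
  obtain ⟨d, hd, hc⟩ := card_cent_xZero
  have hG : Nat.card He.heGroup = 4030387200 := by rw [← Nat.card_congr heIso.toEquiv, HeOrder.card_eq]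
  have hle := card_cent_iso He.heGroup heIso hG orderOf_xEl (y := xZero)
    (He.kGroup_le (He.hGroup_le xZero_mem)) xZero_ne.1 xZero_ne.2
  exact card_cent_eq HeOrder.card_eq orderOf_xEl conj_x hd (hle ▸ hc)

theorem hC_xEl : ∀ x : Cfsg.Spor.He, x * xEl * x⁻¹ = xEl → ∃ i : ℕ, x = xEl ^ i := by
  intro x hx
  have hle : Subgroup.zpowers xEl ≤ Subgroup.centralizer ({xEl} : Set Cfsg.Spor.He) :=
    Subgroup.zpowers_le.mpr (Subgroup.mem_centralizer_singleton_iff.mpr rfl)
  have he := Subgroup.eq_of_le_of_card_ge hle (by rw [card_cent_xEl, Nat.card_zpowers, orderOf_xEl])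
  have hm : x ∈ Subgroup.zpowers xEl :=
    he ▸ Subgroup.mem_centralizer_singleton_iff.mpr (mul_inv_eq_iff_eq_mul.mp hx)
  obtain ⟨i, -, hi⟩ := mem_zpowers_iff_exists_lt (orderOf_pos xEl) |>.mp hm
  exact ⟨i, hi.symm⟩
where
  mem_zpowers_iff_exists_lt {y : Cfsg.Spor.He} {a : Cfsg.Spor.He} (_ : 0 < orderOf a) :
      y ∈ Subgroup.zpowers a ↔ ∃ i, i < orderOf a ∧ a ^ i = y := by
    constructor
    · intro h
      obtain ⟨n, hn⟩ := (isOfFinOrder_of_finite a).mem_powers_iff_mem_zpowers.mpr h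
      exact ⟨n % orderOf a, Nat.mod_lt _ (orderOf_pos a), by rw [pow_mod_orderOf]; exact hn⟩
    · rintro ⟨i, -, rfl⟩
      exact Subgroup.pow_mem _ (Subgroup.mem_zpowers a) i

end CfsgLib.HeModel
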