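import Cfsg.Agent.Lib.HeModel.OutElems
import Cfsg.Agent.Lib.Schur.OutRigid

/-! The outer automorphism group of the Held group has order two. -/

set_option autoImplicit false

namespace CfsgLib.HeModel

open CfsgLib.Sporadic CfsgLib.Fusion48.RepTable CfsgLib.Presented CfsgLib.Schur

/-- The code of the value of a word in three elements. -/
noncomputable def evC (a b c : ℕ) : List ℕ → ℕ
  | [] => idC
  | i :: w => mulF2 51 ([a, b, c].getD i idC) (evC a b c w)

theorem rep_evC {a b c : ℕ} {x y z : Cfsg.Spor.He} (ha : code.Rep a x) (hb : code.Rep b y) (hc : code.Rep c z) :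
    ∀ w, code.Rep (evC a b c w) (evalThree x y z w)
  | [] => code.rep_one
  | i :: w => by
    refine code.rep_mul ?_ (rep_evC ha hb hc w)
    rcases i with _ | _ | _ | i
    · exact ha
    · exact hb
    · exact hc
    · exact code.rep_one

theorem bEl_rep : code.Rep bTab bEl := bP_rep.1

theorem rep_congr {a b : ℕ} {x : Cfsg.Spor.He} (h : a = b) (hx : code.Rep a x) : code.Rep b x := h ▸ hx

/-- The relations separating the candidates. -/
def outRels : List (List ℕ × ℕ) := [([2], 2), ([0, 2], 8)]

/-- What is checked at a candidate. -/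
noncomputable def candOK (j l : ℕ) : Bool :=
  !(outRels.all fun r => cpow (evC (cpow xTab j) bTab (lcTab.getD l 0) r.1) r.2 == idC) ||
    (j == 1 && l == cPos) || (j == 3 && l == cPos2)

theorem cand_ok : (lcPairs.length == 16 && Nat.blt cPos 16 && Nat.blt cPos2 16 &&
    (List.range 16).all (fun l => candOK 1 l && candOK 3 l) &&
    outRels.all (fun r => cpow (evC xTab bTab (lcTab.getD cPos 0) r.1) r.2 == idC) &&
    mulF2 51 (lcTab.getD cPos 0) bTab == mulF2 51 (cpow bTab 3) (lcTab.getD cPos 0)) = true := by decide +kernel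

theorem prog_ok : slpOK code.mul code.one [xTab, bTab, lcTab.getD cPos 0] outVals outProg = true := by decide +kernel

theorem prog2_ok : slpOK code.mul code.one [xTab3, bTab, lcTab.getD cPos2 0] outVals2 outProg = true := by
  decide +kernel

theorem gens_prog : ((List.range 7).all fun i => outVals.getD (outPos.getD i 0) idC == gens.getD i idC) = true := by
  decide +kernel

/-- The image of a generator. -/
noncomputable def sImg (i : ℕ) : ℕ := outVals2.getD (outPos.getD i 0) idC

/-- The value of a word in the images. -/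
noncomputable def wordS (w : List ℕ) : ℕ := w.foldr (fun i a => mulF2 51 (sImg i) a) idC

theorem sImg_ok : (HeCert.relWords.all (fun w => wordS w == idC) &&
    (List.range 7).all (fun i => mulF2 51 (sImg i) (sImg i) == idC)) = true := by decide +kernel

theorem trace_ne : (decF2 51 (word traceWord)).trace ≠ (decF2 51 (wordS traceWord)).trace := by decide +kernel

theorem trace_lt : traceWord.all (fun x => Nat.blt x 7) = true := by decide +kernel

theorem cand_facts : lcPairs.length = 16 ∧ cPos < 16 ∧ cPos2 < 16 ∧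
    (∀ l < 16, candOK 1 l = true ∧ candOK 3 l = true) ∧
    (∀ r ∈ outRels, cpow (evC xTab bTab (lcTab.getD cPos 0) r.1) r.2 = idC) ∧
    mulF2 51 (lcTab.getD cPos 0) bTab = mulF2 51 (cpow bTab 3) (lcTab.getD cPos 0) := by
  have h := cand_ok
  simp only [Bool.and_eq_true, beq_iff_eq, Nat.blt_eq, List.all_eq_true, List.mem_range] at h
  exact ⟨h.1.1.1.1.1, h.1.1.1.1.2, h.1.1.1.2, h.1.1.2, h.1.2, h.2⟩

/-- The third generator. -/
noncomputable def cEl : Cfsg.Spor.He := lcEl cPos

/-- Its image. -/
noncomputable def cEl2 : Cfsg.Spor.He := lcEl cPos2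

theorem cEl_rep : code.Rep (lcTab.getD cPos 0) cEl := lcEl_rep (by rw [cand_facts.1]; exact cand_facts.2.1)

theorem cEl2_rep : code.Rep (lcTab.getD cPos2 0) cEl2 := lcEl_rep (by rw [cand_facts.1]; exact cand_facts.2.2.1)

theorem xTab3_rep : code.Rep xTab3 (xEl ^ 3) := by
  have h := x_ok
  simp only [Bool.and_eq_true, beq_iff_eq] at h
  exact h.1.1.2 ▸ rep_cpow xEl_rep 3

theorem gen_top3 : Subgroup.closure {xEl, bEl, cEl} = (⊤ : Subgroup Cfsg.Spor.He) := by
  set S := Subgroup.closure {xEl, bEl, cEl} with hS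
  let sub : Coded S :=
    { Rep := fun a x => code.Rep a (x : Cfsg.Spor.He)
      mul := code.mul
      one := code.one
      rep_one := code.rep_one
      rep_mul := fun ha hb => code.rep_mul ha hb
      rep_uniq := fun ha hb => Subtype.ext (code.rep_uniq ha hb)
      rep_code := fun ha hb => code.rep_code ha hb }
  have hbase : ∀ c ∈ [xTab, bTab, lcTab.getD cPos 0], ∃ x, sub.Rep c x := by
    intro c hc
    simp only [List.mem_cons, List.not_mem_nil, or_false] at hc
    rcases hc with rfl | rfl | rfl
    · exact ⟨⟨xEl, Subgroup.subset_closure (Or.inl rfl)⟩, xEl_rep⟩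
    · exact ⟨⟨bEl, Subgroup.subset_closure (Or.inr (Or.inl rfl))⟩, bEl_rep⟩
    · exact ⟨⟨cEl, Subgroup.subset_closure (Or.inr (Or.inr rfl))⟩, cEl_rep⟩
  rw [eq_top_iff, ← PresentedGroup.closure_range_of, Subgroup.closure_le]
  rintro _ ⟨a, rfl⟩
  obtain ⟨x, hx⟩ := slp_spec sub hbase prog_ok (outPos.getD (HeCosets.idxOf a) 0)
  have h7 : HeCosets.idxOf a < 7 := by cases a <;> decide
  have he := beq_iff_eq.mp (List.all_eq_true.mp gens_prog _ (List.mem_range.mpr h7))
  exact code.rep_uniq (show code.Rep _ (x : Cfsg.Spor.He) from hx) (he ▸ rep_gen a) ▸ x.2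

theorem card_out_le_two : Nat.card (Cfsg.Out Cfsg.Spor.He) ≤ 2 := by
  classical
  have : Fact (Nat.Prime 17) := ⟨by norm_num⟩
  have hcb : cEl * bEl * cEl⁻¹ = bEl ^ 3 :=
    conj_eq code cEl_rep bEl_rep (rep_cpow bEl_rep 3) cand_facts.2.2.2.2.2
  refine card_out_le xEl bEl cEl 17 2 3 orderOf_xEl (by rw [HeOrder.card_eq]; norm_num) hC_xEl conj_x
    (by norm_num) [1, 3] ?_ hcb ((List.range 16).map lcEl) ?_ gen_top3 outRels ?_ [(1, cEl), (3, cEl2)] ?_
  · have key : ((List.range 17).all fun j => j == 0 || (List.range 8).any fun i => [1, 3].contains (j * 2 ^ i % 17)) = true := by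
      decide +kernel
    intro j hj hj0
    have h := List.all_eq_true.mp key j (List.mem_range.mpr hj)
    simp only [Bool.or_eq_true, beq_iff_eq, hj0, false_or, List.any_eq_true, List.contains_eq_mem,
      decide_eq_true_eq] at h
    obtain ⟨i, -, hi⟩ := h
    exact ⟨i, hi⟩
  · intro x hx
    obtain ⟨j, hj, rfl⟩ := lc_complete hx
    exact List.mem_map.mpr ⟨j, List.mem_range.mpr (cand_facts.1 ▸ hj), rfl⟩
  · intro r hr
    exact code.rep_uniq (rep_congr (cand_facts.2.2.2.2.1 r hr) (rep_cpow (rep_evC xEl_rep bEl_rep cEl_rep r.1) r.2)) code.rep_one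
  · intro j hj x hx hR
    obtain ⟨l, hl, rfl⟩ := List.mem_map.mp hx
    rw [List.mem_range] at hl
    have hall : (outRels.all fun r => cpow (evC (cpow xTab j) bTab (lcTab.getD l 0) r.1) r.2 == idC) = true := by
      refine List.all_eq_true.mpr fun r hr => beq_iff_eq.mpr ?_
      refine code.rep_code (rep_cpow (rep_evC (rep_cpow xEl_rep j) bEl_rep
        (lcEl_rep (by rw [cand_facts.1]; exact hl)) r.1) r.2) ?_
      rw [hR r hr]
      exact code.rep_one
    obtain ⟨h1, h3⟩ := cand_facts.2.2.2.1 l hl
    simp only [List.mem_cons, List.not_mem_nil, or_false] at hj ⊢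
    rcases hj with rfl | rfl
    · simp only [candOK, hall, Bool.not_true, Bool.false_or, Bool.or_eq_true, Bool.and_eq_true, beq_iff_eq] at h1
      rcases h1 with ⟨-, rfl⟩ | ⟨h, -⟩
      · exact Or.inl rfl
      · exact absurd h (by norm_num)
    · simp only [candOK, hall, Bool.not_true, Bool.false_or, Bool.or_eq_true, Bool.and_eq_true, beq_iff_eq] at h3
      rcases h3 with ⟨h, -⟩ | ⟨-, rfl⟩
      · exact absurd h (by norm_num)
      · exact Or.inr rfl

theorem exists_sImg (i : ℕ) : ∃ x, code.Rep (sImg i) x := by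
  refine slp_spec code (fun c hc => ?_) prog2_ok (outPos.getD i 0)
  simp only [List.mem_cons, List.not_mem_nil, or_false] at hc
  rcases hc with rfl | rfl | rfl
  · exact ⟨_, xTab3_rep⟩
  · exact ⟨_, bEl_rep⟩
  · exact ⟨_, cEl2_rep⟩

/-- The image of a generator. -/
noncomputable def sEl (g : Cfsg.Spor.He.Gen) : Cfsg.Spor.He := (exists_sImg (HeCosets.idxOf g)).choose

theorem sEl_rep (g : Cfsg.Spor.He.Gen) : code.Rep (sImg (HeCosets.idxOf g)) (sEl g) :=
  (exists_sImg (HeCosets.idxOf g)).choose_spec

theorem wordS_rep : ∀ w : List ℕ, (∀ x ∈ w, x < 7) →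
    code.Rep (wordS w) (evW (HeCosets.letters.ev sEl) w) := by
  intro w
  induction w with
  | nil => intro _; exact code.rep_one
  | cons x w ih =>
    intro h
    rw [evW_cons]
    refine code.rep_mul ?_ (ih fun y hy => h y (List.mem_cons_of_mem _ hy))
    rw [show HeCosets.letters.ev sEl x = (exists_sImg x).choose from
      ev_any (fun i => (exists_sImg i).choose) (h x List.mem_cons_self)]
    exact (exists_sImg x).choose_spec

theorem sEl_kills : ∀ r ∈ Cfsg.Spor.coxRelators Cfsg.Spor.He.edges ∪ {r | r ∈ Cfsg.Spor.He.extra},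
    FreeGroup.lift sEl r = 1 := by
  have h := sImg_ok
  simp only [Bool.and_eq_true, List.all_eq_true, beq_iff_eq, List.mem_range] at h
  have hw : ∀ w ∈ HeCert.relWords, evW (HeCosets.letters.ev sEl) w = 1 := by
    intro w hw
    have hlt := List.all_eq_true.mp (List.all_eq_true.mp relWords_lt w hw)
    exact code.rep_uniq (rep_congr (h.1 w hw) (wordS_rep w fun x hx => by simpa [Nat.blt_eq] using hlt x hx)) code.rep_one
  refine Letters.kills HeCosets.letters_valid HeCosets.nodes_valid HeCosets.full (fun g _ => ?_)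
    (fun w h => hw w (HeCosets.relWords_eq ▸ List.mem_append.2 (Or.inl h)))
    (fun w h => hw w (HeCosets.relWords_eq ▸ List.mem_append.2 (Or.inr h)))
  have h7 : HeCosets.idxOf g < 7 := by cases g <;> decide
  exact code.rep_uniq (rep_congr (h.2 _ h7) (code.rep_mul (sEl_rep g) (sEl_rep g))) code.rep_one

/-- The outer automorphism as a homomorphism. -/
noncomputable def sigma : Cfsg.Spor.He →* Cfsg.Spor.He := PresentedGroup.toGroup sEl_kills

theorem gen_word_rep : ∀ w : List ℕ, (∀ x ∈ w, x < 7) →
    code.Rep (word w) (evW (HeCosets.letters.ev fun g => (PresentedGroup.of g : Cfsg.Spor.He)) w) := by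
  intro w
  induction w with
  | nil => intro _; exact code.rep_one
  | cons x w ih =>
    intro h
    rw [evW_cons]
    refine code.rep_mul ?_ (ih fun y hy => h y (List.mem_cons_of_mem _ hy))
    have hx := h x List.mem_cons_self
    have h7 : HeCert.alphabet.eps = 7 := rfl
    rw [Letters.ev, if_pos (show x < HeCosets.letters.A.eps from h7.symm ▸ hx)]
    interval_cases x
    exacts [rep_gen Cfsg.Spor.He.Gen.a, rep_gen Cfsg.Spor.He.Gen.b, rep_gen Cfsg.Spor.He.Gen.c,
      rep_gen Cfsg.Spor.He.Gen.d, rep_gen Cfsg.Spor.He.Gen.e, rep_gen Cfsg.Spor.He.Gen.f, rep_gen Cfsg.Spor.He.Gen.g]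

theorem sigma_word : ∀ w : List ℕ, (∀ x ∈ w, x < 7) →
    sigma (evW (HeCosets.letters.ev fun g => (PresentedGroup.of g : Cfsg.Spor.He)) w) =
      evW (HeCosets.letters.ev sEl) w := by
  intro w
  induction w with
  | nil => intro _; exact map_one _
  | cons x w ih =>
    intro h
    rw [evW_cons, evW_cons, map_mul, ih fun y hy => h y (List.mem_cons_of_mem _ hy)]
    congr 1
    have hx := h x List.mem_cons_self
    have h7 : HeCert.alphabet.eps = 7 := rfl
    rw [Letters.ev, Letters.ev, if_pos (show x < HeCosets.letters.A.eps from h7.symm ▸ hx),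
      if_pos (show x < HeCosets.letters.A.eps from h7.symm ▸ hx)]
    interval_cases x <;> exact PresentedGroup.toGroup.of _

theorem sigma_bijective : Function.Bijective sigma := by
  have := HeSimple.simple
  refine Finite.injective_iff_bijective.mp ((MonoidHom.ker_eq_bot_iff sigma).mp ?_)
  refine ((MonoidHom.normal_ker sigma).eq_bot_or_eq_top).resolve_right fun htop => ?_
  have hlt : ∀ x ∈ traceWord, x < 7 := fun x hx => by simpa [Nat.blt_eq] using List.all_eq_true.mp trace_lt x hx
  have hall : ∀ g, sigma g = 1 := fun g => MonoidHom.mem_ker.mp (htop ▸ Subgroup.mem_top g)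
  have hne : (sImg 0 == idC) = false := by decide +kernel
  have h0 : sEl Cfsg.Spor.He.Gen.a = 1 := (PresentedGroup.toGroup.of sEl_kills).symm.trans (hall _)
  have e := code.rep_code (sEl_rep Cfsg.Spor.He.Gen.a) (h0 ▸ code.rep_one)
  rw [show HeCosets.idxOf Cfsg.Spor.He.Gen.a = 0 from rfl] at e
  rw [e] at hne
  exact Bool.noConfusion ((beq_self_eq_true idC).symm.trans hne)

theorem trace_conj {n R : Type*} [Fintype n] [DecidableEq n] [CommRing R] (u : GL n R) (A : Matrix n n R) :
    (u.1 * A * (u⁻¹ : GL n R).1).trace = A.trace := by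
  rw [Matrix.trace_mul_cycle, Units.inv_mul, one_mul]

theorem sigma_not_inner : MulEquiv.ofBijective sigma sigma_bijective ∉ Cfsg.Inn Cfsg.Spor.He := by
  rintro ⟨g, hg⟩
  have hlt : ∀ x ∈ traceWord, x < 7 := fun x hx => by simpa [Nat.blt_eq] using List.all_eq_true.mp trace_lt x hx
  set u := evW (HeCosets.letters.ev fun g => (PresentedGroup.of g : Cfsg.Spor.He)) traceWord with hu
  have h1 : sigma u = g * u * g⁻¹ := (DFunLike.congr_fun hg u).symm
  have h2 := gen_word_rep traceWord hlt
  have h3 := wordS_rep traceWord hlt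
  rw [← sigma_word traceWord hlt, ← hu, h1] at h3
  apply trace_ne
  rw [← h2.2, ← h3.2, map_mul, map_mul, map_inv, Units.val_mul, Units.val_mul, trace_conj]

/-- The outer automorphism group has order two. -/
theorem card_out : Nat.card (Cfsg.Out Cfsg.Spor.He) = 2 :=
  le_antisymm card_out_le_two (two_le_card_out _ sigma_not_inner)

end CfsgLib.HeModel
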